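import Groth.Agent.RDerLES
import Groth.Agent.S16465
import Groth.Agent.S6774
import Groth.Agent.DFBasic
import Mathlib.Algebra.Homology.DerivedCategory.Ext.ExactSequences
import Mathlib.Algebra.Homology.DerivedCategory.Ext.EnoughInjectives
import Mathlib.Algebra.Homology.HomologySequenceLemmas
import Mathlib.Algebra.Homology.GrothendieckAbelian
import Mathlib.Algebra.Category.Grp.AB
import Mathlib.Algebra.Category.Grp.EnoughInjectives
import Mathlib.CategoryTheory.Abelian.GrothendieckCategory.EnoughInjectives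
import Mathlib.Algebra.Homology.HomologicalComplexBiprod
import Mathlib.CategoryTheory.Preadditive.Yoneda.Limits

/-!
`Ext` is the derived functor of `Hom`, and homology is the derived functor of `H⁰` on nonnegative
cochain complexes.
-/

set_option autoImplicit false

universe v u

open CategoryTheory CategoryTheory.Limits

namespace Groth.Agent.HyperLib.DerivedHom

/-- An effaceable delta functor whose degree zero part is a left exact functor gives its derived
functors. -/
theorem nonempty_rightDerived_iso {A : Type*} [Category* A] [Abelian A] [HasInjectiveResolutions A]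
    {B : Type*} [Category* B] [Abelian B] (F : A ⥤ B) [F.Additive] [PreservesFiniteLimits F]
    (Δ : DeltaF.CohDeltaFunctor A B ℕ) (hΔ : Δ.IsEffaceable) (e : F ≅ Δ.F 0) (n : ℕ) :
    Nonempty (F.rightDerived n ≅ Δ.F n) := by
  let D := RDerLES.derivedLES F
  obtain ⟨φ, -⟩ := Groth.Agent.S6774.result D.toCohDeltaFunctor Δ
    (Groth.Agent.S16465.result F D) (DFBasic.isUniversal hΔ) (F.rightDerivedZeroIsoSelf ≪≫ e)
  exact ⟨{ hom := φ.hom.app n
           inv := φ.inv.app n
           hom_inv_id := congrArg (fun t => t.app n) φ.hom_inv_id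
           inv_hom_id := congrArg (fun t => t.app n) φ.inv_hom_id }⟩

section Ext

variable {A : Type u} [Category.{v} A] [Abelian A] [HasExt.{v} A] (M : A)

open Abelian

/-- `Ext (M, -)` as a delta functor. -/
noncomputable def extDelta : DeltaF.CohDeltaFunctor A AddCommGrpCat.{v} ℕ where
  F n := extFunctorObj M n
  additive n := { map_add := fun {X Y f g} => by
                    ext x
                    change x.comp (Ext.mk₀ (f + g)) (add_zero n) =
                      x.comp (Ext.mk₀ f) (add_zero n) + x.comp (Ext.mk₀ g) (add_zero n)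
                    rw [Ext.mk₀_add, Ext.comp_add] }
  δ S hS n₀ n₁ h := AddCommGrpCat.ofHom (hS.extClass.postcomp M h)
  δ_natural {S S'} hS hS' φ n₀ n₁ h := by
    ext x
    change (x.comp (Ext.mk₀ φ.τ₃) (add_zero n₀)).comp hS'.extClass h =
      (x.comp hS.extClass h).comp (Ext.mk₀ φ.τ₁) (add_zero n₁)
    rw [Ext.comp_assoc_of_second_deg_zero, Ext.comp_assoc_of_third_deg_zero,
      ← ShortComplex.ShortExact.extClass_naturality hS hS' φ]
  exact₂ S hS n := Ext.covariant_sequence_exact₂' M hS n
  comp_δ S hS n₀ n₁ h := by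
    ext x
    change (x.comp (Ext.mk₀ S.g) (add_zero n₀)).comp hS.extClass h = 0
    rw [Ext.comp_assoc_of_second_deg_zero, ShortComplex.ShortExact.comp_extClass, Ext.comp_zero]
  exact₃ S hS n₀ n₁ h := Ext.covariant_sequence_exact₃' M hS n₀ n₁ h
  δ_comp S hS n₀ n₁ h := by
    ext x
    change (x.comp hS.extClass h).comp (Ext.mk₀ S.f) (add_zero n₁) = 0
    rw [Ext.comp_assoc_of_third_deg_zero, ShortComplex.ShortExact.extClass_comp, Ext.comp_zero]
  exact₁ S hS n₀ n₁ h := Ext.covariant_sequence_exact₁' M hS n₀ n₁ h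

/-- `R^n Hom(M, -) = Ext^n(M, -)`. -/
theorem nonempty_rightDerived_coyoneda_iso [EnoughInjectives A] (n : ℕ) :
    Nonempty ((preadditiveCoyoneda.obj (Opposite.op M)).rightDerived n ≅ extFunctorObj M n) := by
  refine nonempty_rightDerived_iso (preadditiveCoyoneda.obj (Opposite.op M)) (extDelta M) (fun n X => ?_) ?_ n
  · refine ⟨Injective.under X, Injective.ι X, inferInstance, ?_⟩
    ext x
    exact Ext.eq_zero_of_injective _
  · exact NatIso.ofComponents (fun Y => Ext.addEquiv₀.symm.toAddCommGrpIso) (fun {Y Z} f => by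
      ext (g : M ⟶ Y)
      change Ext.mk₀ (g ≫ f) = (Ext.mk₀ g).comp (Ext.mk₀ f) (add_zero 0)
      exact (Ext.mk₀_comp_mk₀ g f).symm)

end Ext

section Complexes

/-- The complex `n ↦ L n ⊞ L (n + 1)`, `(x, y) ↦ (y, 0)`. -/
noncomputable def disk (L : CochainComplex AddCommGrpCat.{u} ℕ) :
    CochainComplex AddCommGrpCat.{u} ℕ :=
  CochainComplex.of (fun n => AddCommGrpCat.of (L.X n × L.X (n + 1)))
    (fun n => AddCommGrpCat.ofHom ((AddMonoidHom.inl (L.X (n + 1)) (L.X (n + 1 + 1))).comp
      (AddMonoidHom.snd (L.X n) (L.X (n + 1)))))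
    (fun n => by ext p <;> rfl)

lemma disk_d (L : CochainComplex AddCommGrpCat.{u} ℕ) (n : ℕ) (p : L.X n × L.X (n + 1)) :
    (disk L).d n (n + 1) p = ((p.2, 0) : L.X (n + 1) × L.X (n + 1 + 1)) := by
  simp [disk]
  rfl

/-- The embedding of a complex in its disks. -/
noncomputable def toDisk (L : CochainComplex AddCommGrpCat.{u} ℕ) : L ⟶ disk L where
  f n := AddCommGrpCat.ofHom ((AddMonoidHom.id _).prod (L.d n (n + 1)).hom)
  comm' i j h := by
    obtain rfl : i + 1 = j := h
    ext x
    refine (disk_d L i _).trans ?_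
    change ((L.d i (i + 1) x, 0) : L.X (i + 1) × L.X (i + 1 + 1)) =
      (L.d i (i + 1) x, L.d (i + 1) (i + 1 + 1) (L.d i (i + 1) x))
    rw [← ConcreteCategory.comp_apply, L.d_comp_d]
    rfl

lemma exactAt_disk (L : CochainComplex AddCommGrpCat.{u} ℕ) (n : ℕ) : (disk L).ExactAt (n + 1) := by
  rw [HomologicalComplex.exactAt_iff' _ n (n + 1) (n + 2) (by simp) (by simp), ShortComplex.ab_exact_iff]
  intro (p : L.X (n + 1) × L.X (n + 1 + 1)) hp
  refine ⟨((0, p.1) : L.X n × L.X (n + 1)), (disk_d L n _).trans ?_⟩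
  have h := (disk_d L (n + 1) p).symm.trans hp
  exact Prod.ext rfl (congrArg Prod.fst h).symm

/-- Injective complexes have no cohomology in positive degrees. -/
theorem isZero_homology_of_injective (L : CochainComplex AddCommGrpCat.{u} ℕ) [Injective L] (n : ℕ) :
    IsZero (L.homology (n + 1)) := by
  have : ∀ k, Mono ((toDisk L).f k) := fun k =>
    (AddCommGrpCat.mono_iff_injective _).2 fun a b h => congrArg Prod.fst h
  have : Mono (toDisk L) := HomologicalComplex.mono_of_mono_f _ this
  let r := Injective.factorThru (𝟙 L) (toDisk L)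
  refine (IsZero.iff_id_eq_zero _).2 ?_
  have hz := (HomologicalComplex.exactAt_iff_isZero_homology _ _).1 (exactAt_disk L n)
  rw [← HomologicalComplex.homologyMap_id, ← Injective.comp_factorThru (𝟙 L) (toDisk L),
    HomologicalComplex.homologyMap_comp, hz.eq_of_tgt (HomologicalComplex.homologyMap (toDisk L) (n + 1)) 0,
    zero_comp]

/-- Homology as a delta functor. -/
noncomputable def homologyDelta :
    DeltaF.CohDeltaFunctor (CochainComplex AddCommGrpCat.{u} ℕ) AddCommGrpCat.{u} ℕ where
  F n := HomologicalComplex.homologyFunctor _ _ n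
  additive n := inferInstance
  δ S hS n₀ n₁ h := hS.δ n₀ n₁ h
  δ_natural hS hS' φ n₀ n₁ h := (HomologicalComplex.HomologySequence.δ_naturality φ hS hS' n₀ n₁ h).symm
  exact₂ S hS n := hS.homology_exact₂ n
  comp_δ S hS n₀ n₁ h := hS.comp_δ n₀ n₁ h
  exact₃ S hS n₀ n₁ h := hS.homology_exact₃ n₀ n₁ h
  δ_comp S hS n₀ n₁ h := hS.δ_comp n₀ n₁ h
  exact₁ S hS n₀ n₁ h := hS.homology_exact₁ n₀ n₁ h

instance preservesFiniteLimits_homology₀ :
    PreservesFiniteLimits (HomologicalComplex.homologyFunctor AddCommGrpCat.{u} (ComplexShape.up ℕ) 0) := by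
  rw [Functor.preservesFiniteLimits_iff_forall_exact_map_and_mono]
  intro S hS
  refine ⟨hS.homology_exact₂ 0, ?_⟩
  have := hS.mono_f
  have h : (CochainComplex.isoHomologyπ₀ S.X₁).inv ≫ HomologicalComplex.cyclesMap S.f 0 =
      HomologicalComplex.homologyMap S.f 0 ≫ (CochainComplex.isoHomologyπ₀ S.X₂).inv :=
    (CochainComplex.isoHomologyπ₀_inv_naturality S.f).symm
  have : Mono (S.f.f 0) := inferInstance
  have : Mono (HomologicalComplex.cyclesMap S.f 0) := by
    have : Mono (HomologicalComplex.cyclesMap S.f 0 ≫ S.X₂.iCycles 0) := by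
      rw [HomologicalComplex.cyclesMap_i]
      infer_instance
    exact mono_of_mono (HomologicalComplex.cyclesMap S.f 0) (S.X₂.iCycles 0)
  have : Mono (HomologicalComplex.homologyMap S.f 0 ≫ (CochainComplex.isoHomologyπ₀ S.X₂).inv) := by
    rw [← h]
    infer_instance
  exact mono_of_mono (HomologicalComplex.homologyMap S.f 0) (CochainComplex.isoHomologyπ₀ S.X₂).inv

/-- `R^n H⁰ = H^n` on nonnegative cochain complexes. -/
theorem nonempty_rightDerived_homology₀_iso (n : ℕ) :
    Nonempty ((HomologicalComplex.homologyFunctor AddCommGrpCat.{u} (ComplexShape.up ℕ) 0).rightDerived n ≅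
      HomologicalComplex.homologyFunctor _ _ n) :=
  nonempty_rightDerived_iso (HomologicalComplex.homologyFunctor AddCommGrpCat.{u} (ComplexShape.up ℕ) 0)
    homologyDelta
    (fun m L => ⟨Injective.under L, Injective.ι L, inferInstance,
      (isZero_homology_of_injective (Injective.under L) m).eq_of_tgt _ _⟩) (Iso.refl _) n

end Complexes

end Groth.Agent.HyperLib.DerivedHom
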