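import Groth.Agent.GrothSS.Main

/-!
Grothendieck's spectral sequence with a prescribed abutment.
-/

universe w w' v v' v'' u u' u''

open CategoryTheory CategoryTheory.Limits CategoryTheory.Pretriangulated
  CategoryTheory.ComposableArrows
open Groth.Agent.GrothSS Groth.Agent.GrothSS.Main
open scoped ZeroObject

namespace Groth.Agent.HyperLib.GrothSSTo

open scoped Classical in
/-- Grothendieck's spectral sequence, converging to any family identified with the derived functors
of the composite. -/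
theorem exists_spectralSequence_to {A : Type u} [Category.{v} A] [Abelian A] [EnoughInjectives A]
    {B : Type u'} [Category.{v'} B] [Abelian B] [EnoughInjectives B]
    {C : Type u''} [Category.{v''} C] [Abelian C]
    (T : A ⥤ B) [T.Additive] (S : B ⥤ C) [S.Additive] [PreservesFiniteLimits S]
    (hT : ∀ Q : A, Injective Q → ∀ q : ℕ, 0 < q → IsZero ((S.rightDerived q).obj (T.obj Q)))
    (X : A) (H' : ℤ → C)
    (e' : ∀ n : ℤ, Nonempty ((if 0 ≤ n then ((T ⋙ S).rightDerived n.toNat).obj X else 0) ≅ H' n)) :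
    ∃ (E : E₂CohomologicalSpectralSequence C)
      (a : SpSeq.Abutment E H'),
      (∀ n, a.IsFinite n) ∧ SpSeq.IsBounded E ∧
      ∀ p q : ℤ, Nonempty ((E.page 2 le_rfl).X (p, q) ≅
        (if 0 ≤ p ∧ 0 ≤ q then (S.rightDerived p.toNat).obj ((T.rightDerived q.toNat).obj X) else 0)) := by
  let : HasDerivedCategory B := HasDerivedCategory.standard B
  let : HasDerivedCategory C := HasDerivedCategory.standard C
  let I : InjectiveResolution X := Classical.choice (HasInjectiveResolution.out (Z := X))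
  let J : CochainComplex.Plus B :=
    ⟨(T.mapHomologicalComplex _).obj I.cochainComplex, ⟨0,
      inferInstanceAs (CochainComplex.IsStrictlyGE
        ((T.mapHomologicalComplex (ComplexShape.up ℤ)).obj I.cochainComplex) 0)⟩⟩
  let K := DerivedCategory.Plus.Q.obj J
  let t := DerivedCategory.Plus.TStructure.t (C := B)
  let G := Derived.G S
  let : G.ShiftSequence ℤ := Functor.ShiftSequence.tautological G ℤ
  have hK : t.IsGE K 0 := by
    have : CochainComplex.IsStrictlyGE J.obj 0 :=
      inferInstanceAs (CochainComplex.IsStrictlyGE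
        ((T.mapHomologicalComplex (ComplexShape.up ℤ)).obj I.cochainComplex) 0)
    exact (DerivedCategory.Plus.isGE_ι_obj_iff _ 0).1
      (DerivedCategory.TStructure.t.isGE_of_iso
        ((DerivedCategory.quotientCompQhIso B).app J.obj).symm 0)
  let Ω := Core.mapHomological (t.spectralObject K) G
  have hΩ : Ω.IsFirstQuadrant := by
    refine ⟨fun i j hij hj n => ?_, fun i j hij n hn => ?_⟩
    · have h0 : IsZero ((t.eTruncLT.obj j).obj K) := t.isZero_eTruncLT_obj_obj K 0 j hj
      exact G.map_isZero ((shiftFunctor _ n).map_isZero ((t.eTruncGE.obj i).map_isZero h0))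
    · have : DerivedCategory.Plus.IsGE ((t.eTruncGE.obj i).obj ((t.eTruncLT.obj j).obj K)) (n + 1) :=
        t.isGE_eTruncGE_obj_obj (n + 1) i (by
          induction i using WithBotTop.rec <;> simp at hn ⊢ <;> omega) _
      exact Derived.isZero_of_isGE S ((t.eTruncGE.obj i).obj ((t.eTruncLT.obj j).obj K)) (n + 1) n
        (by omega)
  have hJ : ∀ i, Acyclic.Acy S (J.obj.X i) := fun i q hq =>
    hT (I.cochainComplex.X i) inferInstance q hq
  have he : ∀ n : ℤ, Nonempty ((Ω.H n).obj (mk₁ (homOfLE (bot_le : (⊥ : EInt) ≤ ⊤))) ≅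
      if 0 ≤ n then ((T ⋙ S).rightDerived n.toNat).obj X else 0) := fun n => by
    obtain ⟨e₁⟩ := Derived.nonempty_value_acyclic S J hJ n
    by_cases hn : 0 ≤ n
    · rw [if_pos hn]
      obtain ⟨k, rfl⟩ := Int.eq_ofNat_of_zero_le hn
      obtain ⟨e₂⟩ := nonempty_homology_resolution (T ⋙ S) I k
      exact ⟨e₁ ≪≫ e₂⟩
    · rw [if_neg hn]
      exact ⟨e₁ ≪≫ (isZero_homology_resolution (T ⋙ S) I n (by omega)).isoZero⟩
  obtain ⟨a, ha⟩ := Core.exists_abutment Ω _ (fun n => (he n).some ≪≫ (e' n).some)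
  refine ⟨Ω.E₂SpectralSequence, a, ha, Core.isBounded Ω, fun p q => ?_⟩
  by_cases hpq : 0 ≤ p ∧ 0 ≤ q
  · rw [if_pos hpq]
    obtain ⟨e₁⟩ := Core.nonempty_page_two_iso Ω p q
    obtain ⟨e₂⟩ := nonempty_truncation_iso K q
    obtain ⟨e₃⟩ := nonempty_value_single S _ _ q (p + q) e₂ p.toNat (by omega)
    obtain ⟨e₄⟩ := nonempty_homology_resolution T I q.toNat
    refine ⟨e₁ ≪≫ e₃ ≪≫ (S.rightDerived p.toNat).mapIso ?_⟩
    refine (DerivedCategory.homologyFunctor B q).mapIso
        ((DerivedCategory.quotientCompQhIso B).app J.obj) ≪≫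
      (DerivedCategory.homologyFunctorFactors B q).app _ ≪≫ eqToIso ?_ ≪≫ e₄
    show HomologicalComplex.homology J.obj q = HomologicalComplex.homology J.obj (q.toNat : ℤ)
    rw [Int.toNat_of_nonneg hpq.2]
  · rw [if_neg hpq]
    exact ⟨(Core.isZero_page_two Ω p q hpq).isoZero⟩

end Groth.Agent.HyperLib.GrothSSTo
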