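import Groth.Agent.HyperLib.Main
import Groth.Agent.HyperLib.DerivedHom
import Groth.Agent.HyperLib.GrothSSTo
import Groth.Agent.CohTop.Derived
import Groth.Agent.DerFun.Basic

/-!
The spectral sequence of a hypercovering of the final object of a topos.
-/

set_option autoImplicit false

universe u

open CategoryTheory CategoryTheory.Limits Opposite Simplicial AlgebraicTopology
open CategoryTheory.Abelian
open Groth.Agent.SiteCoh

namespace Groth.Agent.HyperLib.SS

variable {C : Type u} [SmallCategory C]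

section Exact

variable (K : SimplicialObject (FormalCoproduct.{u} C))

lemma cochainComplexFunctor_map_f {P Q : Cᵒᵖ ⥤ AddCommGrpCat.{u}} (a : P ⟶ Q) (n : ℕ) :
    ((FormalCoproduct.cochainComplexFunctor K).map a).f n =
      Limits.Pi.map (fun i : (K.obj (op ⦋n⦌)).I => a.app (op ((K.obj (op ⦋n⦌)).obj i))) := rfl

lemma π_map_apply {ι : Type u} {P Q : ι → AddCommGrpCat.{u}} (f : ∀ i, P i ⟶ Q i) (i : ι)
    (x : (∏ᶜ P : AddCommGrpCat.{u})) : Pi.π Q i (Limits.Pi.map f x) = f i (Pi.π P i x) := by
  rw [← ConcreteCategory.comp_apply, Limits.Pi.map_π, ConcreteCategory.comp_apply]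

lemma productEquiv_ext {ι : Type u} {P : ι → AddCommGrpCat.{u}} {x y : (∏ᶜ P : AddCommGrpCat.{u})}
    (h : ∀ i, Pi.π P i x = Pi.π P i y) : x = y :=
  Concrete.limit_ext (Discrete.functor P) x y fun ⟨i⟩ => h i

lemma exists_pi {ι : Type u} {P : ι → AddCommGrpCat.{u}} (z : ∀ i, P i) :
    ∃ x : (∏ᶜ P : AddCommGrpCat.{u}), ∀ i, Pi.π P i x = z i :=
  ⟨(Concrete.productEquiv P).symm z, fun i => Concrete.productEquiv_symm_apply_π P z i⟩

instance additive : (FormalCoproduct.cochainComplexFunctor (A := AddCommGrpCat.{u}) K).Additive where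
  map_add {P Q a b} := by
    refine HomologicalComplex.hom_ext _ _ fun n => ?_
    rw [HomologicalComplex.add_f_apply, cochainComplexFunctor_map_f, cochainComplexFunctor_map_f,
      cochainComplexFunctor_map_f]
    refine Pi.hom_ext _ _ fun i => ?_
    refine Eq.trans ?_ (Preadditive.add_comp _ _ _ _ _ _).symm
    refine (Limits.Pi.map_π _ i).trans ((Preadditive.comp_add _ _ _ _ _ _).trans ?_)
    exact congrArg₂ (· + ·)
      (Limits.Pi.map_π (fun i => a.app (op ((K.obj (op ⦋n⦌)).obj i))) i).symm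
      (Limits.Pi.map_π (fun i => b.app (op ((K.obj (op ⦋n⦌)).obj i))) i).symm

theorem map_shortExact (S : ShortComplex (Cᵒᵖ ⥤ AddCommGrpCat.{u})) (hS : S.ShortExact) :
    (S.map (FormalCoproduct.cochainComplexFunctor K)).ShortExact := by
  refine HomologicalComplex.shortExact_of_degreewise_shortExact _ fun n => ?_
  have h : ∀ i : (K.obj (op ⦋n⦌)).I,
      (S.map ((evaluation Cᵒᵖ AddCommGrpCat.{u}).obj (op ((K.obj (op ⦋n⦌)).obj i)))).ShortExact :=
    fun i => hS.map_of_exact _
  refine
    { exact := ?_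
      mono_f := (AddCommGrpCat.mono_iff_injective _).2 fun a b hab => productEquiv_ext fun i => ?_
      epi_g := (AddCommGrpCat.epi_iff_surjective _).2 fun b => ?_ }
  · rw [ShortComplex.ab_exact_iff]
    intro x hx
    have hx' : ∀ i, ∃ y, S.f.app (op ((K.obj (op ⦋n⦌)).obj i)) y =
        (Pi.π (fun i => S.X₂.obj (op ((K.obj (op ⦋n⦌)).obj i))) i) x := fun i => by
      refine (ShortComplex.ab_exact_iff _).1 (h i).exact _ ?_
      exact (π_map_apply (fun i => S.g.app (op ((K.obj (op ⦋n⦌)).obj i))) i x).symm.trans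
        ((congrArg _ hx).trans (map_zero _))
    choose y hy using hx'
    obtain ⟨w, hw⟩ := exists_pi y
    exact ⟨w, productEquiv_ext fun i =>
      (π_map_apply (fun i => S.f.app (op ((K.obj (op ⦋n⦌)).obj i))) i w).trans
        ((congrArg _ (hw i)).trans (hy i))⟩
  · refine (AddCommGrpCat.mono_iff_injective _).1 (h i).mono_f ?_
    exact (π_map_apply (fun i => S.f.app (op ((K.obj (op ⦋n⦌)).obj i))) i a).symm.trans
      ((congrArg _ hab).trans (π_map_apply (fun i => S.f.app (op ((K.obj (op ⦋n⦌)).obj i))) i b))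
  · have hs := fun i => (AddCommGrpCat.epi_iff_surjective _).1 (h i).epi_g
      ((Pi.π (fun i => S.X₃.obj (op ((K.obj (op ⦋n⦌)).obj i))) i) b)
    choose y hy using hs
    obtain ⟨w, hw⟩ := exists_pi y
    exact ⟨w, productEquiv_ext fun i =>
      (π_map_apply (fun i => S.g.app (op ((K.obj (op ⦋n⦌)).obj i))) i w).trans
        ((congrArg _ (hw i)).trans (hy i))⟩

instance preservesFiniteLimits :
    PreservesFiniteLimits (FormalCoproduct.cochainComplexFunctor (A := AddCommGrpCat.{u}) K) :=
  ((Functor.exact_tfae (FormalCoproduct.cochainComplexFunctor (A := AddCommGrpCat.{u}) K)).out 0 3 rfl rfl).1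
    (map_shortExact K) |>.1

instance preservesFiniteColimits :
    PreservesFiniteColimits (FormalCoproduct.cochainComplexFunctor (A := AddCommGrpCat.{u}) K) :=
  ((Functor.exact_tfae (FormalCoproduct.cochainComplexFunctor (A := AddCommGrpCat.{u}) K)).out 0 3 rfl rfl).1
    (map_shortExact K) |>.2

end Exact

variable (J : GrothendieckTopology C) (K : SimplicialObject (FormalCoproduct.{u} C))

/-- The Čech complexes of sheaves with respect to `K`. -/
noncomputable abbrev cechFunctor : Sheaf J AddCommGrpCat.{u} ⥤ CochainComplex AddCommGrpCat.{u} ℕ :=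
  sheafToPresheaf J AddCommGrpCat.{u} ⋙ FormalCoproduct.cochainComplexFunctor K

/-- The free chain complex on the simplicial presheaf of `K`. -/
noncomputable abbrev freeCx : ChainComplex (Sheaf J AddCommGrpCat.{u}) ℕ :=
  (alternatingFaceMapComplex _).obj
    (SimplicialObject.Augmented.drop.obj (Main.freeAug J (FillHyper.augSite K)))

lemma evAll_natural {F F' : Sheaf J AddCommGrpCat.{u}} (a : F ⟶ F') (x : FormalCoproduct.{u} C)
    (φ : (Free.freePre J).obj ((Coprod.coprod (𝟭 C)).obj x) ⟶ F) :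
    Coprod.evAll (𝟭 C) J F' x (φ ≫ a) =
      Limits.Pi.map (fun i : x.I => a.hom.app (op (x.obj i))) (Coprod.evAll (𝟭 C) J F x φ) := by
  refine productEquiv_ext fun i => ?_
  refine (Coprod.evAll_apply (𝟭 C) J F' x i (φ ≫ a)).trans ?_
  refine Eq.trans ?_ (π_map_apply (fun i : x.I => a.hom.app (op (x.obj i))) i _).symm
  refine Eq.trans ?_ (congrArg _ (Coprod.evAll_apply (𝟭 C) J F x i φ)).symm
  exact (congrArg (Free.sectionEquiv J (x.obj i) F') (Category.assoc _ φ a).symm).trans
    (Free.sectionEquiv_comp J _ a)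

/-- The Čech complexes are the complexes of morphisms out of the free chain complex, naturally. -/
noncomputable def cechNatIso : cechFunctor J K ≅ HomRes.homCx (freeCx J K) :=
  NatIso.ofComponents (fun F => Main.cechSiteIso J F) (fun {F F'} a => by
    rw [← cancel_epi (Main.cechSiteIso (K := K) J F).inv, Iso.inv_hom_id_assoc, ← Category.assoc,
      ← Iso.eq_comp_inv]
    refine HomologicalComplex.hom_ext _ _ fun n => ?_
    ext (φ : (Free.freePre J).obj ((Coprod.coprod (𝟭 C)).obj (K.obj (op ⦋n⦌))) ⟶ F)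
    exact (evAll_natural J a (K.obj (op ⦋n⦌)) φ).symm)

variable [∀ (n : ℕ) (F : (SimplexCategory.Truncated n)ᵒᵖ ⥤ FormalCoproduct.{u} C),
    (SimplexCategory.Truncated.inclusion n).op.HasRightKanExtension F]

/-- The degree zero Čech cohomology is represented by the constant sheaf `ℤ`. -/
theorem nonempty_h0_iso (hK : Hyper.IsHypercoveringSite J K) :
    Nonempty (cechFunctor J K ⋙ HomologicalComplex.homologyFunctor _ _ 0 ≅
      preadditiveCoyoneda.obj (op ((constantSheaf J AddCommGrpCat.{u}).obj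
        (AddCommGrpCat.of (ULift.{u} ℤ))))) := by
  let π := AlternatingFaceMapComplex.ε.app (Main.freeAug J (FillHyper.augSite K))
  have : QuasiIso π := FreeQuasi.quasiIso_free_ε (FillHyper.fillable_site J K hK)
  let M := (Free.freePre J).obj ((Functor.const Cᵒᵖ).obj PUnit.{u + 1})
  let e : M ≅ (constantSheaf J AddCommGrpCat.{u}).obj (AddCommGrpCat.of (ULift.{u} ℤ)) :=
    (presheafToSheaf J AddCommGrpCat.{u}).mapIso
      (NatIso.ofComponents (fun _ => AddEquiv.toAddCommGrpIso
        ((FreeAbelianGroup.uniqueEquiv PUnit.{u + 1}).trans AddEquiv.ulift.symm)) (fun {V W} g => by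
          ext x
          change AddEquiv.ulift.symm (FreeAbelianGroup.uniqueEquiv PUnit.{u + 1}
              (FreeAbelianGroup.map id x)) = AddEquiv.ulift.symm (FreeAbelianGroup.uniqueEquiv PUnit.{u + 1} x)
          rw [FreeAbelianGroup.map_id_apply]))
  let θ : preadditiveCoyoneda.obj (op M) ≅
      HomRes.homCx (freeCx J K) ⋙ HomologicalComplex.homologyFunctor _ _ 0 :=
    NatIso.ofComponents (fun F =>
      @asIso _ _ _ _ (HomRes.theta π F)
        ((ConcreteCategory.isIso_iff_bijective _).2 (HomRes.theta_bijective π F)))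
      (fun {F F'} a => by
        ext (f : M ⟶ F)
        exact HomRes.theta_naturality π a f)
  exact ⟨Functor.isoWhiskerRight (cechNatIso J K) _ ≪≫ θ.symm ≪≫
    preadditiveCoyoneda.mapIso e.symm.op⟩

open scoped ZeroObject Classical in
/-- The spectral sequence of a hypercovering. -/
theorem exists_spectralSequence (hK : Hyper.IsHypercoveringSite J K) (F : Sheaf J AddCommGrpCat.{u}) :
    ∃ (E : E₂CohomologicalSpectralSequence AddCommGrpCat.{u})
      (a : SpSeq.Abutment E (fun n : ℤ => if 0 ≤ n then AddCommGrpCat.of (Sheaf.H F n.toNat) else AddCommGrpCat.of PUnit.{u + 1})),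
      (∀ n, a.IsFinite n) ∧ SpSeq.IsBounded E ∧
      ∀ p q : ℤ, Nonempty ((E.page 2 le_rfl).X (p, q) ≅
        (if 0 ≤ p ∧ 0 ≤ q then (Hyper.cechCxSite K (Sheaf.cohomologyPresheaf F q.toNat)).homology p.toNat
         else AddCommGrpCat.of PUnit.{u + 1})) := by
  let T := cechFunctor J K
  let S := HomologicalComplex.homologyFunctor AddCommGrpCat.{u} (ComplexShape.up ℕ) 0
  have z : (0 : AddCommGrpCat.{u}) ≅ AddCommGrpCat.of PUnit.{u + 1} :=
    (isZero_zero _).iso (AddCommGrpCat.isZero_of_subsingleton _)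
  have hR : ∀ p : ℕ, Nonempty (S.rightDerived p ≅ HomologicalComplex.homologyFunctor _ _ p) :=
    DerivedHom.nonempty_rightDerived_homology₀_iso
  have hT : ∀ Q, Injective Q → ∀ q : ℕ, 0 < q → IsZero ((S.rightDerived q).obj (T.obj Q)) := by
    intro Q hQ q hq
    obtain ⟨r, rfl⟩ : ∃ r, q = r + 1 := ⟨q - 1, by omega⟩
    obtain ⟨e⟩ := hR (r + 1)
    obtain ⟨e'⟩ := Main.cechSite_addEquiv_ext J hK Q
      (fun U q' => subsingleton_of_forall_eq 0 fun x => Ext.eq_zero_of_injective x) (r + 1)
    have : Subsingleton (Ext ((Free.freePre J).obj ((Functor.const Cᵒᵖ).obj PUnit.{u + 1})) Q (r + 1)) :=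
      subsingleton_of_forall_eq 0 fun x => Ext.eq_zero_of_injective x
    have : Subsingleton ((HomologicalComplex.homologyFunctor AddCommGrpCat.{u} (ComplexShape.up ℕ) (r + 1)).obj
        (T.obj Q)) := e'.toEquiv.subsingleton
    exact IsZero.of_iso (AddCommGrpCat.isZero_of_subsingleton _) (e.app (T.obj Q))
  obtain ⟨e₀⟩ := nonempty_h0_iso J K hK
  obtain ⟨E, a, ha, hb, hE⟩ := GrothSSTo.exists_spectralSequence_to T S hT F
    (fun n : ℤ => if 0 ≤ n then AddCommGrpCat.of (Sheaf.H F n.toNat) else AddCommGrpCat.of PUnit.{u + 1})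
    (fun n => by
      by_cases hn : 0 ≤ n
      · simp only [if_pos hn]
        obtain ⟨e⟩ := DerivedHom.nonempty_rightDerived_coyoneda_iso
          ((constantSheaf J AddCommGrpCat.{u}).obj (AddCommGrpCat.of (ULift.{u} ℤ))) n.toNat
        let e₁ : (T ⋙ S).rightDerived n.toNat ≅ _ :=
          { hom := NatTrans.rightDerived e₀.hom n.toNat
            inv := NatTrans.rightDerived e₀.inv n.toNat
            hom_inv_id := by rw [← NatTrans.rightDerived_comp, e₀.hom_inv_id, NatTrans.rightDerived_id]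
            inv_hom_id := by rw [← NatTrans.rightDerived_comp, e₀.inv_hom_id, NatTrans.rightDerived_id] }
        exact ⟨(e₁ ≪≫ e).app F⟩
      · simp only [if_neg hn]
        exact ⟨z⟩)
  refine ⟨E, a, ha, hb, fun p q => ?_⟩
  obtain ⟨e⟩ := hE p q
  refine ⟨e ≪≫ Classical.choice ?_⟩
  by_cases hpq : 0 ≤ p ∧ 0 ≤ q
  · simp only [if_pos hpq]
    obtain ⟨e'⟩ := hR p.toNat
    exact ⟨(e'.app _) ≪≫ (HomologicalComplex.homologyFunctor _ _ p.toNat).mapIso
      (DerFun.rightDerivedPostIso (FormalCoproduct.cochainComplexFunctor K)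
          (sheafToPresheaf J AddCommGrpCat.{u}) q.toNat F ≪≫
        (FormalCoproduct.cochainComplexFunctor K).mapIso (CohTop.Derived.rightDerivedIso F q.toNat))⟩
  · simp only [if_neg hpq]
    exact ⟨z⟩

end Groth.Agent.HyperLib.SS
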