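import Groth.Agent.HyperLib.Gen
import Mathlib.CategoryTheory.Limits.Shapes.FiniteLimits
import Mathlib.CategoryTheory.Limits.Constructions.Over.Basic

/-!
Simplicial formal coproducts with prescribed objects whose compatible faces fill locally, also with
finitely many objects in each degree.
-/

set_option autoImplicit false

universe u

open CategoryTheory CategoryTheory.Limits Opposite Simplicial
open Groth.Agent.HyperLib.Sub Groth.Agent.HyperLib.Points

namespace Groth.Agent.HyperLib.GenFinite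

variable {D : Type u} [SmallCategory D] {J : GrothendieckTopology D} (Q : D → Prop)

lemma ext_aux {W a b c d : D} (k : W ⟶ a) (e : b = a) (f : a ⟶ c) (e' : c = d) :
    (k ≫ eqToHom e.symm) ≫ (eqToHom e ≫ f ≫ eqToHom e') ≫ eqToHom e'.symm = k ≫ f := by
  subst e e'
  simp

/-- All values satisfy a property. -/
def allQ (m : ℕ) (F : (NE m)ᵒᵖ ⥤ D) : Prop := ∀ S, Q (F.obj S)

/-- Objects satisfying the property cover every object. -/
def Covers (J : GrothendieckTopology D) : Prop :=
  ∀ W : D, ∃ R ∈ J W, ∀ ⦃W' : D⦄ (g : W' ⟶ W), R g → ∃ (b : D) (k : W' ⟶ b) (q : b ⟶ W), Q b ∧ k ≫ q = g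

/-- There are simplicial formal coproducts of objects satisfying the property with local fillings. -/
theorem exists_hc (hQ : Covers Q J) :
    ∃ K : SimplicialObject (FormalCoproduct.{u} D), HC K J ∧
      ∀ (n : ℕ) (i : (K _⦋n⦌).I), Q ((K _⦋n⦌).obj i) := by
  refine ⟨Gen.K (allQ Q) (fun _ _ h S => h _), Gen.hc (fun W => ?_) (fun n G W w hG => ?_),
    fun n F => F.2 _⟩
  · obtain ⟨R, hR, h⟩ := hQ W
    refine J.superset_covering ?_ hR
    intro W' g hg
    obtain ⟨b, k, -, hb, -⟩ := h g hg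
    exact ⟨⟨(Functor.const _).obj b, fun _ => hb⟩, ⟨k⟩⟩
  · obtain ⟨R, hR, h⟩ := hQ W
    refine J.superset_covering ?_ hR
    intro W' g hg
    obtain ⟨b, k, q, hb, hkq⟩ := h g hg
    let c : (Functor.const (PS (n + 1))ᵒᵖ).obj b ⟶ G := (Functor.const _).map q ≫ w
    refine ⟨⟨extend G b c, fun S => ?_⟩, incl_extend G b c, k ≫ eqToHom (extend_top G b c).symm, fun T => ?_⟩
    · by_cases hS : S.unop.1 = Finset.univ
      · change Q (extObj G b S.unop)
        rwa [extObj_pos G b hS]
      · change Q (extObj G b S.unop)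
        rw [extObj_neg G b hS]
        obtain ⟨j, hj⟩ := exists_not_mem (⟨S.unop, hS⟩ : PS (n + 1))
        obtain ⟨A, hA⟩ := exists_pre _ j hj
        rw [← hA]
        exact hG j (op A)
    · rw [extend_map_top]
      refine (ext_aux _ _ _ _).trans ?_
      rw [← hkq]
      exact (Category.assoc _ _ _).symm

section Finite

variable [HasFiniteLimits D] {ι : D → Type u} {b : ∀ L, ι L → D} (q : ∀ L i, b L i ⟶ L)

noncomputable instance finCat (m : ℕ) : FinCategory (PS m)ᵒᵖ where
  fintypeObj := Fintype.ofFinite _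
  fintypeHom _ _ := Fintype.ofFinite _

/-- The chosen extensions of a boundary diagram. -/
noncomputable def canon {m : ℕ} (G : (PS m)ᵒᵖ ⥤ D) (i : ι (limit G)) : (NE m)ᵒᵖ ⥤ D :=
  extend G (b _ i) ((Functor.const _).map (q _ i) ≫ (limit.cone G).π)

/-- Degenerate diagrams. -/
def Degen : ∀ m : ℕ, ((NE m)ᵒᵖ ⥤ D) → Prop
  | 0, _ => False
  | l + 1, F => ∃ (i : Fin (l + 1)) (F' : (NE l)ᵒᵖ ⥤ D), F = im (SimplexCategory.σ i) ⋙ F'

/-- Chosen extensions or degenerate diagrams. -/
def Top (m : ℕ) (F : (NE m)ᵒᵖ ⥤ D) : Prop :=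
  (∃ i, F = canon q (incl m ⋙ F) i) ∨ Degen m F

/-- Diagrams built from the chosen coverings. -/
def Adm (m : ℕ) (F : (NE m)ᵒᵖ ⥤ D) : Prop :=
  ∀ (k : ℕ) (φ : ⦋k⦌ ⟶ ⦋m⦌), Function.Injective φ.toOrderHom → Top q k (im φ ⋙ F)

theorem adm_im {k m : ℕ} (θ : ⦋k⦌ ⟶ ⦋m⦌) (F : (NE m)ᵒᵖ ⥤ D) (h : Adm q m F) : Adm q k (im θ ⋙ F) := by
  intro l φ hφ
  rw [← im_comp]
  by_cases hi : Function.Injective (φ ≫ θ).toOrderHom
  · exact h l _ hi
  · refine Or.inr ?_
    cases l with
    | zero => exact absurd (Function.injective_of_subsingleton (α := Fin 1) _) hi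
    | succ l =>
      obtain ⟨i, θ', he⟩ := SimplexCategory.eq_σ_comp_of_not_injective (φ ≫ θ) hi
      exact ⟨i, im θ' ⋙ F, by rw [he, im_comp]⟩

theorem adm_top {m : ℕ} {F : (NE m)ᵒᵖ ⥤ D} (h : Adm q m F) : Top q m F := by
  have := h m (𝟙 _) Function.injective_id
  rwa [im_id_comp] at this

lemma adm_of_degen {m : ℕ} {i : Fin (m + 1)} {F' : (NE m)ᵒᵖ ⥤ D}
    (h : Adm q (m + 1) (im (SimplexCategory.σ i) ⋙ F')) : Adm q m F' := by
  have := adm_im q (SimplexCategory.δ i.castSucc) _ h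
  rwa [← im_comp, SimplexCategory.δ_comp_σ_self, im_id_comp] at this

variable {q}

lemma imS_σ_top {m : ℕ} (i : Fin (m + 1)) : imS (SimplexCategory.σ i) (top (m + 1)) = top m :=
  Subtype.ext (Finset.image_univ_of_surjective (SimplexCategory.epi_iff_surjective.1 inferInstance))

theorem q_top (hb : ∀ L i, Q (b L i)) : ∀ (m : ℕ) (F : (NE m)ᵒᵖ ⥤ D), Adm q m F → Q (F.obj (op (top m))) := by
  intro m
  induction m with
  | zero =>
    intro F hF
    obtain ⟨i, hi⟩ | h := adm_top q hF
    · rw [hi, canon, extend_top]; exact hb _ i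
    · exact h.elim
  | succ m ih =>
    intro F hF
    obtain ⟨i, hi⟩ | ⟨i, F', rfl⟩ := adm_top q hF
    · rw [hi, canon, extend_top]; exact hb _ i
    · change Q (F'.obj (op (imS (SimplexCategory.σ i) (top (m + 1)))))
      rw [imS_σ_top]
      exact ih F' (adm_of_degen q hF)

theorem finite_adm [∀ L, Finite (ι L)] : ∀ m : ℕ, Set.Finite {F : (NE m)ᵒᵖ ⥤ D | Adm q m F} := by
  intro m
  induction m with
  | zero =>
    have hG : Set.Finite (Set.univ : Set ((PS 0)ᵒᵖ ⥤ D)) := by
      refine Set.Subsingleton.finite fun G _ G' _ => ?_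
      have he : IsEmpty (PS 0) := ⟨fun S => S.2 (Finset.eq_univ_iff_forall.2 fun i => by
        obtain ⟨x, hx⟩ := S.1.2
        rwa [Subsingleton.elim (α := Fin 1) i x])⟩
      exact CategoryTheory.Functor.ext (fun S => he.elim S.unop) (fun S => he.elim S.unop)
    refine (hG.biUnion fun G _ => Set.finite_range (canon q G)).subset fun F hF => ?_
    obtain ⟨i, hi⟩ | h := adm_top q hF
    · exact Set.mem_biUnion (Set.mem_univ _) ⟨i, hi.symm⟩
    · exact h.elim
  | succ m ih =>
    have hG : Set.Finite {G : (PS (m + 1))ᵒᵖ ⥤ D | ∀ j, Adm q m (imPF j ⋙ G)} := by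
      refine ((Set.Finite.pi fun _ : Fin (m + 2) => ih).subset ?_).of_finite_image
        (f := fun G j => imPF j ⋙ G) (Function.Injective.injOn fun G G' h => functor_ext G G' (congrFun h))
      rintro _ ⟨G, hG, rfl⟩ j -
      exact hG j
    refine ((hG.biUnion fun G _ => Set.finite_range (canon q G)).union
      (Set.finite_iUnion fun i : Fin (m + 1) => ih.image (fun F' => im (SimplexCategory.σ i) ⋙ F'))).subset
      fun F hF => ?_
    obtain ⟨i, hi⟩ | ⟨i, F', rfl⟩ := adm_top q hF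
    · refine Or.inl (Set.mem_biUnion (fun j => ?_) ⟨i, hi.symm⟩)
      change Adm q m (im (SimplexCategory.δ j) ⋙ F)
      exact adm_im q _ F hF
    · exact Or.inr (Set.mem_iUnion.2 ⟨i, F', adm_of_degen q hF, rfl⟩)

theorem adm_canon {n : ℕ} (G : (PS (n + 1))ᵒᵖ ⥤ D) (hG : ∀ j, Adm q n (imPF j ⋙ G))
    (i : ι (limit G)) : Adm q (n + 1) (canon q G i) := by
  have key : ∀ (G' : (PS (n + 1))ᵒᵖ ⥤ D) (i' : ι (limit G')) (j : ι (limit G)), G' = G → HEq i' j →
      canon q G' i' = canon q G j := by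
    rintro G' i' j rfl h
    rw [eq_of_heq h]
  have hincl : incl (n + 1) ⋙ canon q G i = G := incl_extend _ _ _
  intro k φ hφ
  by_cases hs : Function.Surjective φ.toOrderHom
  · obtain rfl : k = n + 1 := by
      have := Fintype.card_of_bijective ⟨hφ, hs⟩
      simpa using this
    have : Mono φ := SimplexCategory.mono_iff_injective.2 hφ
    rw [SimplexCategory.eq_id_of_mono φ, im_id_comp]
    exact Or.inl ⟨cast (congrArg (fun G => ι (limit G)) hincl.symm) i,
      (key _ _ i hincl (cast_heq _ _)).symm⟩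
  · obtain ⟨j, θ, rfl⟩ := SimplexCategory.eq_comp_δ_of_not_surjective φ hs
    rw [im_comp, ← imPF_incl, Functor.assoc, hincl]
    refine hG j k θ fun x y h => hφ ?_
    exact congrArg (SimplexCategory.δ j).toOrderHom h

/-- With finite chosen coverings there are simplicial formal coproducts with finitely many objects
in each degree, all chosen, with local fillings. -/
theorem exists_hc_finite [∀ L, Finite (ι L)] (hb : ∀ L i, Q (b L i))
    (hcov : ∀ L, Sieve.ofArrows (b L) (q L) ∈ J L) :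
    ∃ K : SimplicialObject (FormalCoproduct.{u} D), HC K J ∧
      ∀ n : ℕ, Finite (K _⦋n⦌).I ∧ ∀ i, Q ((K _⦋n⦌).obj i) := by
  refine ⟨Gen.K (Adm q) (adm_im q), Gen.hc (fun W => ?_) (fun n G W w hG => ?_),
    fun n => ⟨(finite_adm n).to_subtype, fun F => q_top Q hb n F.1 F.2⟩⟩
  · have he : IsEmpty (PS 0) := ⟨fun S => S.2 (Finset.eq_univ_iff_forall.2 fun i => by
      obtain ⟨x, hx⟩ := S.1.2
      rwa [Subsingleton.elim (α := Fin 1) i x])⟩
    let G : (PS 0)ᵒᵖ ⥤ D := (Functor.const _).obj W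
    let c : W ⟶ limit G := limit.lift G ⟨W, (Functor.const _).map (𝟙 W)⟩
    refine J.superset_covering ?_ (J.pullback_stable c (hcov (limit G)))
    intro W' g hg
    obtain ⟨i, k, -⟩ := (Sieve.mem_ofArrows_iff _ _ _).1 hg
    refine ⟨⟨canon q G i, fun l φ hφ => ?_⟩, ⟨k ≫ eqToHom (extend_top _ _ _).symm⟩⟩
    obtain rfl : l = 0 := by
      have := Fintype.card_le_of_injective _ hφ
      simp at this
      omega
    have : Mono φ := SimplexCategory.mono_iff_injective.2 hφ
    rw [SimplexCategory.eq_id_of_mono φ, im_id_comp]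
    have key : ∀ (G' : (PS 0)ᵒᵖ ⥤ D) (i' : ι (limit G')) (j : ι (limit G)), G' = G → HEq i' j →
        canon q G' i' = canon q G j := by
      rintro G' i' j rfl h
      rw [eq_of_heq h]
    exact Or.inl ⟨cast (congrArg (fun G => ι (limit G)) (incl_extend _ _ _).symm) i,
      (key _ _ i (incl_extend _ _ _) (cast_heq _ _)).symm⟩
  · let c : W ⟶ limit G := limit.lift G ⟨W, w⟩
    refine J.superset_covering ?_ (J.pullback_stable c (hcov (limit G)))
    intro W' g hg
    obtain ⟨i, k, hk⟩ := (Sieve.mem_ofArrows_iff _ _ _).1 hg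
    refine ⟨⟨canon q G i, adm_canon G hG i⟩, incl_extend _ _ _, k ≫ eqToHom (extend_top _ _ _).symm, fun T => ?_⟩
    change (k ≫ _) ≫ (extend G _ _).map _ ≫ _ = _
    rw [extend_map_top]
    refine (ext_aux _ _ _ _).trans ?_
    refine (Category.assoc _ _ _).symm.trans ((congrArg (· ≫ (limit.cone G).π.app (op T)) hk.symm).trans ?_)
    exact (Category.assoc _ _ _).trans (congrArg (g ≫ ·) (limit.lift_π _ _))

end Finite

end Groth.Agent.HyperLib.GenFinite
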