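import Groth.Agent.HyperLib.Kill
import Groth.Agent.HyperLib.SS
import Groth.Agent.HyperLib.GenFinite
import Groth.Agent.SiteCoh.DimShift
import Mathlib.Algebra.Homology.HomologySequenceLemmas

/-!
Classes in the Čech cohomology of hypercoverings die after refinement exactly when the cohomology of
the associated sheaf vanishes.
-/

set_option autoImplicit false

universe u

open CategoryTheory CategoryTheory.Limits Opposite Simplicial
open CategoryTheory.Abelian
open Groth.Agent.SiteCoh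

namespace Groth.Agent.HyperLib.Colim

variable {C : Type u} [SmallCategory C] {X : C}
  {K L M : SimplicialObject (FormalCoproduct.{u} (Over X))}

/-- The Čech complexes as a functor of the presheaf. -/
noncomputable abbrev CF (K : SimplicialObject (FormalCoproduct.{u} (Over X))) :
    (Cᵒᵖ ⥤ AddCommGrpCat.{u}) ⥤ CochainComplex AddCommGrpCat.{u} ℕ :=
  (Functor.whiskeringLeft _ _ _).obj (Over.forget X).op ⋙ FormalCoproduct.cochainComplexFunctor K

instance additive_restrict : ((Functor.whiskeringLeft (Over X)ᵒᵖ Cᵒᵖ AddCommGrpCat.{u}).obj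
    (Over.forget X).op).Additive where

/-- The refinement maps, naturally in the presheaf. -/
noncomputable def CMap (f : L ⟶ K) : CF K ⟶ CF L where
  app P := Hyper.cechMap X f P
  naturality P Q φ := by
    change (AlgebraicTopology.alternatingCofaceMapComplex _).map _ ≫ (AlgebraicTopology.alternatingCofaceMapComplex _).map _ =
      (AlgebraicTopology.alternatingCofaceMapComplex _).map _ ≫ (AlgebraicTopology.alternatingCofaceMapComplex _).map _
    rw [← Functor.map_comp, ← Functor.map_comp]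
    exact congrArg _ (((Functor.whiskeringLeft _ _ _).map (NatTrans.rightOp f)).naturality
      ((FormalCoproduct.evalOp.{u} (Over X) AddCommGrpCat.{u}).map (Functor.whiskerLeft (Over.forget X).op φ)))

/-- The map on cohomology induced by a morphism of presheaves. -/
noncomputable abbrev pm {P Q : Cᵒᵖ ⥤ AddCommGrpCat.{u}} (φ : P ⟶ Q) (p : ℕ) :
    Hyper.cechH X K P p →+ Hyper.cechH X K Q p :=
  (HomologicalComplex.homologyMap ((CF K).map φ) p).hom

lemma pm_hmap {P Q : Cᵒᵖ ⥤ AddCommGrpCat.{u}} (φ : P ⟶ Q) (f : L ⟶ K) (p : ℕ) (ξ : Hyper.cechH X K P p) :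
    pm φ p (Hyper.cechHMap X f P p ξ) = Hyper.cechHMap X f Q p (pm φ p ξ) := by
  have h := congrArg (fun t => HomologicalComplex.homologyMap t p) ((CMap f).naturality φ)
  simp only [HomologicalComplex.homologyMap_comp] at h
  exact (ConcreteCategory.congr_hom h ξ).symm

lemma pm_comp {P Q R : Cᵒᵖ ⥤ AddCommGrpCat.{u}} (φ : P ⟶ Q) (ψ : Q ⟶ R) (p : ℕ) (ξ : Hyper.cechH X K P p) :
    pm (φ ≫ ψ) p ξ = pm ψ p (pm φ p ξ) := by
  have h : HomologicalComplex.homologyMap ((CF K).map (φ ≫ ψ)) p =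
      HomologicalComplex.homologyMap ((CF K).map φ) p ≫ HomologicalComplex.homologyMap ((CF K).map ψ) p := by
    rw [Functor.map_comp, HomologicalComplex.homologyMap_comp]
  exact ConcreteCategory.congr_hom h ξ

lemma hmap_comp (f : L ⟶ K) (g : M ⟶ L) (P : Cᵒᵖ ⥤ AddCommGrpCat.{u}) (p : ℕ) (ξ : Hyper.cechH X K P p) :
    Hyper.cechHMap X (g ≫ f) P p ξ = Hyper.cechHMap X g P p (Hyper.cechHMap X f P p ξ) := by
  have : Hyper.cechMap X (g ≫ f) P = Hyper.cechMap X f P ≫ Hyper.cechMap X g P := by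
    unfold Hyper.cechMap
    refine Eq.trans ?_ ((AlgebraicTopology.alternatingCofaceMapComplex AddCommGrpCat.{u}).map_comp _ _)
    refine congrArg _ (NatTrans.ext (funext fun a => ?_))
    exact ((FormalCoproduct.evalOp.{u} (Over X) AddCommGrpCat.{u}).obj
      ((Over.forget X).op ⋙ P)).map_comp (f.app (op a)).op (g.app (op a)).op
  unfold Hyper.cechHMap
  rw [this, HomologicalComplex.homologyMap_comp]
  rfl

variable {S : ShortComplex (Cᵒᵖ ⥤ AddCommGrpCat.{u})} (hS : S.ShortExact)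

include hS in
lemma shortExact_CF : (S.map (CF K)).ShortExact :=
  SS.map_shortExact K _ (hS.map_of_exact ((Functor.whiskeringLeft _ _ _).obj (Over.forget X).op))

/-- The connecting map. -/
noncomputable def δ (p : ℕ) : Hyper.cechH X K S.X₃ p →+ Hyper.cechH X K S.X₁ (p + 1) :=
  ((shortExact_CF (K := K) hS).δ p (p + 1) rfl).hom

lemma δ_hmap (f : L ⟶ K) (p : ℕ) (ξ : Hyper.cechH X K S.X₃ p) :
    δ hS p (Hyper.cechHMap X f S.X₃ p ξ) = Hyper.cechHMap X f S.X₁ (p + 1) (δ hS p ξ) :=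
  (ConcreteCategory.congr_hom (HomologicalComplex.HomologySequence.δ_naturality
    ({ τ₁ := (CMap f).app S.X₁
       τ₂ := (CMap f).app S.X₂
       τ₃ := (CMap f).app S.X₃
       comm₁₂ := ((CMap f).naturality S.f).symm
       comm₂₃ := ((CMap f).naturality S.g).symm } : S.map (CF K) ⟶ S.map (CF L))
    (shortExact_CF hS) (shortExact_CF hS) p (p + 1) rfl) ξ).symm

include hS in
lemma exists_f {p : ℕ} (ξ : Hyper.cechH X K S.X₂ p) (h : pm S.g p ξ = 0) : ∃ ν, pm S.f p ν = ξ :=
  (ShortComplex.ab_exact_iff _).1 ((shortExact_CF (K := K) hS).homology_exact₂ p) ξ h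

lemma exists_g {p : ℕ} (ξ : Hyper.cechH X K S.X₃ p) (h : δ hS p ξ = 0) : ∃ ν, pm S.g p ν = ξ :=
  (ShortComplex.ab_exact_iff _).1 ((shortExact_CF (K := K) hS).homology_exact₃ p (p + 1) rfl) ξ h

lemma exists_δ {p : ℕ} (ξ : Hyper.cechH X K S.X₁ (p + 1)) (h : pm S.f (p + 1) ξ = 0) :
    ∃ ν, δ hS p ν = ξ :=
  (ShortComplex.ab_exact_iff _).1 ((shortExact_CF (K := K) hS).homology_exact₁ p (p + 1) rfl) ξ h

include hS in
lemma pm_f_injective_zero : Function.Injective (pm (K := K) (X := X) S.f 0) := by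
  have := (Functor.preservesFiniteLimits_iff_forall_exact_map_and_mono
    (HomologicalComplex.homologyFunctor AddCommGrpCat.{u} (ComplexShape.up ℕ) 0)).1
    DerivedHom.preservesFiniteLimits_homology₀ _ (shortExact_CF (K := K) hS)
  exact (AddCommGrpCat.mono_iff_injective _).1 this.2

lemma δ_pm_g (p : ℕ) (ξ : Hyper.cechH X K S.X₂ p) : δ hS p (pm S.g p ξ) = 0 :=
  ConcreteCategory.congr_hom ((shortExact_CF (K := K) hS).comp_δ p (p + 1) rfl) ξ

include hS in
lemma pm_g_f (p : ℕ) (ξ : Hyper.cechH X K S.X₁ p) : pm S.g p (pm S.f p ξ) = 0 := by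
  have h : HomologicalComplex.homologyMap ((CF K).map S.f) p ≫
      HomologicalComplex.homologyMap ((CF K).map S.g) p = 0 := by
    rw [← HomologicalComplex.homologyMap_comp]
    refine (congrArg (fun t => HomologicalComplex.homologyMap t p) (S.map (CF K)).zero).trans ?_
    exact HomologicalComplex.homologyMap_zero _ _ _
  have := hS
  exact ConcreteCategory.congr_hom h ξ

/-! ### Classes dying after refinement -/

variable [HasPullbacks C] (J : GrothendieckTopology C)
  [∀ (n : ℕ) (F : (SimplexCategory.Truncated n)ᵒᵖ ⥤ FormalCoproduct.{u} (Over X)),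
    (SimplexCategory.Truncated.inclusion n).op.HasRightKanExtension F]

variable (X) in
/-- All classes die after refinement. -/
def Die (P : Cᵒᵖ ⥤ AddCommGrpCat.{u}) (q : ℕ) : Prop :=
  ∀ (K : SimplicialObject (FormalCoproduct.{u} (Over X))), Hyper.IsHypercovering J X K →
    ∀ ξ : Hyper.cechH X K P q, ∃ (L : SimplicialObject (FormalCoproduct.{u} (Over X))) (f : L ⟶ K),
      Hyper.IsHypercovering J X L ∧ Hyper.cechHMap X f P q ξ = 0

variable {J}

include hS in
theorem die_g_iff (h₁ : IsZero ((presheafToSheaf J AddCommGrpCat.{u}).obj S.X₁)) (q : ℕ) :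
    Die X J S.X₂ q ↔ Die X J S.X₃ q := by
  constructor
  · intro h K hK ξ
    obtain ⟨L, f, hL, hf⟩ := Kill.exists_killing K hK _ h₁ (q + 1) (δ hS q ξ)
    obtain ⟨ν, hν⟩ := exists_g hS (Hyper.cechHMap X f S.X₃ q ξ) (by rw [δ_hmap, hf])
    obtain ⟨M, g, hM, hg⟩ := h L hL ν
    exact ⟨M, g ≫ f, hM, by rw [hmap_comp, ← hν, ← pm_hmap, hg, map_zero]⟩
  · intro h K hK ξ
    obtain ⟨L, f, hL, hf⟩ := h K hK (pm S.g q ξ)
    obtain ⟨ν, hν⟩ := exists_f hS (Hyper.cechHMap X f S.X₂ q ξ) (by rw [pm_hmap, hf])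
    obtain ⟨M, g, hM, hg⟩ := Kill.exists_killing L hL _ h₁ q ν
    exact ⟨M, g ≫ f, hM, by rw [hmap_comp, ← hν, ← pm_hmap, hg, map_zero]⟩

include hS in
theorem die_f_iff (h₃ : IsZero ((presheafToSheaf J AddCommGrpCat.{u}).obj S.X₃)) (q : ℕ) :
    Die X J S.X₁ q ↔ Die X J S.X₂ q := by
  constructor
  · intro h K hK ξ
    obtain ⟨L, f, hL, hf⟩ := Kill.exists_killing K hK _ h₃ q (pm S.g q ξ)
    obtain ⟨ν, hν⟩ := exists_f hS (Hyper.cechHMap X f S.X₂ q ξ) (by rw [pm_hmap, hf])
    obtain ⟨M, g, hM, hg⟩ := h L hL ν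
    exact ⟨M, g ≫ f, hM, by rw [hmap_comp, ← hν, ← pm_hmap, hg, map_zero]⟩
  · intro h K hK ξ
    obtain ⟨L, f, hL, hf⟩ := h K hK (pm S.f q ξ)
    cases q with
    | zero =>
      refine ⟨L, f, hL, pm_f_injective_zero hS ?_⟩
      rw [pm_hmap, hf, map_zero]
    | succ q =>
      obtain ⟨ν, hν⟩ := exists_δ hS (Hyper.cechHMap X f S.X₁ (q + 1) ξ) (by rw [pm_hmap, hf])
      obtain ⟨M, g, hM, hg⟩ := Kill.exists_killing L hL _ h₃ q ν
      exact ⟨M, g ≫ f, hM, by rw [hmap_comp, ← hν, ← δ_hmap, hg, map_zero]⟩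

lemma isZero_kernel_sheafify {P Q : Cᵒᵖ ⥤ AddCommGrpCat.{u}} (φ : P ⟶ Q)
    [IsIso ((presheafToSheaf J AddCommGrpCat.{u}).map φ)] :
    IsZero ((presheafToSheaf J AddCommGrpCat.{u}).obj (kernel (Abelian.factorThruImage φ))) := by
  let G := presheafToSheaf J AddCommGrpCat.{u}
  have : Mono (G.map (Abelian.factorThruImage φ) ≫ G.map (Abelian.image.ι φ)) := by
    rw [← G.map_comp, Abelian.image.fac]
    infer_instance
  have : Mono (G.map (Abelian.factorThruImage φ)) :=
    mono_of_mono (G.map (Abelian.factorThruImage φ)) (G.map (Abelian.image.ι φ))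
  exact IsZero.of_mono_eq_zero (G.map (kernel.ι (Abelian.factorThruImage φ)))
    ((cancel_mono (G.map (Abelian.factorThruImage φ))).1
      (by rw [← G.map_comp, kernel.condition, G.map_zero, zero_comp]))

lemma isZero_cokernel_sheafify {P Q : Cᵒᵖ ⥤ AddCommGrpCat.{u}} (φ : P ⟶ Q)
    [IsIso ((presheafToSheaf J AddCommGrpCat.{u}).map φ)] :
    IsZero ((presheafToSheaf J AddCommGrpCat.{u}).obj (cokernel φ)) := by
  let G := presheafToSheaf J AddCommGrpCat.{u}
  exact IsZero.of_epi_eq_zero (G.map (cokernel.π φ))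
    ((cancel_epi (G.map φ)).1 (by rw [← G.map_comp, cokernel.condition, G.map_zero, comp_zero]))

lemma kernel_shortExact {P Q : Cᵒᵖ ⥤ AddCommGrpCat.{u}} (φ : P ⟶ Q) :
    (ShortComplex.mk (kernel.ι (Abelian.factorThruImage φ)) (Abelian.factorThruImage φ)
      (kernel.condition _)).ShortExact where
  exact := ShortComplex.exact_of_f_is_kernel _ (kernelIsKernel _)
  mono_f := equalizer.ι_mono
  epi_g := inferInstance

lemma image_shortExact {P Q : Cᵒᵖ ⥤ AddCommGrpCat.{u}} (φ : P ⟶ Q) :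
    (ShortComplex.mk (Abelian.image.ι φ) (cokernel.π φ) (kernel.condition _)).ShortExact where
  exact := ShortComplex.exact_of_f_is_kernel _ (kernelIsKernel _)
  mono_f := equalizer.ι_mono
  epi_g := coequalizer.π_epi

/-- Whether classes die only depends on the associated sheaf. -/
theorem die_iff_of_isIso {P Q : Cᵒᵖ ⥤ AddCommGrpCat.{u}} (φ : P ⟶ Q)
    [IsIso ((presheafToSheaf J AddCommGrpCat.{u}).map φ)] (q : ℕ) : Die X J P q ↔ Die X J Q q :=
  (die_g_iff (kernel_shortExact φ) (isZero_kernel_sheafify φ) q).trans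
    (die_f_iff (image_shortExact φ) (isZero_cokernel_sheafify φ) q)

/-- Sections lift along a local isomorphism after refinement. -/
theorem exists_lift_zero {P Q : Cᵒᵖ ⥤ AddCommGrpCat.{u}} (φ : P ⟶ Q)
    [IsIso ((presheafToSheaf J AddCommGrpCat.{u}).map φ)] (hK : Hyper.IsHypercovering J X K)
    (τ : Hyper.cechH X K Q 0) :
    ∃ (L : SimplicialObject (FormalCoproduct.{u} (Over X))) (f : L ⟶ K) (ν : Hyper.cechH X L P 0),
      Hyper.IsHypercovering J X L ∧ pm φ 0 ν = Hyper.cechHMap X f Q 0 τ := by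
  obtain ⟨L, f, hL, hf⟩ := Kill.exists_killing K hK _ (isZero_cokernel_sheafify φ) 0 (pm (cokernel.π φ) 0 τ)
  obtain ⟨ν₁, hν₁⟩ := exists_f (image_shortExact φ) (Hyper.cechHMap X f Q 0 τ) (by rw [pm_hmap]; exact hf)
  obtain ⟨M, g, hM, hg⟩ := Kill.exists_killing L hL _ (isZero_kernel_sheafify φ) 1
    (δ (kernel_shortExact φ) 0 ν₁)
  obtain ⟨ν, hν⟩ := exists_g (kernel_shortExact φ) (Hyper.cechHMap X g _ 0 ν₁) (by rw [δ_hmap]; exact hg)
  refine ⟨M, g ≫ f, ν, hM, ?_⟩
  have h := pm_comp (K := M) (X := X) (Abelian.factorThruImage φ) (Abelian.image.ι φ) 0 ν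
  rw [Abelian.image.fac] at h
  rw [h, hν, pm_hmap, hν₁, hmap_comp]

end Groth.Agent.HyperLib.Colim
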