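import Groth.Agent.HyperLib.LocFill
import Groth.Agent.SiteCoh.CechLike
import Mathlib.CategoryTheory.Sites.EpiMono

/-!
The free abelian sheaves on a fillable augmented simplicial presheaf of sets form a resolution.
-/

set_option autoImplicit false

universe u

open CategoryTheory CategoryTheory.Limits Opposite Simplicial AlgebraicTopology
open Groth.Agent.HyperLib.LocFill Groth.Agent.SiteCoh

namespace Groth.Agent.HyperLib.FreeQuasi

variable {C : Type u} [SmallCategory C] {J : GrothendieckTopology C}

lemma epi_map_of_isLocallySurjective {P Q : Cᵒᵖ ⥤ AddCommGrpCat.{u}} (φ : P ⟶ Q)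
    [Presheaf.IsLocallySurjective J φ] : Epi ((presheafToSheaf J AddCommGrpCat.{u}).map φ) := by
  have : Sheaf.IsLocallySurjective ((presheafToSheaf J AddCommGrpCat.{u}).map φ) :=
    (Presheaf.isLocallySurjective_presheafToSheaf_map_iff J φ).2 inferInstance
  exact Sheaf.epi_of_isLocallySurjective _

/-- A locally exact short complex of presheaves is exact after sheafification. -/
theorem exact_map (T : ShortComplex (Cᵒᵖ ⥤ AddCommGrpCat.{u}))
    (h : ∀ (V : C) (y : T.X₂.obj (op V)), T.g.app (op V) y = 0 →
      Presheaf.imageSieve T.f (U := V) y ∈ J V) :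
    (T.map (presheafToSheaf J AddCommGrpCat.{u})).Exact := by
  have : Presheaf.IsLocallySurjective J (kernel.lift T.g T.f T.zero) := by
    refine ⟨fun {V} x => J.superset_covering ?_ (h V ((kernel.ι T.g).app (op V) x)
      (ConcreteCategory.congr_hom (congr_app (kernel.condition T.g) (op V)) x))⟩
    rintro W g ⟨z, hz⟩
    refine ⟨z, (AddCommGrpCat.mono_iff_injective ((kernel.ι T.g).app (op W))).mp inferInstance ?_⟩
    refine (ConcreteCategory.congr_hom (congr_app (kernel.lift_ι T.g T.f T.zero) (op W)) z).trans ?_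
    exact hz.trans (ConcreteCategory.congr_hom ((kernel.ι T.g).naturality g.op) x).symm
  let L := presheafToSheaf J AddCommGrpCat.{u}
  rw [ShortComplex.exact_iff_epi_kernel_lift]
  have e := map_lift_kernelComparison (f := T.g) (G := L) T.zero
  have := epi_map_of_isLocallySurjective (J := J) (kernel.lift T.g T.f T.zero)
  have h2 : Epi (L.map (kernel.lift T.g T.f T.zero) ≫ kernelComparison T.g L) := epi_comp _ _
  exact e ▸ h2

variable (X : SimplicialObject.Augmented (Cᵒᵖ ⥤ Type u))

/-- Local surjectivity passes to free abelian groups. -/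
lemma isLocallySurjective_free {P Q : Cᵒᵖ ⥤ Type u} (f : P ⟶ Q) [Presheaf.IsLocallySurjective J f] :
    Presheaf.IsLocallySurjective J (Functor.whiskerRight f AddCommGrpCat.free.{u}) := by
  refine ⟨fun {V} (b : FreeAbelianGroup (Q.obj (op V))) => ?_⟩
  have key : ∀ b : FreeAbelianGroup (Q.obj (op V)), ∃ R ∈ J V, ∀ {W : C} (g : W ⟶ V), R g →
      ∃ x : FreeAbelianGroup (P.obj (op W)),
        FreeAbelianGroup.map (f.app (op W)) x = FreeAbelianGroup.map (Q.map g.op) b := by
    intro b
    induction b using FreeAbelianGroup.induction_on with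
    | zero => exact ⟨⊤, J.top_mem V, fun g _ => ⟨0, by rw [map_zero, map_zero]⟩⟩
    | of b =>
      refine ⟨_, Presheaf.imageSieve_mem J f (U := op V) b, fun g hg => ?_⟩
      obtain ⟨x, hx⟩ := hg
      exact ⟨FreeAbelianGroup.of x, by
        rw [FreeAbelianGroup.map_of_apply, FreeAbelianGroup.map_of_apply, hx]⟩
    | neg b ih =>
      obtain ⟨R, hR, h⟩ := ih
      refine ⟨R, hR, fun g hg => ?_⟩
      obtain ⟨x, hx⟩ := h g hg
      exact ⟨-x, by rw [map_neg, map_neg, hx]⟩
    | add a b ha hb =>
      obtain ⟨R, hR, h⟩ := ha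
      obtain ⟨R', hR', h'⟩ := hb
      refine ⟨R ⊓ R', J.intersection_covering hR hR', fun g hg => ?_⟩
      obtain ⟨x, hx⟩ := h g hg.1
      obtain ⟨y, hy⟩ := h' g hg.2
      exact ⟨x + y, by rw [map_add, map_add, hx, hy]⟩
  obtain ⟨R, hR, h⟩ := key b
  exact J.superset_covering (fun W g hg => h g hg) hR

/-- Free abelian presheaves. -/
noncomputable abbrev G : (Cᵒᵖ ⥤ Type u) ⥤ (Cᵒᵖ ⥤ AddCommGrpCat.{u}) :=
  (Functor.whiskeringRight _ _ _).obj AddCommGrpCat.free.{u}

/-- The augmented simplicial presheaf of free abelian groups. -/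
noncomputable abbrev lin : SimplicialObject.Augmented (Cᵒᵖ ⥤ AddCommGrpCat.{u}) :=
  ((SimplicialObject.Augmented.whiskering _ _).obj G).obj X

/-- The chain complex of free abelian presheaves. -/
noncomputable abbrev linCx : ChainComplex (Cᵒᵖ ⥤ AddCommGrpCat.{u}) ℕ :=
  (alternatingFaceMapComplex _).obj (SimplicialObject.Augmented.drop.obj (lin X))

lemma d_eq_bd (n : ℕ) (V : C) (c : FS X (n + 1) V) :
    ((linCx X).d (n + 1) n).app (op V) c = bd c := by
  rw [alternatingFaceMapComplex_obj_d, AlternatingFaceMapComplex.objD, NatTrans.app_sum]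
  rw [← AddCommGrpCat.homAddEquiv_apply, map_sum, AddMonoidHom.finsetSum_apply, bd,
    AddMonoidHom.finsetSum_apply]
  refine Finset.sum_congr rfl fun j _ => ?_
  rw [NatTrans.app_zsmul, map_zsmul]
  rfl

variable {X}

/-- The augmented complex of free abelian sheaves on a fillable simplicial presheaf is a resolution. -/
theorem quasiIso_free_ε (hX : Fillable J X) :
    QuasiIso (AlternatingFaceMapComplex.ε.app
      (((SimplicialObject.Augmented.whiskering _ _).obj (Free.freePre J)).obj X)) := by
  let L := presheafToSheaf J AddCommGrpCat.{u}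
  refine (CechLike.quasiIso_map_ε_iff L (lin X)).1 ⟨fun n => ?_⟩
  cases n with
  | zero =>
    rw [ChainComplex.quasiIsoAt₀_iff, ShortComplex.quasiIso_iff_of_zeros']
    rotate_left
    · simp; rfl
    · simp; exact L.map_zero _ _
    · simp; rfl
    have hw : (linCx X).d 1 0 ≫ (AlternatingFaceMapComplex.ε.app (lin X)).f 0 = 0 := by
      exact ((AlternatingFaceMapComplex.ε.app (lin X)).comm 1 0).symm.trans (by simp; rfl)
    constructor
    · refine exact_map (ShortComplex.mk _ _ hw) fun V c hc => ?_
      have hc' : augF (X := X) c = 0 := by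
        refine Eq.trans ?_ hc
        simp [augF, AlternatingFaceMapComplex.ε_app_f_zero]
        rfl
      refine J.superset_covering ?_ (bdSieve_mem_zero hX c hc')
      rintro W g ⟨d, hd⟩
      exact ⟨d, (d_eq_bd X 0 W d).trans hd⟩
    · have := hX.vertex
      have : Presheaf.IsLocallySurjective J ((AlternatingFaceMapComplex.ε.app (lin X)).f 0) := by
        rw [AlternatingFaceMapComplex.ε_app_f_zero]
        exact isLocallySurjective_free (X.hom.app (op ⦋0⦌))
      exact epi_map_of_isLocallySurjective (J := J) _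
  | succ n =>
    have hex : (((L.mapHomologicalComplex _).obj (linCx X))).ExactAt (n + 1) := by
      rw [HomologicalComplex.exactAt_iff' _ (n + 2) (n + 1) n (by simp) (by simp)]
      refine exact_map ((linCx X).sc' (n + 2) (n + 1) n) fun V c hc => ?_
      refine J.superset_covering ?_ (bdSieve_mem_succ hX c ((d_eq_bd X n V c).symm.trans hc))
      rintro W g ⟨d, hd⟩
      exact ⟨d, (d_eq_bd X (n + 1) W d).trans hd⟩
    rw [quasiIsoAt_iff_exactAt _ _ hex]
    exact HomologicalComplex.ExactAt.of_isZero (L.map_isZero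
      (HomologicalComplex.isZero_single_obj_X (ComplexShape.down ℕ) 0 _ (n + 1) (by simp)))

end Groth.Agent.HyperLib.FreeQuasi
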