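import Groth.Agent.HyperLib.FillHyper
import Groth.Agent.HyperLib.FreeQuasi
import Groth.Agent.SiteCoh.HomRes
import Groth.Prelude.Def_CohSite

/-!
The Čech complexes of hypercoverings compute cohomology.
-/

set_option autoImplicit false

universe u

open CategoryTheory CategoryTheory.Limits Opposite Simplicial AlgebraicTopology
open CategoryTheory.Abelian
open Groth.Agent.SiteCoh

namespace Groth.Agent.HyperLib.Main

variable {C : Type u} [SmallCategory C] (J : GrothendieckTopology C)

/-- The augmented simplicial free abelian sheaf. -/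
noncomputable abbrev freeAug (Y : SimplicialObject.Augmented (Cᵒᵖ ⥤ Type u)) :
    SimplicialObject.Augmented (Sheaf J AddCommGrpCat.{u}) :=
  ((SimplicialObject.Augmented.whiskering _ _).obj (Free.freePre J)).obj Y

section Over

variable {X : C} {K : SimplicialObject (FormalCoproduct.{u} (Over X))}
  [∀ (n : ℕ) (F : (SimplexCategory.Truncated n)ᵒᵖ ⥤ FormalCoproduct.{u} (Over X)),
      (SimplexCategory.Truncated.inclusion n).op.HasRightKanExtension F]

omit [∀ (n : ℕ) (F : (SimplexCategory.Truncated n)ᵒᵖ ⥤ FormalCoproduct.{u} (Over X)),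
    (SimplexCategory.Truncated.inclusion n).op.HasRightKanExtension F] in
/-- The Čech complex as the complex of morphisms out of free abelian sheaves. -/
noncomputable def cechIso (F : Sheaf J AddCommGrpCat.{u}) :
    Hyper.cechCx X K F.obj ≅ (HomRes.homCx ((alternatingFaceMapComplex _).obj
      (SimplicialObject.Augmented.drop.obj (freeAug J (FillHyper.augOver X K))))).obj F :=
  Coprod.cochainIso (Over.forget X) J K F

theorem cechH_addEquiv_ext (hK : Hyper.IsHypercovering J X K) (F : Sheaf J AddCommGrpCat.{u})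
    (hF : ∀ (U : C) (q : ℕ), Subsingleton (CohSite.HU F (q + 1) U)) (p : ℕ) :
    Nonempty (Hyper.cechH X K F.obj p ≃+
      Ext ((Free.freePre J).obj (yoneda.obj X)) F p) := by
  have : QuasiIso (AlternatingFaceMapComplex.ε.app (freeAug J (FillHyper.augOver X K))) :=
    FreeQuasi.quasiIso_free_ε (FillHyper.fillable J hK)
  obtain ⟨e⟩ := HomRes.nonempty_homology_addEquiv_ext
    (AlternatingFaceMapComplex.ε.app (freeAug J (FillHyper.augOver X K))) p F
    (fun m q => Coprod.subsingleton_ext (Over.forget X) J (K.obj (op ⦋m⦌)) F q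
      (fun i q' => hF _ q'))
  exact ⟨((HomologicalComplex.homologyFunctor _ _ p).mapIso
    (cechIso J F)).addCommGroupIsoToAddEquiv.trans e⟩

theorem cechH0_iso (hK : Hyper.IsHypercovering J X K) (F : Sheaf J AddCommGrpCat.{u}) :
    Nonempty (Hyper.cechH X K F.obj 0 ≅ F.obj.obj (op X)) := by
  let π := AlternatingFaceMapComplex.ε.app (freeAug J (FillHyper.augOver X K))
  have : QuasiIso π := FreeQuasi.quasiIso_free_ε (FillHyper.fillable J hK)
  exact ⟨(((HomologicalComplex.homologyFunctor _ _ 0).mapIso
    (cechIso J F)).addCommGroupIsoToAddEquiv.trans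
      ((AddEquiv.ofBijective (HomRes.theta π F).hom (HomRes.theta_bijective π F)).symm.trans
        (Free.sectionEquiv J X F))).toAddCommGrpIso⟩

end Over

section Site

/-- Evaluation of a morphism out of the free sheaf on a point at a section. -/
noncomputable def globalEv (F : Sheaf J AddCommGrpCat.{u}) :
    AddCommGrpCat.of ((Free.freePre J).obj ((Functor.const Cᵒᵖ).obj PUnit.{u + 1}) ⟶ F) ⟶
      limit F.obj :=
  limit.lift F.obj
    { pt := _
      π :=
        { app := fun V => AddCommGrpCat.ofHom (AddMonoidHom.mk'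
            (fun φ => (((Free.adj J).homEquiv _ F) φ).app V PUnit.unit) (fun a b => by
              simp only [Adjunction.homEquiv_unit]
              rfl))
          naturality := fun V W g => by
            ext φ
            exact NatTrans.naturality_apply (((Free.adj J).homEquiv _ F) φ) g PUnit.unit } }

lemma π_globalEv (F : Sheaf J AddCommGrpCat.{u}) (V : Cᵒᵖ)
    (φ : (Free.freePre J).obj ((Functor.const Cᵒᵖ).obj PUnit.{u + 1}) ⟶ F) :
    limit.π F.obj V (globalEv J F φ) = (((Free.adj J).homEquiv _ F) φ).app V PUnit.unit := by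
  rw [← ConcreteCategory.comp_apply, globalEv, limit.lift_π]
  rfl

theorem globalEv_bijective (F : Sheaf J AddCommGrpCat.{u}) : Function.Bijective (globalEv J F) := by
  refine ⟨fun a b h => ?_, fun x => ?_⟩
  · refine ((Free.adj J).homEquiv _ F).injective ?_
    ext V ⟨⟩
    exact (π_globalEv J F V a).symm.trans ((congrArg _ h).trans (π_globalEv J F V b))
  · let ψ : (Functor.const Cᵒᵖ).obj PUnit.{u + 1} ⟶ F.obj ⋙ forget AddCommGrpCat.{u} :=
      { app := fun V => ↾fun _ => limit.π F.obj V x
        naturality := fun V W g => by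
          ext p
          exact (ConcreteCategory.congr_hom (limit.w F.obj g) x).symm }
    refine ⟨((Free.adj J).homEquiv _ F).symm ψ, Concrete.limit_ext F.obj _ _ fun V => ?_⟩
    rw [π_globalEv, Equiv.apply_symm_apply]
    rfl

variable {K : SimplicialObject (FormalCoproduct.{u} C)}

/-- The Čech complex as the complex of morphisms out of free abelian sheaves. -/
noncomputable def cechSiteIso (F : Sheaf J AddCommGrpCat.{u}) :
    Hyper.cechCxSite K F.obj ≅ (HomRes.homCx ((alternatingFaceMapComplex _).obj
      (SimplicialObject.Augmented.drop.obj (freeAug J (FillHyper.augSite K))))).obj F :=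
  Coprod.cochainIso (𝟭 C) J K F

/-- The free chain complex of a simplicial formal coproduct. -/
noncomputable def freeChainCxIso :
    Hyper.freeChainCx J K ≅ (alternatingFaceMapComplex _).obj
      (SimplicialObject.Augmented.drop.obj (freeAug J (FillHyper.augSite K))) :=
  (alternatingFaceMapComplex _).mapIso
    (Functor.isoWhiskerRight (Functor.isoWhiskerLeft K (Coprod.isoEval (𝟭 C))) (Free.freePre J))

variable [∀ (n : ℕ) (F : (SimplexCategory.Truncated n)ᵒᵖ ⥤ FormalCoproduct.{u} C),
      (SimplexCategory.Truncated.inclusion n).op.HasRightKanExtension F]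

theorem cechSite_addEquiv_ext (hK : Hyper.IsHypercoveringSite J K) (F : Sheaf J AddCommGrpCat.{u})
    (hF : ∀ (U : C) (q : ℕ), Subsingleton (CohSite.HU F (q + 1) U)) (p : ℕ) :
    Nonempty ((Hyper.cechCxSite K F.obj).homology p ≃+
      Ext ((Free.freePre J).obj ((Functor.const Cᵒᵖ).obj PUnit.{u + 1})) F p) := by
  have : QuasiIso (AlternatingFaceMapComplex.ε.app (freeAug J (FillHyper.augSite K))) :=
    FreeQuasi.quasiIso_free_ε (FillHyper.fillable_site J K hK)
  obtain ⟨e⟩ := HomRes.nonempty_homology_addEquiv_ext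
    (AlternatingFaceMapComplex.ε.app (freeAug J (FillHyper.augSite K))) p F
    (fun m q => Coprod.subsingleton_ext (𝟭 C) J (K.obj (op ⦋m⦌)) F q
      (fun i q' => hF _ q'))
  exact ⟨((HomologicalComplex.homologyFunctor _ _ p).mapIso
    (cechSiteIso J F)).addCommGroupIsoToAddEquiv.trans e⟩

theorem cechSiteH0_iso (hK : Hyper.IsHypercoveringSite J K) (F : Sheaf J AddCommGrpCat.{u}) :
    Nonempty ((Hyper.cechCxSite K F.obj).homology 0 ≅ limit F.obj) := by
  let π := AlternatingFaceMapComplex.ε.app (freeAug J (FillHyper.augSite K))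
  have : QuasiIso π := FreeQuasi.quasiIso_free_ε (FillHyper.fillable_site J K hK)
  exact ⟨(((HomologicalComplex.homologyFunctor _ _ 0).mapIso
    (cechSiteIso J F)).addCommGroupIsoToAddEquiv.trans
      ((AddEquiv.ofBijective (HomRes.theta π F).hom (HomRes.theta_bijective π F)).symm.trans
        (AddEquiv.ofBijective (globalEv J F).hom (globalEv_bijective J F)))).toAddCommGrpIso⟩

theorem freeChainCx_resolution (hK : Hyper.IsHypercoveringSite J K) :
    (∀ n : ℕ, IsZero ((Hyper.freeChainCx J K).homology (n + 1))) ∧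
    Nonempty ((Hyper.freeChainCx J K).homology 0 ≅ (presheafToSheaf J AddCommGrpCat.{u}).obj
      ((Functor.const Cᵒᵖ).obj (AddCommGrpCat.free.{u}.obj PUnit.{u + 1}))) := by
  let π := AlternatingFaceMapComplex.ε.app (freeAug J (FillHyper.augSite K))
  have : QuasiIso π := FreeQuasi.quasiIso_free_ε (FillHyper.fillable_site J K hK)
  refine ⟨fun n => IsZero.of_iso ((HomologicalComplex.exactAt_iff_isZero_homology _ _).1
    (HomRes.exactAt_succ π n)) ((HomologicalComplex.homologyFunctor _ _ (n + 1)).mapIso
      (freeChainCxIso J)), ⟨?_⟩⟩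
  exact (HomologicalComplex.homologyFunctor _ _ 0).mapIso (freeChainCxIso J) ≪≫
    (haveI : QuasiIsoAt π 0 := QuasiIso.quasiIsoAt (f := π) 0; isoOfQuasiIsoAt π 0) ≪≫
    HomologicalComplex.singleObjHomologySelfIso (ComplexShape.down ℕ) 0
      ((Free.freePre J).obj ((Functor.const Cᵒᵖ).obj PUnit.{u + 1})) ≪≫
    (presheafToSheaf J AddCommGrpCat.{u}).mapIso (NatIso.ofComponents (fun V => Iso.refl _))

end Site

end Groth.Agent.HyperLib.Main
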