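import Groth.Agent.HyperLib.Colim
import Groth.Agent.HyperLib.Main

/-!
Vanishing of the cohomology of an abelian sheaf is the dying of all Čech classes of hypercoverings.
-/

set_option autoImplicit false

universe u

open CategoryTheory CategoryTheory.Limits Opposite Simplicial AlgebraicTopology
open CategoryTheory.Abelian
open Groth.Agent.SiteCoh Groth.Agent.HyperLib.Colim

namespace Groth.Agent.HyperLib.ColimSheaf

variable {C : Type u} [SmallCategory C] {X : C}
  {K L : SimplicialObject (FormalCoproduct.{u} (Over X))}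

/-- Restriction of a section to the vertices. -/
noncomputable def toC0 (K : SimplicialObject (FormalCoproduct.{u} (Over X))) (P : Cᵒᵖ ⥤ AddCommGrpCat.{u}) :
    P.obj (op X) ⟶ (Hyper.cechCx X K P).X 0 :=
  Pi.lift fun i => P.map ((K _⦋0⦌).obj i).hom.op

lemma comp_toC0 (P : Cᵒᵖ ⥤ AddCommGrpCat.{u}) (i : (K _⦋0⦌).I) (x : P.obj (op X)) :
    Kill.comp P 0 i (toC0 K P x) = P.map ((K _⦋0⦌).obj i).hom.op x := by
  rw [← ConcreteCategory.comp_apply]
  exact ConcreteCategory.congr_hom (Pi.lift_π _ _) x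

lemma comp_d (P : Cᵒᵖ ⥤ AddCommGrpCat.{u}) (l : (K _⦋1⦌).I) (c : (Hyper.cechCx X K P).X 0) :
    Kill.comp P 1 l ((Hyper.cechCx X K P).d 0 1 c) =
      P.map ((K.δ (0 : Fin 2)).φ l).left.op (Kill.comp P 0 ((K.δ (0 : Fin 2)).f l) c) -
      P.map ((K.δ (1 : Fin 2)).φ l).left.op (Kill.comp P 0 ((K.δ (1 : Fin 2)).f l) c) := by
  have h : ∀ j : Fin 2, Kill.comp P 1 l
      ((((FormalCoproduct.evalOp.{u} (Over X) AddCommGrpCat.{u}).obj ((Over.forget X).op ⋙ P)).map (K.δ j).op) c) =
      P.map ((K.δ j).φ l).left.op (Kill.comp P 0 ((K.δ j).f l) c) := fun j =>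
    ConcreteCategory.congr_hom (Pi.lift_π (fun i : (K _⦋1⦌).I =>
      Pi.π (fun i : (K _⦋0⦌).I => P.obj (op ((K _⦋0⦌).obj i).left)) ((K.δ j).f i) ≫
        P.map ((K.δ j).φ i).left.op) l) c
  rw [← h 0, ← h 1, ← map_sub]
  refine congrArg _ ?_
  change (((alternatingCofaceMapComplex AddCommGrpCat.{u}).obj
    ((FormalCoproduct.cosimplicialObjectFunctor K).obj ((Over.forget X).op ⋙ P))).d 0 1) c = _
  simp only [alternatingCofaceMapComplex, AlternatingCofaceMapComplex.obj, CochainComplex.of_d,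
    AlternatingCofaceMapComplex.objD]
  refine (Cech.hom_sum_apply Finset.univ (fun i : Fin (0 + 2) => (-1 : ℤ) ^ (i : ℕ) •
    CosimplicialObject.δ ((FormalCoproduct.cosimplicialObjectFunctor K).obj ((Over.forget X).op ⋙ P)) i) c).trans ?_
  rw [Fin.sum_univ_two, sub_eq_add_neg]
  refine congrArg₂ (· + ·) ?_ ?_
  · simp
    rfl
  · simp
    rfl

lemma toC0_d (K : SimplicialObject (FormalCoproduct.{u} (Over X))) (P : Cᵒᵖ ⥤ AddCommGrpCat.{u}) :
    toC0 K P ≫ (Hyper.cechCx X K P).d 0 1 = 0 := by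
  ext x
  refine Kill.cochain_ext P fun l => ?_
  refine (comp_d P l (toC0 K P x)).trans ?_
  have h : ∀ j : Fin 2, P.map ((K.δ j).φ l).left.op (Kill.comp P 0 ((K.δ j).f l) (toC0 K P x)) =
      P.map ((K _⦋1⦌).obj l).hom.op x := fun j => by
    rw [comp_toC0, ← Functor.map_comp_apply, ← op_comp, Over.w]
  rw [h, h, sub_self]
  exact (map_zero (Kill.comp P 1 l).hom).symm

/-- Restriction of a section to zeroth Čech cohomology. -/
noncomputable def ρ (K : SimplicialObject (FormalCoproduct.{u} (Over X))) (P : Cᵒᵖ ⥤ AddCommGrpCat.{u}) :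
    P.obj (op X) ⟶ Hyper.cechH X K P 0 :=
  (Hyper.cechCx X K P).liftCycles (toC0 K P) 1 (by simp) (toC0_d K P) ≫
    (CochainComplex.isoHomologyπ₀ _).hom

lemma ρ_hmap (f : L ⟶ K) (P : Cᵒᵖ ⥤ AddCommGrpCat.{u}) (x : P.obj (op X)) :
    Hyper.cechHMap X f P 0 (ρ K P x) = ρ L P x := by
  have h : ρ K P ≫ HomologicalComplex.homologyMap (Hyper.cechMap X f P) 0 = ρ L P := by
    simp only [ρ, Category.assoc]
    rw [← cancel_mono (CochainComplex.isoHomologyπ₀ (Hyper.cechCx X L P)).inv]
    simp only [Category.assoc, CochainComplex.isoHomologyπ₀_inv_naturality,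
      Iso.hom_inv_id_assoc, Iso.hom_inv_id, Category.comp_id,
      ← cancel_mono ((Hyper.cechCx X L P).iCycles 0), HomologicalComplex.cyclesMap_i,
      HomologicalComplex.liftCycles_i_assoc, HomologicalComplex.liftCycles_i]
    ext x
    refine Kill.cochain_ext P fun l => ?_
    refine (Kill.comp_cechMap P f 0 l (toC0 K P x)).trans ?_
    rw [comp_toC0, comp_toC0, ← Functor.map_comp_apply, ← op_comp, Over.w]
  exact ConcreteCategory.congr_hom h x

lemma pm_ρ {P Q : Cᵒᵖ ⥤ AddCommGrpCat.{u}} (φ : P ⟶ Q) (x : P.obj (op X)) :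
    pm φ 0 (ρ K P x) = ρ K Q (φ.app (op X) x) := by
  let ψ : Hyper.cechCx X K P ⟶ Hyper.cechCx X K Q := (CF K).map φ
  have h0 : toC0 K P ≫ ψ.f 0 = φ.app (op X) ≫ toC0 K Q := by
    ext x
    refine Kill.cochain_ext Q fun i => ?_
    have h1 : Kill.comp Q 0 i (ψ.f 0 (toC0 K P x)) =
        φ.app (op ((K _⦋0⦌).obj i).left) (Kill.comp P 0 i (toC0 K P x)) :=
      ConcreteCategory.congr_hom (Limits.Pi.map_π
        (fun i : (K _⦋0⦌).I => φ.app (op ((K _⦋0⦌).obj i).left)) i) _
    refine h1.trans ((congrArg _ (comp_toC0 P i x)).trans ?_)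
    refine Eq.trans ?_ (comp_toC0 Q i (φ.app (op X) x)).symm
    exact NatTrans.naturality_apply φ _ x
  have h : ρ K P ≫ HomologicalComplex.homologyMap ψ 0 = φ.app (op X) ≫ ρ K Q := by
    simp only [ρ, Category.assoc]
    rw [← cancel_mono (CochainComplex.isoHomologyπ₀ (Hyper.cechCx X K Q)).inv]
    simp only [Category.assoc, CochainComplex.isoHomologyπ₀_inv_naturality,
      Iso.hom_inv_id_assoc, Iso.hom_inv_id, Category.comp_id,
      ← cancel_mono ((Hyper.cechCx X K Q).iCycles 0), HomologicalComplex.cyclesMap_i,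
      HomologicalComplex.liftCycles_i_assoc, HomologicalComplex.liftCycles_i]
    exact h0
  exact ConcreteCategory.congr_hom h x

variable [HasPullbacks C] {J : GrothendieckTopology C}
  [∀ (n : ℕ) (F : (SimplexCategory.Truncated n)ᵒᵖ ⥤ FormalCoproduct.{u} (Over X)),
    (SimplexCategory.Truncated.inclusion n).op.HasRightKanExtension F]
  (hK : Hyper.IsHypercovering J X K) (F : Sheaf J AddCommGrpCat.{u})

include hK in
theorem ρ_bijective : Function.Bijective (ρ K F.obj) := by
  have hsh : Presieve.IsSheaf J (F.obj ⋙ CategoryTheory.forget AddCommGrpCat.{u}) :=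
    (isSheaf_iff_isSheaf_of_type J _).1 (GrothendieckTopology.HasSheafCompose.isSheaf F.obj F.property)
  let π : ∀ i : (K _⦋0⦌).I, ((K _⦋0⦌).obj i).left ⟶ X := fun i => ((K _⦋0⦌).obj i).hom
  have hK0 : Presieve.IsSheafFor (F.obj ⋙ CategoryTheory.forget AddCommGrpCat.{u})
      (Presieve.ofArrows _ π) := (Presieve.isSheafFor_iff_generate _).2 (hsh _ hK.1)
  have hiso : Function.Bijective (CochainComplex.isoHomologyπ₀ (Hyper.cechCx X K F.obj)).hom :=
    ConcreteCategory.bijective_of_isIso _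
  refine hiso.comp (f := ((Hyper.cechCx X K F.obj).liftCycles (toC0 K F.obj) 1 (by simp) (toC0_d K F.obj)))
    ⟨fun x y hxy => ?_, fun c => ?_⟩
  · have h := congrArg ((Hyper.cechCx X K F.obj).iCycles 0) hxy
    rw [← ConcreteCategory.comp_apply, HomologicalComplex.liftCycles_i, ← ConcreteCategory.comp_apply,
      HomologicalComplex.liftCycles_i] at h
    refine hK0.isSeparatedFor.ext fun W g hg => ?_
    obtain ⟨i⟩ := hg
    exact (comp_toC0 F.obj i x).symm.trans ((congrArg (Kill.comp F.obj 0 i) h).trans (comp_toC0 F.obj i y))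
  · let c₀ := (Hyper.cechCx X K F.obj).iCycles 0 c
    have hc : (Hyper.cechCx X K F.obj).d 0 1 c₀ = 0 :=
      ConcreteCategory.congr_hom ((Hyper.cechCx X K F.obj).iCycles_d 0 1) c
    have hcomm : ∀ l : (K _⦋1⦌).I,
        F.obj.map ((K.δ (0 : Fin 2)).φ l).left.op (Kill.comp F.obj 0 ((K.δ (0 : Fin 2)).f l) c₀) =
          F.obj.map ((K.δ (1 : Fin 2)).φ l).left.op (Kill.comp F.obj 0 ((K.δ (1 : Fin 2)).f l) c₀) := fun l =>
      sub_eq_zero.1 ((comp_d F.obj l c₀).symm.trans ((congrArg _ hc).trans (map_zero _)))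
    let ev : ∀ (W : Over X), Points.Pt W (K _⦋0⦌) → F.obj.obj (op W.left) := fun W p =>
      F.obj.map (p.φ PUnit.unit).left.op (Kill.comp F.obj 0 (p.f PUnit.unit) c₀)
    have hev : ∀ (W : Over X) (p p' : Points.Pt W (K _⦋0⦌)), ev W p = ev W p' := by
      intro W p p'
      have hfill := (Points.hc_of_isHypercovering hK).fill 0 W ![p, p'] (fun m h => absurd h (by omega))
      rw [GrothendieckTopology.mem_over_iff] at hfill
      refine (hsh _ hfill).isSeparatedFor.ext fun V g hg => ?_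
      rw [Sieve.overEquiv_iff] at hg
      obtain ⟨w, hw⟩ := hg
      have key : ∀ j : Fin 2, F.obj.map g.op (ev W (![p, p'] j)) =
          F.obj.map (w.φ PUnit.unit).left.op
            (F.obj.map ((K.δ j).φ (w.f PUnit.unit)).left.op (Kill.comp F.obj 0 ((K.δ j).f (w.f PUnit.unit)) c₀)) := by
        intro j
        refine Eq.trans ?_ ((congrArg (ev _) (hw j)).symm.trans ?_)
        · refine ((congrArg (fun t => F.obj.map t (Kill.comp F.obj 0 _ c₀)) (op_comp (f := g) (g := ((![p, p'] j).φ PUnit.unit).left))).trans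
            (Functor.map_comp_apply F.obj _ _ _)).symm
        · refine (congrArg (fun t => F.obj.map t (Kill.comp F.obj 0 _ c₀))
            (op_comp (f := (w.φ PUnit.unit).left) (g := ((K.δ j).φ (w.f PUnit.unit)).left))).trans
            (Functor.map_comp_apply F.obj _ _ _)
      have h0 := key 0
      have h1 := key 1
      rw [hcomm] at h0
      exact h0.trans h1.symm
    have hcompat : Presieve.Arrows.Compatible (F.obj ⋙ CategoryTheory.forget AddCommGrpCat.{u}) π
        (fun i => Kill.comp F.obj 0 i c₀) := by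
      intro i i' Z gi gi' hg
      exact hev (Over.mk (gi ≫ π i)) (FormalCoproduct.Hom.fromIncl i (Over.homMk gi rfl))
        (FormalCoproduct.Hom.fromIncl i' (Over.homMk gi' hg.symm))
    obtain ⟨t, ht, -⟩ := (Presieve.isSheafFor_arrows_iff _ _).1 hK0 _ hcompat
    refine ⟨t, (AddCommGrpCat.mono_iff_injective ((Hyper.cechCx X K F.obj).iCycles 0)).1 inferInstance ?_⟩
    rw [← ConcreteCategory.comp_apply, HomologicalComplex.liftCycles_i]
    exact Kill.cochain_ext F.obj fun i => (comp_toC0 F.obj i t).trans (ht i)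

omit [HasPullbacks C] in
/-- Some hypercovering exists. -/
theorem exists_isHypercovering (J : GrothendieckTopology C) :
    ∃ K : SimplicialObject (FormalCoproduct.{u} (Over X)), Hyper.IsHypercovering J X K := by
  obtain ⟨K, hK, -⟩ := GenFinite.exists_hc (J := J.over X) (fun _ => True)
    (fun W => ⟨⊤, (J.over X).top_mem W, fun W' g _ => ⟨W', 𝟙 W', g, trivial, Category.id_comp g⟩⟩)
  exact ⟨K, Points.isHypercovering_of_hc hK⟩

omit [HasPullbacks C] in
include hK in
theorem subsingleton_cechH_injective (I : Sheaf J AddCommGrpCat.{u}) [Injective I] (p : ℕ) :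
    Subsingleton (Hyper.cechH X K I.obj (p + 1)) := by
  obtain ⟨e⟩ := Main.cechH_addEquiv_ext J hK I
    (fun _ _ => subsingleton_of_forall_eq 0 fun x => Ext.eq_zero_of_injective x) (p + 1)
  have : Subsingleton (Ext ((Free.freePre J).obj (yoneda.obj X)) I (p + 1)) :=
    subsingleton_of_forall_eq 0 fun x => Ext.eq_zero_of_injective x
  exact e.toEquiv.subsingleton

omit hK in
/-- Zeroth classes killed by a local isomorphism die. -/
theorem exists_killing_kernel {P Q : Cᵒᵖ ⥤ AddCommGrpCat.{u}} (φ : P ⟶ Q)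
    [IsIso ((presheafToSheaf J AddCommGrpCat.{u}).map φ)] (hK : Hyper.IsHypercovering J X K)
    (w : Hyper.cechH X K P 0) (hw : pm φ 0 w = 0) :
    ∃ (L : SimplicialObject (FormalCoproduct.{u} (Over X))) (f : L ⟶ K),
      Hyper.IsHypercovering J X L ∧ Hyper.cechHMap X f P 0 w = 0 := by
  have h := pm_comp (K := K) (X := X) (Abelian.factorThruImage φ) (Abelian.image.ι φ) 0 w
  rw [Abelian.image.fac, hw] at h
  have h0 : pm (Abelian.factorThruImage φ) 0 w = 0 :=
    pm_f_injective_zero (image_shortExact φ) (h.symm.trans (map_zero _).symm)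
  obtain ⟨v, hv⟩ := exists_f (kernel_shortExact φ) w h0
  obtain ⟨L, f, hL, hf⟩ := Kill.exists_killing K hK _ (isZero_kernel_sheafify φ) 0 v
  refine ⟨L, f, hL, ?_⟩
  rw [← hv, ← pm_hmap, hf, map_zero]

omit hK in
/-- Cohomology of a sheaf vanishes iff all Čech classes of hypercoverings die. -/
theorem die_sheaf_iff (q : ℕ) : ∀ (F : Sheaf J AddCommGrpCat.{u}),
    Die X J F.obj q ↔ Subsingleton (CohSite.HU F q X) := by
  induction q with
  | zero =>
    intro F
    constructor
    · intro h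
      obtain ⟨K, hK⟩ := exists_isHypercovering (X := X) J
      have : Subsingleton (F.obj.obj (op X)) := subsingleton_of_forall_eq 0 fun x => by
        obtain ⟨L, f, hL, hf⟩ := h K hK (ρ K F.obj x)
        refine (ρ_bijective hL F).1 ?_
        rw [← ρ_hmap f, hf, map_zero]
      exact (Free.HU0Equiv F X).toEquiv.subsingleton
    · intro h K hK ξ
      obtain ⟨x, rfl⟩ := (ρ_bijective hK F).2 ξ
      have : Subsingleton (F.obj.obj (op X)) := (Free.HU0Equiv F X).symm.toEquiv.subsingleton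
      exact ⟨K, 𝟙 K, hK, by rw [Subsingleton.elim x 0, map_zero, map_zero]⟩
  | succ q ih =>
    intro F
    let G := presheafToSheaf J AddCommGrpCat.{u}
    let S := DimShift.inj F
    have hS : S.ShortExact := DimShift.inj_shortExact F
    have : Mono S.f := hS.mono_f
    have : Mono S.f.hom := inferInstanceAs (Mono ((sheafToPresheaf J AddCommGrpCat.{u}).map S.f))
    let S' : ShortComplex (Cᵒᵖ ⥤ AddCommGrpCat.{u}) :=
      ShortComplex.mk S.f.hom (cokernel.π S.f.hom) (cokernel.condition _)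
    have hS' : S'.ShortExact :=
      { exact := ShortComplex.exact_of_g_is_cokernel S' (cokernelIsCokernel _)
        mono_f := inferInstanceAs (Mono S.f.hom)
        epi_g := coequalizer.π_epi }
    obtain ⟨φ, hφ, hφiso⟩ : ∃ φ : S'.X₃ ⟶ S.X₃.obj, cokernel.π S.f.hom ≫ φ = S.g.hom ∧ IsIso (G.map φ) := by
      refine ⟨cokernel.desc _ S.g.hom (congrArg (fun t => t.hom) S.zero), cokernel.π_desc _ _ _, ?_⟩
      generalize hg : cokernel.desc S.f.hom S.g.hom (congrArg (fun t => t.hom) S.zero) = φ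
      have hφ : cokernel.π S.f.hom ≫ φ = S.g.hom := hg ▸ cokernel.π_desc _ _ _
      let ε := (sheafificationAdjunction J AddCommGrpCat.{u}).counit
      have hεg : G.map S.g.hom ≫ ε.app S.X₃ = ε.app S.X₂ ≫ S.g := ε.naturality S.g
      have hεf : G.map S.f.hom ≫ ε.app S.X₂ = ε.app S.X₁ ≫ S.f := ε.naturality S.f
      have h0 : S.f ≫ inv (ε.app S.X₂) ≫ G.map (cokernel.π S.f.hom) = 0 := by
        rw [← cancel_epi (ε.app S.X₁), reassoc_of% hεf.symm, IsIso.hom_inv_id_assoc, ← G.map_comp,
          cokernel.condition, G.map_zero, comp_zero]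
      obtain ⟨d, hd⟩ := CokernelCofork.IsColimit.desc'
        (cokernelIsCokernel (EnoughInjectives.presentation F).some.f) _ h0
      have hd' : S.g ≫ d = inv (ε.app S.X₂) ≫ G.map (cokernel.π S.f.hom) := hd
      have : Epi (G.map (cokernel.π S.f.hom)) := inferInstance
      have he : Epi (G.map φ) := by
        have : Epi (G.map (cokernel.π S.f.hom) ≫ G.map φ) := by
          rw [← G.map_comp, hφ]
          rw [show G.map S.g.hom = ε.app S.X₂ ≫ S.g ≫ inv (ε.app S.X₃) by
            rw [← Category.assoc, ← hεg, Category.assoc, IsIso.hom_inv_id, Category.comp_id]]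
          have := hS.epi_g
          infer_instance
        exact epi_of_epi (G.map (cokernel.π S.f.hom)) (G.map φ)
      have hm : G.map φ ≫ ε.app S.X₃ ≫ d = 𝟙 _ := by
        rw [← cancel_epi (G.map (cokernel.π S.f.hom)), ← G.map_comp_assoc, hφ, reassoc_of% hεg, hd',
          IsIso.hom_inv_id_assoc, Category.comp_id]
      have : Mono (G.map φ) := mono_of_mono_fac hm
      exact isIso_of_mono_of_epi _
    have hI : ∀ (K : SimplicialObject (FormalCoproduct.{u} (Over X))), Hyper.IsHypercovering J X K →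
        ∀ p, Subsingleton (Hyper.cechH X K S'.X₂ (p + 1)) := fun K hK p =>
      subsingleton_cechH_injective hK S.X₂ p
    have hδ : ∀ (K : SimplicialObject (FormalCoproduct.{u} (Over X))), Hyper.IsHypercovering J X K →
        ∀ p (ξ : Hyper.cechH X K F.obj (p + 1)), ∃ ν, δ hS' p ν = ξ := fun K hK p ξ =>
      exists_δ hS' ξ ((hI K hK p).elim _ _)
    cases q with
    | zero =>
      constructor
      · intro h
        refine DimShift.subsingleton_one hS fun g => ?_
        obtain ⟨K, hK⟩ := exists_isHypercovering (X := X) J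
        let t := Free.sectionEquiv J X S.X₃ g
        obtain ⟨L, f, ν, hL, hν⟩ := exists_lift_zero φ hK (ρ K S.X₃.obj t)
        obtain ⟨M, f', hM, hf'⟩ := h L hL (δ hS' 0 ν)
        obtain ⟨η, hη⟩ := exists_g hS' (Hyper.cechHMap X f' S'.X₃ 0 ν) (by rw [δ_hmap]; exact hf')
        obtain ⟨x, rfl⟩ := (ρ_bijective hM S.X₂).2 η
        refine ⟨(Free.sectionEquiv J X S.X₂).symm x, (Free.sectionEquiv J X S.X₃).injective ?_⟩
        rw [Free.sectionEquiv_comp, AddEquiv.apply_symm_apply]
        refine (ρ_bijective hM S.X₃).1 ?_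
        rw [← pm_ρ, ← hφ, pm_comp]
        refine (congrArg (pm φ 0) hη).trans ?_
        rw [pm_hmap, hν, ← hmap_comp, ρ_hmap]
      · intro h K hK ξ
        obtain ⟨ν, rfl⟩ := hδ K hK 0 ξ
        obtain ⟨t, ht⟩ := (ρ_bijective hK S.X₃).2 (pm φ 0 ν)
        have : Subsingleton (Ext (CohCx.freeSheaf J X) S.X₁ 1) := h
        obtain ⟨a, ha⟩ := DimShift.exists_lift hS ((Free.sectionEquiv J X S.X₃).symm t)
        let x := Free.sectionEquiv J X S.X₂ a
        have hx : S.g.hom.app (op X) x = t := by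
          rw [← Free.sectionEquiv_comp, ha, AddEquiv.apply_symm_apply]
        let w := ν - pm S'.g 0 (ρ K S'.X₂ x)
        have hw : pm φ 0 w = 0 := by
          rw [map_sub, ← pm_comp, sub_eq_zero, ← ht, ← hx, ← pm_ρ]
          exact congrArg (fun t => pm t 0 (ρ K S'.X₂ x)) hφ.symm
        obtain ⟨L, f, hL, hwL⟩ := exists_killing_kernel φ hK w hw
        refine ⟨L, f, hL, ?_⟩
        rw [show ν = w + pm S'.g 0 (ρ K S'.X₂ x) by simp [w], map_add, δ_pm_g, add_zero]
        exact (δ_hmap hS' f 0 w).symm.trans ((congrArg _ hwL).trans (map_zero _))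
    | succ q =>
      have hFQ : Die X J F.obj (q + 1 + 1) ↔ Die X J S'.X₃ (q + 1) := by
        constructor
        · intro h K hK ξ
          obtain ⟨L, f, hL, hf⟩ := h K hK (δ hS' (q + 1) ξ)
          obtain ⟨η, hη⟩ := exists_g hS' (Hyper.cechHMap X f S'.X₃ (q + 1) ξ) (by rw [δ_hmap]; exact hf)
          exact ⟨L, f, hL, by rw [← hη, (hI L hL q).elim η 0, map_zero]⟩
        · intro h K hK ξ
          obtain ⟨ν, rfl⟩ := hδ K hK (q + 1) ξ
          obtain ⟨L, f, hL, hf⟩ := h K hK ν
          exact ⟨L, f, hL, (δ_hmap hS' f (q + 1) ν).symm.trans ((congrArg _ hf).trans (map_zero _))⟩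
      rw [hFQ, die_iff_of_isIso φ (q + 1), ih S.X₃]
      refine ⟨fun h => DimShift.subsingleton_succ hS q h, fun h => subsingleton_of_forall_eq 0 fun x => ?_⟩
      obtain ⟨y, rfl⟩ := Ext.covariant_sequence_exact₃ _ hS x rfl (h.elim _ _)
      rw [Ext.eq_zero_of_injective y, Ext.zero_comp]
      rfl

/-- The version for presheaves. -/
theorem die_iff (P : Cᵒᵖ ⥤ AddCommGrpCat.{u}) (q : ℕ) :
    Die X J P q ↔ Subsingleton (CohSite.HU ((presheafToSheaf J AddCommGrpCat.{u}).obj P) q X) := by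
  rw [← die_sheaf_iff]
  exact die_iff_of_isIso ((sheafificationAdjunction J AddCommGrpCat.{u}).unit.app P) q

end Groth.Agent.HyperLib.ColimSheaf
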