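import Groth.Agent.SiteCoh.Free
import Groth.Agent.SiteCoh.Cech
import Mathlib.CategoryTheory.Limits.FormalCoproducts.Basic
import Mathlib.CategoryTheory.Limits.Shapes.ConcreteCategory
import Mathlib.CategoryTheory.Preadditive.Yoneda.Limits

/-!
Coproducts of representable presheaves attached to formal coproducts, along a functor.
-/

set_option autoImplicit false

universe u

open CategoryTheory CategoryTheory.Limits Opposite
open Groth.Agent.SiteCoh

namespace Groth.Agent.HyperLib.Coprod

variable {C D : Type u} [SmallCategory C] [SmallCategory D] (G : D ⥤ C)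

/-- The coproduct of the representable presheaves of the images of a formal coproduct. -/
def coprod : FormalCoproduct.{u} D ⥤ (Cᵒᵖ ⥤ Type u) where
  obj x :=
    { obj := fun V => Σ i : x.I, (V.unop ⟶ G.obj (x.obj i))
      map := fun g => ↾fun p => ⟨p.1, g.unop ≫ p.2⟩
      map_id := fun V => by ext p <;> simp
      map_comp := fun g g' => by ext p <;> simp }
  map {x y} f :=
    { app := fun V => ↾fun p => ⟨f.f p.1, p.2 ≫ G.map (f.φ p.1)⟩
      naturality := fun V W g => by ext p <;> simp }
  map_id x := by ext V p <;> simp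
  map_comp f g := by ext V p <;> simp

variable {G}

@[simp]
theorem coprod_obj_map (x : FormalCoproduct.{u} D) {V W : Cᵒᵖ} (g : V ⟶ W)
    (p : Σ i : x.I, (V.unop ⟶ G.obj (x.obj i))) :
    ((coprod G).obj x).map g p = (⟨p.1, g.unop ≫ p.2⟩ : Σ i : x.I, (W.unop ⟶ G.obj (x.obj i))) :=
  rfl

@[simp]
theorem coprod_map_app {x y : FormalCoproduct.{u} D} (f : x ⟶ y) (V : Cᵒᵖ)
    (p : Σ i : x.I, (V.unop ⟶ G.obj (x.obj i))) :
    ((coprod G).map f).app V p =
      (⟨f.f p.1, p.2 ≫ G.map (f.φ p.1)⟩ : Σ i : y.I, (V.unop ⟶ G.obj (y.obj i))) :=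
  rfl

variable (G)

/-- The tautological section of a summand. -/
def pt (x : FormalCoproduct.{u} D) (i : x.I) :
    yoneda.obj (G.obj (x.obj i)) ⟶ (coprod G).obj x where
  app V := ↾fun a => (⟨i, a⟩ : Σ j : x.I, (V.unop ⟶ G.obj (x.obj j)))
  naturality V W g := by ext a; rfl

theorem yonedaEquiv_pt (x : FormalCoproduct.{u} D) (i : x.I) :
    yonedaEquiv (pt G x i) = ⟨i, 𝟙 _⟩ := rfl

theorem pt_naturality {x y : FormalCoproduct.{u} D} (f : x ⟶ y) (i : x.I) :
    pt G x i ≫ (coprod G).map f = yoneda.map (G.map (f.φ i)) ≫ pt G y (f.f i) := by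
  refine yonedaEquiv.injective ?_
  rw [yonedaEquiv_comp, ← yonedaEquiv_naturality, yonedaEquiv_pt, yonedaEquiv_pt]
  refine Sigma.ext rfl (heq_of_eq ?_)
  exact (Category.id_comp _).trans (Category.comp_id _).symm

/-- A section of the presheaf is a natural family of sections on the summands. -/
theorem comp_pt_bijective (x : FormalCoproduct.{u} D) (P : Cᵒᵖ ⥤ Type u) :
    Function.Bijective (fun (φ : (coprod G).obj x ⟶ P) i => φ.app _ (yonedaEquiv (pt G x i))) := by
  refine ⟨fun φ ψ h => ?_, fun s => ?_⟩
  · ext V ⟨i, a⟩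
    have hi := congrFun h i
    simp only [yonedaEquiv_pt] at hi
    have hp : (⟨i, a⟩ : Σ j : x.I, (V.unop ⟶ G.obj (x.obj j))) =
        ((coprod G).obj x).map a.op
          (⟨i, 𝟙 _⟩ : Σ j : x.I, (G.obj (x.obj i) ⟶ G.obj (x.obj j))) :=
      Sigma.ext rfl (heq_of_eq (Category.comp_id a).symm)
    refine (congrArg _ hp).trans (Eq.trans ?_ (congrArg _ hp).symm)
    exact (NatTrans.naturality_apply φ a.op _).trans
      ((congrArg _ hi).trans (NatTrans.naturality_apply ψ a.op _).symm)
  · refine ⟨{ app := fun V => ↾fun p => P.map p.2.op (s p.1), naturality := fun V W g => ?_ }, ?_⟩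
    · ext p
      exact (congrArg (fun h => P.map h (s p.1)) (op_comp (f := g.unop) (g := p.2))).trans
        (Functor.map_comp_apply P _ _ _)
    · funext i
      exact (congrArg (fun h => P.map h (s i)) op_id).trans (P.map_id_apply _ _)

/-- The tautological sections form a coproduct. -/
noncomputable def isColimit (x : FormalCoproduct.{u} D) :
    IsColimit (Cofan.mk ((coprod G).obj x) (pt G x)) :=
  Cofan.IsColimit.mk _
    (fun s => (Equiv.ofBijective _ (comp_pt_bijective G x s.pt)).symm
      fun i => yonedaEquiv (s.inj i))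
    (fun s i => by
      refine yonedaEquiv.injective ?_
      have := congrFun ((Equiv.ofBijective _ (comp_pt_bijective G x s.pt)).apply_symm_apply
        fun i => yonedaEquiv (s.inj i)) i
      exact (yonedaEquiv_comp _ _).trans this)
    (fun s m hm => by
      refine ((Equiv.ofBijective _ (comp_pt_bijective G x s.pt)).eq_symm_apply).2 (funext fun i => ?_)
      rw [← hm i]
      exact (yonedaEquiv_comp (pt G x i) m).symm)

/-- Comparison with the coproduct of representables. -/
noncomputable def isoEval :
    (FormalCoproduct.eval.{u} D (Cᵒᵖ ⥤ Type u)).obj (G ⋙ yoneda) ≅ coprod G :=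
  NatIso.ofComponents
    (fun x => (coproductIsCoproduct fun i : x.I => yoneda.obj (G.obj (x.obj i))).coconePointUniqueUpToIso
      (isColimit G x))
    (fun {x y} f => by
      refine Sigma.hom_ext _ _ fun i => ?_
      have key : ∀ (z : FormalCoproduct.{u} D) (i : z.I),
          Sigma.ι (fun i : z.I => yoneda.obj (G.obj (z.obj i))) i ≫
            ((coproductIsCoproduct fun i : z.I => yoneda.obj (G.obj (z.obj i))).coconePointUniqueUpToIso
              (isColimit G z)).hom = pt G z i := fun z i =>
        IsColimit.comp_coconePointUniqueUpToIso_hom _ (isColimit G z) ⟨i⟩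
      refine Eq.trans ?_ (((congrArg (· ≫ (coprod G).map f) (key x i)).trans
        (pt_naturality G f i)).symm.trans (Category.assoc _ _ _))
      generalize hy : ((coproductIsCoproduct fun i : y.I => yoneda.obj (G.obj (y.obj i))).coconePointUniqueUpToIso
        (isColimit G y)).hom = t
      have ky : Sigma.ι (fun i : y.I => yoneda.obj (G.obj (y.obj i))) (f.f i) ≫ t = pt G y (f.f i) :=
        hy ▸ key y (f.f i)
      exact ((Category.assoc _ _ _).symm.trans (congrArg (· ≫ t)
        (colimit.ι_desc (Cofan.mk _ fun i => yoneda.map (G.map (f.φ i)) ≫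
          Sigma.ι (fun i : y.I => yoneda.obj (G.obj (y.obj i))) (f.f i)) ⟨i⟩))).trans
        ((Category.assoc _ _ _).trans (congrArg (yoneda.map (G.map (f.φ i)) ≫ ·) ky)))

variable (J : GrothendieckTopology C)

/-- Evaluation of a morphism out of a free abelian sheaf on a summand. -/
noncomputable def ev (F : Sheaf J AddCommGrpCat.{u}) (x : FormalCoproduct.{u} D) (i : x.I) :
    ((Free.freePre J).obj ((coprod G).obj x) ⟶ F) →+ F.obj.obj (op (G.obj (x.obj i))) :=
  (Free.sectionEquiv J (G.obj (x.obj i)) F).toAddMonoidHom.comp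
    (Preadditive.leftComp F ((Free.freePre J).map (pt G x i)))

theorem ev_naturality (F : Sheaf J AddCommGrpCat.{u}) {x y : FormalCoproduct.{u} D}
    (f : x ⟶ y) (i : x.I) (φ : (Free.freePre J).obj ((coprod G).obj y) ⟶ F) :
    ev G J F x i ((Free.freePre J).map ((coprod G).map f) ≫ φ) =
      F.obj.map (G.map (f.φ i)).op (ev G J F y (f.f i) φ) := by
  refine Eq.trans ?_ (Free.sectionEquiv_map J (G.map (f.φ i))
    ((Free.freePre J).map (pt G y (f.f i)) ≫ φ))
  simp only [ev, AddMonoidHom.comp_apply, AddEquiv.coe_toAddMonoidHom]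
  refine congrArg (Free.sectionEquiv J (G.obj (x.obj i)) F) ?_
  change (Free.freePre J).map (pt G x i) ≫ (Free.freePre J).map ((coprod G).map f) ≫ φ =
    (Free.freePre J).map (yoneda.map (G.map (f.φ i))) ≫ _
  rw [← Category.assoc, ← Functor.map_comp, pt_naturality, Functor.map_comp, Category.assoc]

theorem ev_bijective (F : Sheaf J AddCommGrpCat.{u}) (x : FormalCoproduct.{u} D) :
    Function.Bijective (fun φ i => ev G J F x i φ) := by
  have h := (comp_pt_bijective G x (F.obj ⋙ forget AddCommGrpCat.{u})).comp
    ((Free.adj J).homEquiv ((coprod G).obj x) F).bijective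
  have e : (fun φ i => ev G J F x i φ) = (fun φ i => φ.app _ (yonedaEquiv (pt G x i))) ∘
      (Free.adj J).homEquiv ((coprod G).obj x) F := by
    funext φ i
    change yonedaEquiv (((Free.adj J).homEquiv _ F) ((Free.freePre J).map (pt G x i) ≫ φ)) = _
    rw [(Free.adj J).homEquiv_naturality_left, yonedaEquiv_comp]
    rfl
  rw [e]
  exact h

/-- Evaluation on all the summands. -/
noncomputable def evAll (F : Sheaf J AddCommGrpCat.{u}) (x : FormalCoproduct.{u} D) :
    AddCommGrpCat.of ((Free.freePre J).obj ((coprod G).obj x) ⟶ F) ⟶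
      ∏ᶜ fun i : x.I => F.obj.obj (op (G.obj (x.obj i))) :=
  Pi.lift fun i => AddCommGrpCat.ofHom (ev G J F x i)

theorem evAll_apply (F : Sheaf J AddCommGrpCat.{u}) (x : FormalCoproduct.{u} D) (i : x.I)
    (φ : (Free.freePre J).obj ((coprod G).obj x) ⟶ F) :
    Pi.π (fun i : x.I => F.obj.obj (op (G.obj (x.obj i)))) i (evAll G J F x φ) = ev G J F x i φ := by
  rw [evAll, ← ConcreteCategory.comp_apply, Pi.lift_π]
  rfl

theorem evAll_bijective (F : Sheaf J AddCommGrpCat.{u}) (x : FormalCoproduct.{u} D) :
    Function.Bijective (evAll G J F x) := by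
  refine (Function.Bijective.of_comp_iff' (Concrete.productEquiv _).bijective _).1 ?_
  have e : (Concrete.productEquiv fun i : x.I => F.obj.obj (op (G.obj (x.obj i)))) ∘ evAll G J F x =
      fun φ i => ev G J F x i φ := by
    funext φ i
    simp only [Function.comp_apply, Concrete.productEquiv_apply_apply]
    exact evAll_apply G J F x i φ
  rw [e]
  exact ev_bijective G J F x

/-- `Hom` out of the free abelian sheaves on the coproducts is evaluation on formal coproducts. -/
noncomputable def evIso (F : Sheaf J AddCommGrpCat.{u}) :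
    (coprod G ⋙ Free.freePre J).op ⋙ preadditiveYoneda.obj F ≅
      (FormalCoproduct.evalOp.{u} D AddCommGrpCat.{u}).obj (G.op ⋙ F.obj) :=
  NatIso.ofComponents (fun x =>
    @asIso _ _ _ _ (evAll G J F x.unop)
      ((ConcreteCategory.isIso_iff_bijective _).2 (evAll_bijective G J F x.unop)))
    (fun {x y} f => by
      refine Pi.hom_ext _ _ fun i => ?_
      ext (φ : (Free.freePre J).obj ((coprod G).obj x.unop) ⟶ F)
      simp only [FormalCoproduct.evalOp, Functor.comp_map, Category.assoc, Pi.lift_π]
      exact (evAll_apply G J F y.unop i _).trans ((ev_naturality G J F f.unop i φ).trans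
        (congrArg _ (evAll_apply G J F x.unop (f.unop.f i) φ).symm)))

open AlgebraicTopology

/-- The cochain complex of a simplicial formal coproduct is the complex of morphisms out of the
free abelian sheaves. -/
noncomputable def cochainIso (K : SimplicialObject (FormalCoproduct.{u} D)) (F : Sheaf J AddCommGrpCat.{u}) :
    (FormalCoproduct.cochainComplexFunctor K).obj (G.op ⋙ F.obj) ≅
      (HomRes.homCx ((alternatingFaceMapComplex _).obj (K ⋙ coprod G ⋙ Free.freePre J))).obj F :=
  (alternatingCofaceMapComplex _).mapIso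
    (Functor.isoWhiskerLeft K.rightOp (evIso G J F).symm) ≪≫
  Cech.cofaceIso (K ⋙ coprod G ⋙ Free.freePre J) F

/-- `Ext` out of the free sheaf on a formal coproduct vanishes if the cohomology of the objects
does. -/
theorem subsingleton_ext (x : FormalCoproduct.{u} D) (F : Sheaf J AddCommGrpCat.{u}) (q : ℕ)
    (h : ∀ i q', Subsingleton (Abelian.Ext ((Free.freePre J).obj (yoneda.obj (G.obj (x.obj i)))) F (q' + 1))) :
    Subsingleton (Abelian.Ext ((Free.freePre J).obj ((coprod G).obj x)) F (q + 1)) :=
  Cech.subsingleton_ext_of_bijective (fun i => (Free.freePre J).map (pt G x i))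
    (fun H => by
      have hb := ev_bijective G J H x
      let E := Equiv.piCongrRight fun i => (Free.sectionEquiv J (G.obj (x.obj i)) H).toEquiv
      exact (Function.Bijective.of_comp_iff' E.bijective _).1 hb)
    q F h

end Groth.Agent.HyperLib.Coprod
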