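import Mathlib.AlgebraicTopology.SimplicialObject.Basic
import Mathlib.CategoryTheory.Limits.Shapes.Products

/-!
Points of the coskeleton of a truncated simplicial object in a category with coproducts are the
compatible families of simplices of low dimension.
-/

set_option autoImplicit false

universe v u

open CategoryTheory CategoryTheory.Limits Opposite Simplicial

namespace Groth.Agent.HyperLib.CoskLift

variable {E : Type u} [Category.{v} E] [HasCoproducts.{0} E] (K : SimplicialObject E) (n : ℕ)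

/-- The copower of an object by a standard simplex. -/
noncomputable def copow (T : E) (m : ℕ) : SimplicialObject E where
  obj k := ∐ fun _ : k.unop ⟶ ⦋m⦌ => T
  map {k k'} ψ := Sigma.desc fun φ => Sigma.ι (fun _ : k'.unop ⟶ ⦋m⦌ => T) (ψ.unop ≫ φ)
  map_id k := Sigma.hom_ext _ _ fun φ => by simp
  map_comp ψ ψ' := Sigma.hom_ext _ _ fun φ => by simp

variable [∀ F : (SimplexCategory.Truncated n)ᵒᵖ ⥤ E,
  (SimplexCategory.Truncated.inclusion n).op.HasRightKanExtension F]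

/-- The coskeleton of the truncation. -/
noncomputable abbrev Q : SimplicialObject E :=
  (SimplicialObject.Truncated.cosk n).obj ((SimplicialObject.truncation n).obj K)

/-- The unit. -/
noncomputable abbrev η : K ⟶ Q K n := (SimplicialObject.coskAdj n).unit.app K

/-- The counit in low degree. -/
noncomputable abbrev ev (k : ℕ) (hk : k ≤ n) : (Q K n) _⦋k⦌ ⟶ K _⦋k⦌ :=
  ((SimplicialObject.coskAdj n).counit.app ((SimplicialObject.truncation n).obj K)).app
    (op ⟨⦋k⦌, hk⟩)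

omit [HasCoproducts.{0} E] in
lemma η_ev (k : ℕ) (hk : k ≤ n) : (η K n).app (op ⦋k⦌) ≫ ev K n k hk = 𝟙 _ :=
  congr_app ((SimplicialObject.coskAdj (C := E) n).left_triangle_components K) (op ⟨⦋k⦌, hk⟩)

/-- Compatible families of morphisms lift to the coskeleton. -/
theorem exists_point {T : E} {m : ℕ} (e : ∀ k : ℕ, k ≤ n → (⦋k⦌ ⟶ ⦋m⦌) → (T ⟶ K _⦋k⦌))
    (he : ∀ k k' (hk : k ≤ n) (hk' : k' ≤ n) (ψ : ⦋k'⦌ ⟶ ⦋k⦌) (φ : ⦋k⦌ ⟶ ⦋m⦌),
      e k' hk' (ψ ≫ φ) = e k hk φ ≫ K.map ψ.op) :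
    ∃ c : T ⟶ (Q K n) _⦋m⦌, ∀ k (hk : k ≤ n) (φ : ⦋k⦌ ⟶ ⦋m⦌),
      c ≫ (Q K n).map φ.op ≫ ev K n k hk = e k hk φ := by
  let t : (SimplicialObject.truncation n).obj (copow T m) ⟶ (SimplicialObject.truncation n).obj K :=
    { app := fun a => Sigma.desc fun φ => e a.unop.1.len a.unop.2 φ
      naturality := fun a b ψ => Sigma.hom_ext _ _ fun φ => by
        change Sigma.ι (fun _ : a.unop.obj ⟶ ⦋m⦌ => T) φ ≫
            Sigma.desc (fun φ => Sigma.ι (fun _ : b.unop.obj ⟶ ⦋m⦌ => T) (ψ.unop.hom ≫ φ)) ≫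
              Sigma.desc (fun φ => e b.unop.1.len b.unop.2 φ) =
          Sigma.ι (fun _ : a.unop.obj ⟶ ⦋m⦌ => T) φ ≫ Sigma.desc (fun φ => e a.unop.1.len a.unop.2 φ) ≫
            K.map ψ.unop.hom.op
        simp only [colimit.ι_desc_assoc, colimit.ι_desc, Cofan.mk_pt, Cofan.mk_ι_app]
        exact he _ _ _ _ ψ.unop.hom φ }
  let f := (SimplicialObject.coskAdj (C := E) n).homEquiv _ _ t
  refine ⟨Sigma.ι (fun _ : (op ⦋m⦌).unop ⟶ ⦋m⦌ => T) (𝟙 _) ≫ f.app (op ⦋m⦌), fun k hk φ => ?_⟩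
  have hn := f.naturality φ.op
  refine (Category.assoc _ _ _).trans ((congrArg (_ ≫ ·) ((reassoc_of% hn.symm) (ev K n k hk))).trans ?_)
  have h : f.app (op ⦋k⦌) ≫ ev K n k hk = t.app (op ⟨⦋k⦌, hk⟩) :=
    congr_app (((SimplicialObject.coskAdj (C := E) n).homEquiv_counit _ _ f).symm.trans
      (((SimplicialObject.coskAdj (C := E) n).homEquiv _ _).symm_apply_apply t)) (op ⟨⦋k⦌, hk⟩)
  rw [h]
  change Sigma.ι (fun _ : ⦋m⦌ ⟶ ⦋m⦌ => T) (𝟙 _) ≫
    Sigma.desc (fun χ => Sigma.ι (fun _ : ⦋k⦌ ⟶ ⦋m⦌ => T) (φ ≫ χ)) ≫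
      Sigma.desc (fun χ => e k hk χ) = e k hk φ
  simp

omit [∀ F : (SimplexCategory.Truncated n)ᵒᵖ ⥤ E,
  (SimplexCategory.Truncated.inclusion n).op.HasRightKanExtension F] in
/-- A compatible family of faces gives a compatible family on all proper faces. -/
theorem exists_family {T : E} (z : Fin (n + 2) → (T ⟶ K _⦋n⦌))
    (hz : ∀ (m : ℕ) (h : n = m + 1) (i j : Fin (m + 2)), i ≤ j →
      z ⟨j.succ, by omega⟩ ≫ K.map (SimplexCategory.δ i ≫ eqToHom (by rw [h])).op =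
        z ⟨i.castSucc, by omega⟩ ≫ K.map (SimplexCategory.δ j ≫ eqToHom (by rw [h])).op) :
    ∃ e : ∀ k : ℕ, k ≤ n → (⦋k⦌ ⟶ ⦋n + 1⦌) → (T ⟶ K _⦋k⦌),
      (∀ k k' (hk : k ≤ n) (hk' : k' ≤ n) (ψ : ⦋k'⦌ ⟶ ⦋k⦌) (φ : ⦋k⦌ ⟶ ⦋n + 1⦌),
        e k' hk' (ψ ≫ φ) = e k hk φ ≫ K.map ψ.op) ∧
      ∀ j, e n le_rfl (SimplexCategory.δ j) = z j := by
  classical
  have hex : ∀ k, k ≤ n → ∀ φ : ⦋k⦌ ⟶ ⦋n + 1⦌,
      ∃ (j : Fin (n + 2)) (θ : ⦋k⦌ ⟶ ⦋n⦌), φ = θ ≫ SimplexCategory.δ j := fun k hk φ =>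
    SimplexCategory.eq_comp_δ_of_not_surjective φ fun hs => by
      have := Fintype.card_le_of_surjective _ hs
      simp at this
      omega
  have wd : ∀ k, k ≤ n → ∀ (i j : Fin (n + 2)) (θ θ' : ⦋k⦌ ⟶ ⦋n⦌),
      θ ≫ SimplexCategory.δ i = θ' ≫ SimplexCategory.δ j → z i ≫ K.map θ.op = z j ≫ K.map θ'.op := by
    intro k hk i j θ θ' h
    rcases eq_or_ne i j with rfl | hne
    · rw [(cancel_mono (SimplexCategory.δ i)).1 h]
    have key : ∀ (i j : Fin (n + 2)), i < j → ∀ θ θ' : ⦋k⦌ ⟶ ⦋n⦌,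
        θ ≫ SimplexCategory.δ i = θ' ≫ SimplexCategory.δ j → z i ≫ K.map θ.op = z j ≫ K.map θ'.op := by
      intro i j hij θ θ' h
      cases n with
      | zero =>
        exfalso
        have := congrArg (fun φ : ⦋k⦌ ⟶ ⦋1⦌ => φ.toOrderHom 0) h
        have h0 : θ.toOrderHom 0 = 0 := Subsingleton.elim (α := Fin 1) _ _
        have h0' : θ'.toOrderHom 0 = 0 := Subsingleton.elim (α := Fin 1) _ _
        fin_cases i <;> fin_cases j <;> simp [h0, h0', SimplexCategory.δ, SimplexCategory.mkHom] at hij this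
      | succ m =>
        obtain ⟨i', rfl⟩ := Fin.eq_castSucc_of_ne_last (Fin.ne_last_of_lt hij)
        obtain ⟨j', rfl⟩ := Fin.eq_succ_of_ne_zero (Fin.ne_zero_of_lt hij)
        have hij' : i' ≤ j' := Fin.castSucc_lt_succ_iff.1 hij
        obtain ⟨ρ, hρ⟩ := SimplexCategory.eq_comp_δ_of_not_surjective' θ' i' (fun a ha => by
          have := congrArg (fun φ : ⦋k⦌ ⟶ ⦋m + 1 + 1⦌ => φ.toOrderHom a) h
          simp only [SimplexCategory.comp_toOrderHom, OrderHom.comp_coe, Function.comp_apply, ha] at this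
          refine Fin.succAbove_ne i'.castSucc (θ.toOrderHom a) (this.trans ?_)
          exact Fin.succAbove_of_castSucc_lt _ _ hij)
        have hθ : θ = ρ ≫ SimplexCategory.δ j' := by
          rw [← cancel_mono (SimplexCategory.δ i'.castSucc), h, hρ, Category.assoc, Category.assoc,
            SimplexCategory.δ_comp_δ hij']
        rw [hθ, hρ, op_comp, op_comp, K.map_comp, K.map_comp]
        have := hz m rfl i' j' hij'
        simp only [eqToHom_refl, Category.comp_id] at this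
        exact ((reassoc_of% this) _).symm
    rcases lt_or_gt_of_ne hne with hij | hij
    · exact key i j hij θ θ' h
    · exact (key j i hij θ' θ h.symm).symm
  choose J' θ' hφ using hex
  refine ⟨fun k hk φ => z (J' k hk φ) ≫ K.map (θ' k hk φ).op, fun k k' hk hk' ψ φ => ?_, fun j => ?_⟩
  · rw [Category.assoc, ← K.map_comp, ← op_comp]
    exact wd k' hk' _ _ _ _ (by rw [← hφ, Category.assoc, ← hφ])
  · have := wd n le_rfl (J' n le_rfl (SimplexCategory.δ j)) j (θ' n le_rfl (SimplexCategory.δ j)) (𝟙 _)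
      (by rw [← hφ, Category.id_comp])
    simpa using this

end Groth.Agent.HyperLib.CoskLift
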