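import Groth.Agent.HyperLib.RelFill
import Groth.Agent.HyperLib.CoskLift
import Groth.Agent.SSetLib.Cosk

/-!
Special morphisms between coskeletal simplicial presheaves are local trivial fibrations.
-/

set_option autoImplicit false

universe u

open CategoryTheory CategoryTheory.Limits Opposite Simplicial

namespace Groth.Agent.HyperLib.RelFill

open SemiSimp

variable {C : Type u} [SmallCategory C] {J : GrothendieckTopology C}
  {L K : SimplicialObject (Cᵒᵖ ⥤ Type u)}

lemma map_injective (f : L ⟶ K) (V : C) (m : ℕ) [IsIso (f.app (op ⦋m⦌))] :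
    Function.Injective ((map f V).app m) :=
  (ConcreteCategory.bijective_of_isIso ((f.app (op ⦋m⦌)).app (op V))).1

/-- Boundaries over a simplex fill in coskeletal objects, above the coskeletal degree. -/
theorem exists_fill_of_uniqueLift (f : L ⟶ K) {n m : ℕ} (hnm : n ≤ m)
    (hL : SSetLib.UniqueLift L n) (hK : SSetLib.UniqueLift K n) {V : C}
    (y : Fin (m + 2) → (sec L V).obj m) (a : (sec K V).obj (m + 1)) (hy : Compat L V m y)
    (ha : ∀ j, (map f V).app m (y j) = (sec K V).d j a) :
    ∃ x : (sec L V).obj (m + 1), (∀ j, (sec L V).d j x = y j) ∧ (map f V).app (m + 1) x = a := by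
  have : HasCoproducts.{0} (Cᵒᵖ ⥤ Type u) := hasCoproducts_shrink.{0, u}
  let z : Fin (m + 2) → (yoneda.obj V ⟶ L _⦋m⦌) := fun j => yonedaEquiv.symm (y j)
  obtain ⟨e, he, hej⟩ := CoskLift.exists_family L m z (by
    intro m' h i j hij
    subst h
    apply yonedaEquiv.injective
    rw [yonedaEquiv_comp, yonedaEquiv_comp]
    simp only [z, Equiv.apply_symm_apply, eqToHom_refl, Category.comp_id]
    exact hy i j hij)
  have hef : ∀ k (hk : k ≤ m) (φ : ⦋k⦌ ⟶ ⦋m + 1⦌),
      e k hk φ ≫ f.app (op ⦋k⦌) = yonedaEquiv.symm a ≫ K.map φ.op := by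
    intro k hk φ
    obtain ⟨j, θ, rfl⟩ := SimplexCategory.eq_comp_δ_of_not_surjective φ fun hs => by
      have := Fintype.card_le_of_surjective _ hs
      simp at this
      omega
    rw [he m k le_rfl hk θ (SimplexCategory.δ j), hej, Category.assoc, f.naturality,
      ← Category.assoc, op_comp, K.map_comp, ← Category.assoc]
    congr 1
    apply yonedaEquiv.injective
    rw [yonedaEquiv_comp, yonedaEquiv_comp]
    simp only [z, Equiv.apply_symm_apply]
    exact ha j
  obtain ⟨g, hg, -⟩ := hL (m + 1) (yoneda.obj V) (fun k hk φ => e k (hk.trans hnm) φ)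
    (fun k k' hk hk' ψ φ => he k k' (hk.trans hnm) (hk'.trans hnm) ψ φ)
  refine ⟨yonedaEquiv g, fun j => ?_, ?_⟩
  · have h : g ≫ L.map (SimplexCategory.δ j).op = z j := by
      refine SSetLib.hom_ext_of_le hL fun k hk φ => ?_
      rw [Category.assoc, ← L.map_comp, ← op_comp, hg k hk, he m k le_rfl (hk.trans hnm) φ _, hej]
    refine (yonedaEquiv_comp g (L.map (SimplexCategory.δ j).op)).symm.trans ?_
    rw [h]
    exact Equiv.apply_symm_apply _ _
  · have h : g ≫ f.app (op ⦋m + 1⦌) = yonedaEquiv.symm a := by
      refine SSetLib.hom_ext_of_le hK fun k hk φ => ?_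
      rw [Category.assoc, ← f.naturality, ← Category.assoc, hg k hk, hef]
    refine (yonedaEquiv_comp g (f.app (op ⦋m + 1⦌))).symm.trans ?_
    rw [h]
    exact Equiv.apply_symm_apply _ _

/-- A morphism of `n`-coskeletal simplicial presheaves, an isomorphism below `n` and locally
surjective in degree `n`, is a local trivial fibration. -/
theorem ltf_of_coskeletal (f : L ⟶ K) (n : ℕ)
    (h1 : ∀ i : ℕ, i < n → IsIso (f.app (op ⦋i⦌)))
    (h2 : Presheaf.IsLocallySurjective J (f.app (op ⦋n⦌)))
    (hL : SSetLib.UniqueLift L n) (hK : SSetLib.UniqueLift K n) : LTF J f where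
  vertex := by
    rcases Nat.eq_zero_or_pos n with rfl | hn
    · exact h2
    · have := h1 0 hn
      infer_instance
  fill m V y a hy ha := by
    rcases lt_trichotomy (m + 1) n with hlt | heq | hgt
    · have := h1 (m + 1) hlt
      have := h1 m (by omega)
      refine J.superset_covering ?_ (J.top_mem V)
      intro W g _
      obtain ⟨x, hx⟩ := (ConcreteCategory.bijective_of_isIso ((f.app (op ⦋m + 1⦌)).app (op W))).2
        ((res K g).app (m + 1) a)
      refine ⟨x, fun j => map_injective f W m ?_, hx⟩
      rw [← (map f W).comm, map_res, ha, ← (res K g).comm]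
      exact congrArg _ hx
    · subst heq
      have := h1 m (Nat.lt_succ_self m)
      refine J.superset_covering ?_
        (Presheaf.imageSieve_mem J (f.app (op ⦋m + 1⦌)) (U := op V) a)
      rintro W g ⟨x, hx⟩
      refine ⟨x, fun j => map_injective f W m ?_, hx⟩
      rw [← (map f W).comm, map_res, ha, ← (res K g).comm]
      exact congrArg _ hx
    · obtain ⟨x, hx, hx'⟩ := exists_fill_of_uniqueLift f (n := n) (by omega) hL hK y a hy ha
      refine J.superset_covering ?_ (J.top_mem V)
      intro W g _
      exact ⟨(res L g).app _ x, fun j => by rw [(res L g).comm, hx], by rw [map_res, hx']⟩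

end Groth.Agent.HyperLib.RelFill
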