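import Mathlib.AlgebraicTopology.AlternatingFaceMapComplex
import Mathlib.CategoryTheory.Sites.LocallySurjective
import Mathlib.Algebra.Category.Grp.Adjunctions
import Mathlib.Algebra.BigOperators.Group.Finset.Lemmas

/-!
Augmented simplicial presheaves of sets in which compatible families of faces fill locally: cones
over finitely many simplices exist locally, so the augmented free chain complexes are locally exact.
-/

set_option autoImplicit false

universe u

open CategoryTheory CategoryTheory.Limits Opposite Simplicial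

namespace Groth.Agent.HyperLib.LocFill

variable {C : Type u} [SmallCategory C] (J : GrothendieckTopology C)
  (X : SimplicialObject.Augmented (Cᵒᵖ ⥤ Type u))

/-- The sets of simplices. -/
abbrev S (n : ℕ) (V : C) : Type u := (X.left.obj (op ⦋n⦌)).obj (op V)

/-- The sets of the augmentation. -/
abbrev B (V : C) : Type u := X.right.obj (op V)

/-- Faces. -/
abbrev fc {n : ℕ} (j : Fin (n + 2)) {V : C} (x : S X (n + 1) V) : S X n V :=
  (X.left.δ j).app (op V) x

/-- Restriction. -/
abbrev res {n : ℕ} {V W : C} (g : W ⟶ V) (x : S X n V) : S X n W :=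
  (X.left.obj (op ⦋n⦌)).map g.op x

/-- The augmentation of vertices. -/
abbrev aug {V : C} (x : S X 0 V) : B X V := (X.hom.app (op ⦋0⦌)).app (op V) x

variable {X}

lemma fc_res {n : ℕ} (j : Fin (n + 2)) {V W : C} (g : W ⟶ V) (x : S X (n + 1) V) :
    fc X j (res X g x) = res X g (fc X j x) :=
  ConcreteCategory.congr_hom ((X.left.δ j).naturality g.op) x

lemma aug_res {V W : C} (g : W ⟶ V) (x : S X 0 V) :
    aug X (res X g x) = X.right.map g.op (aug X x) :=
  ConcreteCategory.congr_hom ((X.hom.app (op ⦋0⦌)).naturality g.op) x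

lemma res_comp {n : ℕ} {U V W : C} (h : U ⟶ W) (g : W ⟶ V) (x : S X n V) :
    res X (h ≫ g) x = res X h (res X g x) := by
  rw [res, op_comp, Functor.map_comp_apply]

lemma fc_fc {n : ℕ} {i j : Fin (n + 2)} (h : i ≤ j) {V : C} (x : S X (n + 2) V) :
    fc X i (fc X j.succ x) = fc X j (fc X i.castSucc x) :=
  ConcreteCategory.congr_hom (congr_app (X.left.δ_comp_δ h) (op V)) x

lemma aug_fc (j : Fin 2) {V : C} (x : S X 1 V) :
    aug X (fc X j x) = (X.hom.app (op ⦋1⦌)).app (op V) x :=
  ConcreteCategory.congr_hom (congr_app ((X.hom.naturality (SimplexCategory.δ j).op).trans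
    (Category.comp_id _)) (op V)) x

variable (X)

/-- The sieve of restrictions on which a family of faces can be filled. -/
def fillSieve {n : ℕ} {V : C} (y : Fin (n + 2) → S X n V) : Sieve V where
  arrows W g := ∃ x : S X (n + 1) W, ∀ j, fc X j x = res X g (y j)
  downward_closed := by
    rintro W W' g ⟨x, hx⟩ g'
    exact ⟨res X g' x, fun j => by rw [fc_res, hx, res_comp]⟩

/-- Compatible families of faces fill locally. -/
structure Fillable : Prop where
  vertex : Presheaf.IsLocallySurjective J (X.hom.app (op ⦋0⦌))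
  edge : ∀ (V : C) (y : Fin 2 → S X 0 V), aug X (y 0) = aug X (y 1) → fillSieve X y ∈ J V
  fill : ∀ (n : ℕ) (V : C) (y : Fin (n + 3) → S X (n + 1) V),
    (∀ i j : Fin (n + 2), i ≤ j → fc X i (y j.succ) = fc X j (y i.castSucc)) → fillSieve X y ∈ J V

/-- Consistency of a partial cone. -/
def Cons : ∀ (n : ℕ) {V W : C} (T : Set (S X n V)), (∀ x, x ∈ T → S X (n + 1) W) → Prop
  | 0, _, _, T, h => ∀ (x : _) (hx : x ∈ T) (y : _) (hy : y ∈ T), aug X x = aug X y →
      fc X 1 (h x hx) = fc X 1 (h y hy)
  | n + 1, _, _, T, h => ∀ (x : _) (hx : x ∈ T) (y : _) (hy : y ∈ T) (i j : Fin (n + 2)),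
      fc X i x = fc X j y → fc X i.succ (h x hx) = fc X j.succ (h y hy)

lemma cons_res : ∀ (n : ℕ) {V W W' : C} (T : Set (S X n V)) (h : ∀ x, x ∈ T → S X (n + 1) W)
    (g' : W' ⟶ W), Cons X n T h → Cons X n T (fun x hx => res X g' (h x hx))
  | 0, _, _, _, T, h, g', H => fun x hx y hy e => by rw [fc_res, fc_res, H x hx y hy e]
  | n + 1, _, _, _, T, h, g', H => fun x hx y hy i j e => by
      rw [fc_res, fc_res, H x hx y hy i j e]

/-- The sieve of restrictions on which a cone over finitely many simplices exists. -/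
def coneSieve (n : ℕ) {V : C} (T : Set (S X n V)) : Sieve V where
  arrows W g := ∃ h : ∀ x, x ∈ T → S X (n + 1) W,
    (∀ x hx, fc X 0 (h x hx) = res X g x) ∧ Cons X n T h
  downward_closed := by
    rintro W W' g ⟨h, h0, hc⟩ g'
    exact ⟨fun x hx => res X g' (h x hx), fun x hx => by rw [fc_res, h0, res_comp],
      cons_res X n T h g' hc⟩

/-- The faces of a set of simplices. -/
def facesOf {n : ℕ} {V : C} (T : Set (S X (n + 1) V)) : Set (S X n V) :=
  Set.image2 (fun j x => fc X j x) Set.univ T

lemma fc_mem_facesOf {n : ℕ} {V : C} {T : Set (S X (n + 1) V)} (j : Fin (n + 2))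
    {x : S X (n + 1) V} (hx : x ∈ T) : fc X j x ∈ facesOf X T :=
  Set.mem_image2_of_mem (Set.mem_univ j) hx

/-- The sieve of restrictions on which a cone over simplices and their faces exists. -/
def coneSieve₂ (n : ℕ) {V : C} (T : Set (S X (n + 1) V)) : Sieve V where
  arrows W g := ∃ (h : ∀ x, x ∈ T → S X (n + 2) W) (h' : ∀ y, y ∈ facesOf X T → S X (n + 1) W),
    (∀ x hx, fc X 0 (h x hx) = res X g x) ∧ (∀ y hy, fc X 0 (h' y hy) = res X g y) ∧
      Cons X n (facesOf X T) h' ∧
      ∀ x hx j, fc X j.succ (h x hx) = h' (fc X j x) (fc_mem_facesOf X j hx)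
  downward_closed := by
    rintro W W' g ⟨h, h', h0, h0', hc, hr⟩ g'
    exact ⟨fun x hx => res X g' (h x hx), fun y hy => res X g' (h' y hy),
      fun x hx => by rw [fc_res, h0, res_comp], fun y hy => by rw [fc_res, h0', res_comp],
      cons_res X n _ h' g' hc, fun x hx j => by rw [fc_res, hr]⟩

variable {J X}

lemma iInf_mem {α : Type*} [Finite α] {V : C} (R : α → Sieve V) (h : ∀ a, R a ∈ J V) :
    ⨅ a, R a ∈ J V := by
  classical
  have := Fintype.ofFinite α
  have key : ∀ s : Finset α, (⨅ a ∈ s, R a) ∈ J V := by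
    intro s
    induction s using Finset.induction_on with
    | empty => simp
    | insert a s ha ih =>
      rw [Finset.iInf_insert]
      exact J.intersection_covering (h a) ih
  simpa using key Finset.univ

lemma coneSieve_le (n : ℕ) {V : C} (T : Set (S X (n + 1) V)) :
    coneSieve₂ X n T ≤ coneSieve X (n + 1) T := by
  rintro W g ⟨h, h', h0, h0', hc, hr⟩
  exact ⟨h, h0, fun x hx y hy i j e => by rw [hr, hr]; congr 1⟩

lemma coneSieve₂_mem (hX : Fillable J X) (n : ℕ) {V : C} (T : Set (S X (n + 1) V)) (hT : T.Finite)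
    (h : coneSieve X n (facesOf X T) ∈ J V) : coneSieve₂ X n T ∈ J V := by
  refine J.transitive h _ fun W g hg => ?_
  obtain ⟨h', h0', hc⟩ := hg
  let y : T → Fin (n + 3) → S X (n + 1) W := fun x =>
    Fin.cases (res X g x.1) (fun j => h' (fc X j x.1) (fc_mem_facesOf X j x.2))
  have hy : ∀ x, fillSieve X (y x) ∈ J W := by
    intro x
    refine hX.fill n W (y x) fun i j hij => ?_
    rcases Fin.eq_zero_or_eq_succ i with rfl | ⟨i, rfl⟩
    · simp only [y, Fin.castSucc_zero, Fin.cases_zero, Fin.cases_succ]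
      rw [h0', fc_res]
    · obtain ⟨j, rfl⟩ : ∃ j' : Fin (n + 1), j = j'.succ := by
        rcases Fin.eq_zero_or_eq_succ j with rfl | h
        · simp [Fin.le_def] at hij
        · exact h
      simp only [y, Fin.cases_succ, ← Fin.succ_castSucc]
      cases n with
      | zero =>
        obtain rfl : i = 0 := Fin.ext (by have := i.isLt; simp only [Fin.val_zero]; omega)
        obtain rfl : j = 0 := Fin.ext (by have := j.isLt; simp only [Fin.val_zero]; omega)
        exact hc _ _ _ _ (by rw [aug_fc, aug_fc])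
      | succ n => exact hc _ _ _ _ i j (fc_fc (by simpa using hij) x.1)
  have := hT.to_subtype
  refine J.superset_covering ?_ (iInf_mem _ hy)
  intro W' g' hg'
  have hg'' : ∀ x, ∃ z : S X (n + 2) W', ∀ j, fc X j z = res X g' (y x j) := fun x =>
    iInf_le (fun x => fillSieve X (y x)) x _ hg'
  choose z hz using hg''
  refine ⟨fun x hx => z ⟨x, hx⟩, fun a ha => res X g' (h' a ha), fun x hx => ?_,
    fun a ha => by rw [fc_res, h0', res_comp], cons_res X n _ h' g' hc, fun x hx j => ?_⟩
  · rw [hz]; simp only [y, Fin.cases_zero]; rw [res_comp]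
  · rw [hz]; simp only [y, Fin.cases_succ]

lemma coneSieve_mem (hX : Fillable J X) : ∀ (n : ℕ) {V : C} (T : Set (S X n V)), T.Finite →
    coneSieve X n T ∈ J V := by
  intro n
  induction n with
  | succ n ih =>
    intro V T hT
    exact J.superset_covering (coneSieve_le n T)
      (coneSieve₂_mem hX n T hT (ih _ (Set.finite_univ.image2 _ hT)))
  | zero =>
    intro V T hT
    have := hT.to_subtype
    have := hX.vertex
    let I : Set (B X V) := Set.range fun x : T => aug X x.1
    have hI : ∀ b : I, Presheaf.imageSieve (X.hom.app (op ⦋0⦌)) (U := V) b.1 ∈ J V :=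
      fun b => Presheaf.imageSieve_mem J (X.hom.app (op ⦋0⦌)) (U := op V) b.1
    refine J.transitive (iInf_mem _ hI) _ fun W g hg => ?_
    have hg' : ∀ b : I, ∃ p : S X 0 W, aug X p = X.right.map g.op b.1 := fun b =>
      iInf_le (fun b : I => Presheaf.imageSieve (X.hom.app (op ⦋0⦌)) (U := V) b.1) b _ hg
    choose p hp using hg'
    let y : T → Fin 2 → S X 0 W := fun x => ![res X g x.1, p ⟨aug X x.1, x, rfl⟩]
    have hy : ∀ x, fillSieve X (y x) ∈ J W := fun x => hX.edge W (y x) (by simp [y, aug_res, hp])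
    refine J.superset_covering ?_ (iInf_mem _ hy)
    intro W' g' hg''
    have hg3 : ∀ x, ∃ z : S X 1 W', ∀ j, fc X j z = res X g' (y x j) := fun x =>
      iInf_le (fun x => fillSieve X (y x)) x _ hg''
    choose z hz using hg3
    refine ⟨fun x hx => z ⟨x, hx⟩, fun x hx => by rw [hz]; simp [y, res_comp],
      fun x hx a ha e => ?_⟩
    rw [hz, hz]
    simp only [y, Matrix.cons_val_one, Matrix.cons_val_zero]
    congr 2
    exact Subtype.ext e

section Free

/-- Linearized faces and restrictions. -/
abbrev FS (X : SimplicialObject.Augmented (Cᵒᵖ ⥤ Type u)) (n : ℕ) (V : C) : Type u :=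
  FreeAbelianGroup (S X n V)

/-- The differential. -/
noncomputable def bd {n : ℕ} {V : C} : FS X (n + 1) V →+ FS X n V :=
  ∑ j : Fin (n + 2), (-1 : ℤ) ^ (j : ℕ) • FreeAbelianGroup.map (fc X j)

lemma bd_of {n : ℕ} {V : C} (x : S X (n + 1) V) :
    bd (FreeAbelianGroup.of x) = ∑ j : Fin (n + 2), (-1 : ℤ) ^ (j : ℕ) • FreeAbelianGroup.of (fc X j x) := by
  simp [bd, AddMonoidHom.finsetSum_apply, FreeAbelianGroup.map_of_apply]

lemma exists_finite_support {α : Type*} (c : FreeAbelianGroup α) :
    ∃ T : Set α, T.Finite ∧ c ∈ AddSubgroup.closure (FreeAbelianGroup.of '' T) := by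
  induction c using FreeAbelianGroup.induction_on with
  | zero => exact ⟨∅, Set.finite_empty, AddSubgroup.zero_mem _⟩
  | of x => exact ⟨{x}, Set.finite_singleton x, AddSubgroup.subset_closure (by simp)⟩
  | neg x ih =>
    obtain ⟨T, hT, hx⟩ := ih
    exact ⟨T, hT, AddSubgroup.neg_mem _ hx⟩
  | add x y hx hy =>
    obtain ⟨T, hT, hx⟩ := hx
    obtain ⟨T', hT', hy⟩ := hy
    refine ⟨T ∪ T', hT.union hT', AddSubgroup.add_mem _ ?_ ?_⟩
    · exact AddSubgroup.closure_mono (Set.image_mono Set.subset_union_left) hx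
    · exact AddSubgroup.closure_mono (Set.image_mono Set.subset_union_right) hy

open Classical in
/-- Linear extension of a function given on a subset. -/
noncomputable def linExt {α β : Type*} {T : Set α} (h : ∀ x, x ∈ T → β) :
    FreeAbelianGroup α →+ FreeAbelianGroup β :=
  FreeAbelianGroup.lift fun x => if hx : x ∈ T then FreeAbelianGroup.of (h x hx) else 0

lemma linExt_of {α β : Type*} {T : Set α} (h : ∀ x, x ∈ T → β) {x : α} (hx : x ∈ T) :
    linExt h (FreeAbelianGroup.of x) = FreeAbelianGroup.of (h x hx) := by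
  rw [linExt, FreeAbelianGroup.lift_apply_of, dif_pos hx]

/-- The sieve of restrictions on which a chain becomes a boundary. -/
def bdSieve {n : ℕ} {V : C} (c : FS X n V) : Sieve V where
  arrows W g := ∃ d : FS X (n + 1) W, bd d = FreeAbelianGroup.map (res X g) c
  downward_closed := by
    rintro W W' g ⟨d, hd⟩ g'
    refine ⟨FreeAbelianGroup.map (res X g') d, ?_⟩
    have h1 : bd.comp (FreeAbelianGroup.map (res X g')) =
        (FreeAbelianGroup.map (res X g')).comp (bd (X := X) (n := n) (V := W)) := by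
      ext x
      simp [bd, AddMonoidHom.finsetSum_apply, FreeAbelianGroup.map_of_apply, fc_res, map_sum]
    refine (DFunLike.congr_fun h1 d).trans ?_
    rw [AddMonoidHom.comp_apply, hd, ← AddMonoidHom.comp_apply, ← FreeAbelianGroup.map_comp]
    congr 1
    exact congrArg _ (funext fun x => (res_comp g' g x).symm)

theorem bdSieve_mem_succ (hX : Fillable J X) {n : ℕ} {V : C} (c : FS X (n + 1) V) (hc : bd c = 0) :
    bdSieve c ∈ J V := by
  obtain ⟨T, hT, hcT⟩ := exists_finite_support c
  refine J.superset_covering ?_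
    (coneSieve₂_mem hX n T hT (coneSieve_mem hX n _ (Set.finite_univ.image2 _ hT)))
  rintro W g ⟨h, h', h0, -, -, hr⟩
  refine ⟨linExt h c, ?_⟩
  have key : Set.EqOn ((bd (X := X) (n := n + 1) (V := W)).comp (linExt h))
      (⇑((FreeAbelianGroup.map (res X g) - (linExt h').comp (bd (X := X) (n := n) (V := V))) :
        FS X (n + 1) V →+ FS X (n + 1) W))
      (AddSubgroup.closure (FreeAbelianGroup.of '' T)) := by
    intro z hz
    induction hz using AddSubgroup.closure_induction with
    | zero => rw [map_zero, map_zero]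
    | add a b _ _ ha hb => rw [map_add, map_add, ha, hb]
    | neg a _ ha => rw [map_neg, map_neg, ha]
    | mem z hz =>
    obtain ⟨x, hx, rfl⟩ := hz
    rw [AddMonoidHom.comp_apply, linExt_of h hx, bd_of, Fin.sum_univ_succ, AddMonoidHom.sub_apply,
      AddMonoidHom.comp_apply, bd_of, map_sum, FreeAbelianGroup.map_of_apply, h0 x hx]
    simp only [Fin.val_zero, pow_zero, one_zsmul, Fin.val_succ, hr x hx]
    rw [sub_eq_add_neg, ← Finset.sum_neg_distrib]
    congr 1
    refine Finset.sum_congr rfl fun j _ => ?_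
    rw [map_zsmul, linExt_of h' (fc_mem_facesOf X j hx), pow_succ, mul_neg_one, neg_smul]
  have := key hcT
  simpa [hc] using this

/-- The augmentation of chains. -/
noncomputable def augF {V : C} : FS X 0 V →+ FreeAbelianGroup (B X V) :=
  FreeAbelianGroup.map (aug X)

theorem bdSieve_mem_zero (hX : Fillable J X) {V : C} (c : FS X 0 V) (hc : augF c = 0) :
    bdSieve c ∈ J V := by
  obtain ⟨T, hT, hcT⟩ := exists_finite_support c
  refine J.superset_covering ?_ (coneSieve_mem hX 0 T hT)
  rintro W g ⟨h, h0, hcons⟩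
  refine ⟨linExt h c, ?_⟩
  let q : B X V → FS X 0 W := fun b =>
    open Classical in
    if hb : ∃ x, x ∈ T ∧ aug X x = b then FreeAbelianGroup.of (fc X 1 (h _ hb.choose_spec.1)) else 0
  have key : Set.EqOn ((bd (X := X) (n := 0) (V := W)).comp (linExt h))
      (⇑((FreeAbelianGroup.map (res X g) - (FreeAbelianGroup.lift q).comp (augF (X := X) (V := V))) :
        FS X 0 V →+ FS X 0 W))
      (AddSubgroup.closure (FreeAbelianGroup.of '' T)) := by
    intro z hz
    induction hz using AddSubgroup.closure_induction with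
    | zero => rw [map_zero, map_zero]
    | add a b _ _ ha hb => rw [map_add, map_add, ha, hb]
    | neg a _ ha => rw [map_neg, map_neg, ha]
    | mem z hz =>
    obtain ⟨x, hx, rfl⟩ := hz
    rw [AddMonoidHom.comp_apply, linExt_of h hx, bd_of, Fin.sum_univ_two, AddMonoidHom.sub_apply,
      AddMonoidHom.comp_apply, augF, FreeAbelianGroup.map_of_apply, FreeAbelianGroup.map_of_apply,
      h0 x hx, FreeAbelianGroup.lift_apply_of]
    have hb : ∃ a, a ∈ T ∧ aug X a = aug X x := ⟨x, hx, rfl⟩
    have : fc X 1 (h x hx) = fc X 1 (h _ hb.choose_spec.1) :=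
      hcons x hx _ hb.choose_spec.1 hb.choose_spec.2.symm
    simp only [q, dif_pos hb, ← this]
    simp [sub_eq_add_neg]
  have := key hcT
  simpa [hc] using this

end Free

end Groth.Agent.HyperLib.LocFill
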