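import Groth.Agent.HyperLib.CoskLift
import Groth.Agent.HyperLib.Coprod
import Groth.Agent.HyperLib.LocFill
import Groth.Prelude.Def_Hyper

/-!
Hypercoverings have locally fillable simplicial presheaves of sets.
-/

set_option autoImplicit false

universe u

open CategoryTheory CategoryTheory.Limits Opposite Simplicial

namespace Groth.Agent.HyperLib.FillHyper

variable {C : Type u} [SmallCategory C]

section General

variable {D : Type u} [SmallCategory D] (K : SimplicialObject (FormalCoproduct.{u} D)) (n : ℕ)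
  [∀ F : (SimplexCategory.Truncated n)ᵒᵖ ⥤ FormalCoproduct.{u} D,
    (SimplexCategory.Truncated.inclusion n).op.HasRightKanExtension F]

instance : HasCoproducts.{0} (FormalCoproduct.{u} D) := hasCoproducts_shrink.{0, u}

/-- Compatible faces lift to the coskeleton, and preimages of the lift fill them. -/
theorem exists_lift {T : FormalCoproduct.{u} D} (z : Fin (n + 2) → (T ⟶ K _⦋n⦌))
    (hz : ∀ (m : ℕ) (h : n = m + 1) (i j : Fin (m + 2)), i ≤ j →
      z ⟨j.succ, by omega⟩ ≫ K.map (SimplexCategory.δ i ≫ eqToHom (by rw [h])).op =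
        z ⟨i.castSucc, by omega⟩ ≫ K.map (SimplexCategory.δ j ≫ eqToHom (by rw [h])).op) :
    ∃ c : T ⟶ (CoskLift.Q K n) _⦋n + 1⦌, ∀ (T' : FormalCoproduct.{u} D) (g : T' ⟶ T)
      (w : T' ⟶ K _⦋n + 1⦌), w ≫ (CoskLift.η K n).app (op ⦋n + 1⦌) = g ≫ c →
        ∀ j, w ≫ K.δ j = g ≫ z j := by
  obtain ⟨e, he, hej⟩ := CoskLift.exists_family K n z hz
  obtain ⟨c, hc⟩ := CoskLift.exists_point K n e he
  refine ⟨c, fun T' g w hw j => ?_⟩
  have h1 := (CoskLift.η K n).naturality (SimplexCategory.δ j).op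
  calc w ≫ K.δ j = w ≫ K.δ j ≫ (CoskLift.η K n).app (op ⦋n⦌) ≫ CoskLift.ev K n n le_rfl := by
        rw [CoskLift.η_ev, Category.comp_id]
    _ = w ≫ (CoskLift.η K n).app (op ⦋n + 1⦌) ≫ (CoskLift.Q K n).map (SimplexCategory.δ j).op ≫
          CoskLift.ev K n n le_rfl := congrArg (w ≫ ·) ((reassoc_of% h1) _)
    _ = g ≫ z j := by
        rw [reassoc_of% hw, hc n le_rfl (SimplexCategory.δ j), hej]

end General

section Over

variable (X : C) (K : SimplicialObject (FormalCoproduct.{u} (Over X)))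

/-- The augmented simplicial presheaf of a simplicial semi-representable object over `X`. -/
def augOver : SimplicialObject.Augmented (Cᵒᵖ ⥤ Type u) where
  left := K ⋙ Coprod.coprod (Over.forget X)
  right := yoneda.obj X
  hom :=
    { app := fun n =>
        { app := fun V => ↾fun p => p.2 ≫ ((K.obj n).obj p.1).hom
          naturality := fun V W g => by ext p; exact Category.assoc _ _ _ }
      naturality := fun n m θ => by
        ext V p
        change (p.2 ≫ ((K.map θ).φ p.1).left) ≫ _ = p.2 ≫ _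
        exact (Category.assoc _ _ _).trans (congrArg (p.2 ≫ ·) (Over.w _)) }

variable {X} (J : GrothendieckTopology C)
  [∀ (n : ℕ) (F : (SimplexCategory.Truncated n)ᵒᵖ ⥤ FormalCoproduct.{u} (Over X)),
    (SimplexCategory.Truncated.inclusion n).op.HasRightKanExtension F]

variable {K}

omit [∀ (n : ℕ) (F : (SimplexCategory.Truncated n)ᵒᵖ ⥤ FormalCoproduct.{u} (Over X)),
  (SimplexCategory.Truncated.inclusion n).op.HasRightKanExtension F] in
/-- A simplex as a morphism. -/
def toMor {V : C} (b : V ⟶ X) {m : SimplexCategoryᵒᵖ} (p : ((augOver X K).left.obj m).obj (op V))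
    (hp : ((augOver X K).hom.app m).app (op V) p = b) :
    (FormalCoproduct.incl _).obj (Over.mk b) ⟶ K.obj m :=
  FormalCoproduct.Hom.fromIncl p.1 (Over.homMk p.2 hp)

omit [∀ (n : ℕ) (F : (SimplexCategory.Truncated n)ᵒᵖ ⥤ FormalCoproduct.{u} (Over X)),
  (SimplexCategory.Truncated.inclusion n).op.HasRightKanExtension F] in
lemma toMor_map {V : C} {b : V ⟶ X} {m m' : SimplexCategoryᵒᵖ} (θ : m ⟶ m')
    (p : ((augOver X K).left.obj m).obj (op V)) (hp : ((augOver X K).hom.app m).app (op V) p = b)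
    (p' : ((augOver X K).left.obj m').obj (op V))
    (hp' : ((augOver X K).hom.app m').app (op V) p' = b)
    (h : ((augOver X K).left.map θ).app (op V) p = p') :
    toMor b p hp ≫ K.map θ = toMor b p' hp' := by
  subst h
  rfl

theorem fillSieve_mem (hK : Hyper.IsHypercovering J X K) (n : ℕ) {V : C} (b : V ⟶ X)
    (y : Fin (n + 2) → LocFill.S (augOver X K) n V)
    (hb : ∀ j, ((augOver X K).hom.app (op ⦋n⦌)).app (op V) (y j) = b)
    (hy : ∀ (m : ℕ) (h : n = m + 1) (i j : Fin (m + 2)), i ≤ j →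
      ((augOver X K).left.map (SimplexCategory.δ i ≫ eqToHom (by rw [h])).op).app (op V)
          (y ⟨j.succ, by omega⟩) =
        ((augOver X K).left.map (SimplexCategory.δ j ≫ eqToHom (by rw [h])).op).app (op V)
          (y ⟨i.castSucc, by omega⟩)) :
    LocFill.fillSieve (augOver X K) y ∈ J V := by
  have hb' : ∀ (j : Fin (n + 2)) (m' : SimplexCategoryᵒᵖ) (θ : op ⦋n⦌ ⟶ m'),
      ((augOver X K).hom.app m').app (op V) (((augOver X K).left.map θ).app (op V) (y j)) = b :=
    fun j m' θ => (ConcreteCategory.congr_hom (congr_app (((augOver X K).hom.naturality θ).trans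
      (Category.comp_id _)) (op V)) (y j)).trans (hb j)
  obtain ⟨c, hc⟩ := exists_lift K n (fun j => toMor b (y j) (hb j)) (fun m h i j hij =>
    (toMor_map _ _ _ _ (hb' _ _ _) rfl).trans (toMor_map _ _ _ _ _ (hy m h i j hij).symm).symm)
  have hcov := (J.over X).pullback_stable (c.φ PUnit.unit) (hK.2 n (c.f PUnit.unit))
  rw [GrothendieckTopology.mem_over_iff] at hcov
  refine J.superset_covering ?_ hcov
  intro W g hg
  rw [Sieve.overEquiv_iff] at hg
  obtain ⟨⟨i, hi⟩, k, hk⟩ := (Sieve.mem_ofArrows_iff _ _ _).1 hg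
  refine ⟨⟨i, k.left⟩, fun j => ?_⟩
  have hw : FormalCoproduct.Hom.fromIncl i k ≫ (CoskLift.η K n).app (op ⦋n + 1⦌) =
      (FormalCoproduct.incl _).map (Over.homMk g : Over.mk (g ≫ b) ⟶ Over.mk b) ≫ c :=
    FormalCoproduct.hom_ext (funext fun _ => hi) fun _ => (Category.assoc _ _ _).trans hk.symm
  have h := congrArg (fun ψ => (⟨ψ.asSigma.1, ψ.asSigma.2.left⟩ :
    Σ i : (K.obj (op ⦋n⦌)).I, (W ⟶ ((K.obj (op ⦋n⦌)).obj i).left))) (hc _ _ _ hw j)
  exact h

theorem fillable (hK : Hyper.IsHypercovering J X K) : LocFill.Fillable J (augOver X K) where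
  vertex := by
    refine ⟨fun {V} b => J.superset_covering ?_ (J.pullback_stable b hK.1)⟩
    intro W g hg
    obtain ⟨i, k, hk⟩ := (Sieve.mem_ofArrows_iff _ _ _).1 hg
    exact ⟨⟨i, k⟩, hk.symm⟩
  edge V y hy := fillSieve_mem J hK 0 (LocFill.aug (augOver X K) (y 0)) y
    (fun j => by
      fin_cases j
      · rfl
      · exact hy.symm)
    (fun m h => absurd h (by omega))
  fill n V y hy := by
    refine fillSieve_mem J hK (n + 1)
      (((augOver X K).hom.app (op ⦋n + 1⦌)).app (op V) (y 0)) y (fun j => ?_) (fun m h i j hij => ?_)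
    · rcases Fin.eq_zero_or_eq_succ j with rfl | ⟨j, rfl⟩
      · rfl
      · have h0 : ∀ (i : Fin (n + 2)) (p : LocFill.S (augOver X K) (n + 1) V),
            ((augOver X K).hom.app (op ⦋n⦌)).app (op V) (LocFill.fc (augOver X K) i p) =
              ((augOver X K).hom.app (op ⦋n + 1⦌)).app (op V) p := fun i p =>
          ConcreteCategory.congr_hom (congr_app (((augOver X K).hom.naturality
            (SimplexCategory.δ i).op).trans (Category.comp_id _)) (op V)) p
        exact (h0 0 _).symm.trans ((congrArg _ (hy 0 j (Fin.zero_le _))).trans (h0 j _))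
    · obtain rfl : n = m := by omega
      simp only [eqToHom_refl, Category.comp_id]
      exact hy i j hij

end Over

section Site

variable (J : GrothendieckTopology C) (K : SimplicialObject (FormalCoproduct.{u} C))

/-- The augmented simplicial presheaf of a simplicial semi-representable object. -/
def augSite : SimplicialObject.Augmented (Cᵒᵖ ⥤ Type u) where
  left := K ⋙ Coprod.coprod (𝟭 C)
  right := (Functor.const Cᵒᵖ).obj PUnit.{u + 1}
  hom :=
    { app := fun n => { app := fun V => ↾fun _ => PUnit.unit }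
      naturality := fun n m θ => by ext V p; rfl }

/-- Comparison with Mathlib's `FormalCoproduct.yoneda`. -/
noncomputable abbrev ι (x : FormalCoproduct.{u} C) :
    FormalCoproduct.yoneda.obj x ≅ (Coprod.coprod (𝟭 C)).obj x :=
  (Coprod.isoEval (𝟭 C)).app x

lemma ι_naturality {x y : FormalCoproduct.{u} C} (f : x ⟶ y) (V : Cᵒᵖ)
    (p : (FormalCoproduct.yoneda.obj x).obj V) :
    (ι y).hom.app V ((FormalCoproduct.yoneda.map f).app V p) =
      ((Coprod.coprod (𝟭 C)).map f).app V ((ι x).hom.app V p) :=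
  ConcreteCategory.congr_hom (congr_app ((Coprod.isoEval (𝟭 C)).hom.naturality f) V) p

lemma ι_res (x : FormalCoproduct.{u} C) {V W : Cᵒᵖ} (g : V ⟶ W)
    (p : (FormalCoproduct.yoneda.obj x).obj V) :
    (ι x).hom.app W ((FormalCoproduct.yoneda.obj x).map g p) =
      ((Coprod.coprod (𝟭 C)).obj x).map g ((ι x).hom.app V p) :=
  NatTrans.naturality_apply (ι x).hom g p

lemma ι_inv (x : FormalCoproduct.{u} C) (V : Cᵒᵖ) (p : ((Coprod.coprod (𝟭 C)).obj x).obj V) :
    (ι x).hom.app V ((ι x).inv.app V p) = p :=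
  ConcreteCategory.congr_hom (congr_app (ι x).inv_hom_id V) p

variable [∀ (n : ℕ) (F : (SimplexCategory.Truncated n)ᵒᵖ ⥤ FormalCoproduct.{u} C),
      (SimplexCategory.Truncated.inclusion n).op.HasRightKanExtension F]

theorem fillable_site (hK : Hyper.IsHypercoveringSite J K) : LocFill.Fillable J (augSite K) where
  vertex := by
    obtain ⟨h₁, -, -⟩ := hK
    refine ⟨fun {V} b => J.superset_covering ?_ (Presheaf.imageSieve_mem J
      (terminal.from (FormalCoproduct.yoneda.obj (K.obj (op ⦋0⦌)))) (U := op V)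
      ((terminal.from (yoneda.obj V)).app (op V) (𝟙 V)))⟩
    rintro W g ⟨a, -⟩
    exact ⟨(ι _).hom.app (op W) a, rfl⟩
  edge V y _ := by
    obtain ⟨-, h₂, -⟩ := hK
    let a : ∀ j : Fin 2, yoneda.obj V ⟶ FormalCoproduct.yoneda.obj (K.obj (op ⦋0⦌)) :=
      fun j => yonedaEquiv.symm ((ι _).inv.app (op V) (y j))
    have ha : ∀ j, (ι _).hom.app (op V) ((a j).app (op V) (𝟙 V)) = y j := fun j => by
      refine Eq.trans ?_ (ι_inv (K.obj (op ⦋0⦌)) (op V) (y j))
      exact congrArg _ (yonedaEquiv.apply_symm_apply _)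
    refine J.superset_covering ?_ (Presheaf.imageSieve_mem J
      (prod.lift (FormalCoproduct.yoneda.map (K.δ (1 : Fin 2)))
        (FormalCoproduct.yoneda.map (K.δ (0 : Fin 2)))) (U := op V)
      ((prod.lift (a 1) (a 0)).app (op V) (𝟙 V)))
    rintro W g ⟨x, hx⟩
    refine ⟨(ι _).hom.app (op W) x, fun j => ?_⟩
    have key : ∀ (j : Fin 2) (π : FormalCoproduct.yoneda.obj (K.obj (op ⦋0⦌)) ⨯
        FormalCoproduct.yoneda.obj (K.obj (op ⦋0⦌)) ⟶ FormalCoproduct.yoneda.obj (K.obj (op ⦋0⦌))),
        prod.lift (FormalCoproduct.yoneda.map (K.δ (1 : Fin 2)))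
          (FormalCoproduct.yoneda.map (K.δ (0 : Fin 2))) ≫ π = FormalCoproduct.yoneda.map (K.δ j) →
        prod.lift (a 1) (a 0) ≫ π = a j →
        LocFill.fc (augSite K) j ((ι _).hom.app (op W) x) = LocFill.res (augSite K) g (y j) := by
      intro j π h h'
      refine (ι_naturality (K.δ j) (op W) x).symm.trans ?_
      refine (congrArg _ ((ConcreteCategory.congr_hom (congr_app h (op W)) x).symm.trans
        ((congrArg _ hx).trans (NatTrans.naturality_apply π g.op _)))).trans ?_
      refine (ι_res _ g.op _).trans (congrArg _ ?_)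
      exact (congrArg _ (ConcreteCategory.congr_hom (congr_app h' (op V)) (𝟙 V))).trans (ha j)
    fin_cases j
    · exact key 0 prod.snd (prod.lift_snd _ _) (prod.lift_snd _ _)
    · exact key 1 prod.fst (prod.lift_fst _ _) (prod.lift_fst _ _)
  fill n V y hy := by
    obtain ⟨-, -, h₃⟩ := hK
    have h₃' := h₃ (n + 1) (by omega)
    let m : ∀ (k : ℕ), LocFill.S (augSite K) k V → ((FormalCoproduct.incl _).obj V ⟶ K _⦋k⦌) :=
      fun k p => FormalCoproduct.Hom.fromIncl p.1 p.2
    obtain ⟨c, hc⟩ := exists_lift K (n + 1) (fun j => m _ (y j)) (fun l h i j hij => by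
      obtain rfl : n = l := by omega
      simp only [eqToHom_refl, Category.comp_id]
      exact congrArg (m n) (hy i j hij))
    let p : ((Coprod.coprod (𝟭 C)).obj ((CoskLift.Q K (n + 1)).obj (op ⦋n + 2⦌))).obj (op V) :=
      ⟨c.asSigma.1, c.asSigma.2⟩
    refine J.superset_covering ?_ (Presheaf.imageSieve_mem J
      (FormalCoproduct.yoneda.map ((CoskLift.η K (n + 1)).app (op ⦋n + 2⦌))) (U := op V)
      ((ι _).inv.app (op V) p))
    rintro W g ⟨x, hx⟩
    refine ⟨(ι _).hom.app (op W) x, fun j => ?_⟩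
    have hx' := ((ι_naturality ((CoskLift.η K (n + 1)).app (op ⦋n + 2⦌)) (op W) x).symm.trans
      (congrArg _ hx)).trans ((ι_res _ g.op _).trans (congrArg _ (ι_inv _ _ p)))
    generalize (ι (K.obj (op ⦋n + 2⦌))).hom.app (op W) x = q at hx'
    have hw : FormalCoproduct.Hom.fromIncl q.1 q.2 ≫ (CoskLift.η K (n + 1)).app (op ⦋n + 2⦌) =
        (FormalCoproduct.incl _).map g ≫ c :=
      (FormalCoproduct.inclHomEquiv _ _).injective hx'
    exact congrArg (FormalCoproduct.inclHomEquiv _ _) (hc _ _ _ hw j)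

end Site

end Groth.Agent.HyperLib.FillHyper
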