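import Groth.Agent.HyperLib.FillHyper

/-!
Hypercoverings of an object as hypercoverings of the final object of the localized topos.
-/

set_option autoImplicit false

universe u

open CategoryTheory CategoryTheory.Limits Opposite Simplicial

namespace Groth.Agent.HyperLib.OverSite

variable {C : Type u} [SmallCategory C]

lemma subsingleton_terminal (V : Cᵒᵖ) : Subsingleton ((⊤_ (Cᵒᵖ ⥤ Type u)).obj V) :=
  ⟨fun a b => by
    obtain ⟨V⟩ := V
    have : yonedaEquiv.symm a = yonedaEquiv.symm b := terminal.hom_ext _ _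
    exact yonedaEquiv.symm.injective this⟩

/-- A covering morphism of semi-representable objects is locally surjective. -/
theorem imageSieve_mem_of_isSRCovering (J : GrothendieckTopology C) {x y : FormalCoproduct.{u} C}
    (f : x ⟶ y) (hf : Hyper.IsSRCovering J f) {V : C} (e : (FormalCoproduct.yoneda.obj y).obj (op V)) :
    Presheaf.imageSieve (FormalCoproduct.yoneda.map f) (U := V) e ∈ J V := by
  let p := (FillHyper.ι y).hom.app (op V) e
  refine J.superset_covering ?_ (J.pullback_stable p.2 (hf p.1))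
  intro W g hg
  obtain ⟨⟨i, hi⟩, k, hk⟩ := (Sieve.mem_ofArrows_iff _ _ _).1 hg
  refine ⟨(FillHyper.ι x).inv.app (op W) ⟨i, k⟩, ?_⟩
  refine (((FillHyper.ι y).app (op W)).toEquiv).injective ?_
  refine (FillHyper.ι_naturality f (op W) _).trans ((congrArg _ (FillHyper.ι_inv x _ _)).trans ?_)
  refine Eq.trans ?_ (FillHyper.ι_res y g.op e).symm
  refine (FormalCoproduct.inclHomEquiv _ _).symm.injective (FormalCoproduct.hom_ext (funext fun _ => hi) fun _ => ?_)
  exact (Category.assoc _ _ _).trans hk.symm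

theorem isHypercoveringSite_over (J : GrothendieckTopology C) {X : C}
    {K : SimplicialObject (FormalCoproduct.{u} (Over X))}
    [∀ (n : ℕ) (F : (SimplexCategory.Truncated n)ᵒᵖ ⥤ FormalCoproduct.{u} (Over X)),
      (SimplexCategory.Truncated.inclusion n).op.HasRightKanExtension F]
    (hK : Hyper.IsHypercovering J X K) : Hyper.IsHypercoveringSite (J.over X) K := by
  refine ⟨⟨fun {V} e => ?_⟩, ⟨fun {V} e => ?_⟩,
    fun n _ => ⟨fun {V} e => imageSieve_mem_of_isSRCovering _ _ (hK.2 n) e⟩⟩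
  · rw [GrothendieckTopology.mem_over_iff]
    refine J.superset_covering ?_ (J.pullback_stable V.hom hK.1)
    intro W g hg
    rw [Sieve.overEquiv_iff]
    obtain ⟨i, k, hk⟩ := (Sieve.mem_ofArrows_iff _ _ _).1 hg
    have := subsingleton_terminal (C := Over X) (op (Over.mk (g ≫ V.hom)))
    exact ⟨(FillHyper.ι _).inv.app _ ⟨i, Over.homMk k hk.symm⟩, Subsingleton.elim _ _⟩
  · let z : Fin 2 → ((FormalCoproduct.incl (Over X)).obj V ⟶ K _⦋0⦌) := fun j =>
      (FormalCoproduct.inclHomEquiv _ _).symm ((FillHyper.ι _).hom.app (op V)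
        ((![prod.snd, prod.fst] j : FormalCoproduct.yoneda.obj (K _⦋0⦌) ⨯
          FormalCoproduct.yoneda.obj (K _⦋0⦌) ⟶ FormalCoproduct.yoneda.obj (K _⦋0⦌)).app (op V) e))
    obtain ⟨c, hc⟩ := FillHyper.exists_lift K 0 z (fun m h => absurd h (by omega))
    have hcov := (J.over X).pullback_stable (c.φ PUnit.unit) (hK.2 0 (c.f PUnit.unit))
    refine (J.over X).superset_covering ?_ hcov
    intro W g hg
    obtain ⟨⟨i, hi⟩, k, hk⟩ := (Sieve.mem_ofArrows_iff _ _ _).1 hg
    refine ⟨(FillHyper.ι _).inv.app (op W) ⟨i, k⟩, ?_⟩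
    have hw : FormalCoproduct.Hom.fromIncl i k ≫ (CoskLift.η K 0).app (op ⦋1⦌) =
        (FormalCoproduct.incl _).map g ≫ c :=
      FormalCoproduct.hom_ext (funext fun _ => hi) fun _ => (Category.assoc _ _ _).trans hk.symm
    have key : ∀ (j : Fin 2),
        (FillHyper.ι (K _⦋0⦌)).hom.app (op W) ((FormalCoproduct.yoneda.map (K.δ j)).app (op W)
          ((FillHyper.ι (K _⦋1⦌)).inv.app (op W) ⟨i, k⟩)) =
        (FillHyper.ι (K _⦋0⦌)).hom.app (op W) ((FormalCoproduct.yoneda.obj (K _⦋0⦌)).map g.op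
          ((![prod.snd, prod.fst] j : FormalCoproduct.yoneda.obj (K _⦋0⦌) ⨯
            FormalCoproduct.yoneda.obj (K _⦋0⦌) ⟶ FormalCoproduct.yoneda.obj (K _⦋0⦌)).app (op V) e)) := by
      intro j
      refine (FillHyper.ι_naturality _ _ _).trans ((congrArg _ (FillHyper.ι_inv _ _ _)).trans ?_)
      refine Eq.trans ?_ (FillHyper.ι_res _ g.op _).symm
      exact congrArg (FormalCoproduct.inclHomEquiv _ _) (hc _ _ _ hw j)
    have hinj : ∀ {a b : (FormalCoproduct.yoneda.obj (K _⦋0⦌) ⨯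
        FormalCoproduct.yoneda.obj (K _⦋0⦌)).obj (op W)},
        (prod.fst : FormalCoproduct.yoneda.obj (K _⦋0⦌) ⨯ FormalCoproduct.yoneda.obj (K _⦋0⦌) ⟶ _).app (op W) a =
          (prod.fst : FormalCoproduct.yoneda.obj (K _⦋0⦌) ⨯ FormalCoproduct.yoneda.obj (K _⦋0⦌) ⟶ _).app (op W) b →
        (prod.snd : FormalCoproduct.yoneda.obj (K _⦋0⦌) ⨯ FormalCoproduct.yoneda.obj (K _⦋0⦌) ⟶ _).app (op W) a =
          (prod.snd : FormalCoproduct.yoneda.obj (K _⦋0⦌) ⨯ FormalCoproduct.yoneda.obj (K _⦋0⦌) ⟶ _).app (op W) b →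
        a = b := by
      intro a b h1 h2
      refine yonedaEquiv.symm.injective (prod.hom_ext ?_ ?_) <;>
        apply yonedaEquiv.injective <;> rw [yonedaEquiv_comp, yonedaEquiv_comp] <;>
        simp only [Equiv.apply_symm_apply] <;> assumption
    have hπ : ∀ (j : Fin 2) (π : FormalCoproduct.yoneda.obj (K _⦋0⦌) ⨯
        FormalCoproduct.yoneda.obj (K _⦋0⦌) ⟶ FormalCoproduct.yoneda.obj (K _⦋0⦌)),
        (![prod.snd, prod.fst] j : FormalCoproduct.yoneda.obj (K _⦋0⦌) ⨯
          FormalCoproduct.yoneda.obj (K _⦋0⦌) ⟶ FormalCoproduct.yoneda.obj (K _⦋0⦌)) = π →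
        prod.lift (FormalCoproduct.yoneda.map (K.δ (1 : Fin 2)))
          (FormalCoproduct.yoneda.map (K.δ (0 : Fin 2))) ≫ π = FormalCoproduct.yoneda.map (K.δ j) →
        π.app (op W) ((prod.lift (FormalCoproduct.yoneda.map (K.δ (1 : Fin 2)))
          (FormalCoproduct.yoneda.map (K.δ (0 : Fin 2)))).app (op W)
            ((FillHyper.ι (K _⦋1⦌)).inv.app (op W) ⟨i, k⟩)) =
          π.app (op W) ((FormalCoproduct.yoneda.obj (K _⦋0⦌) ⨯
            FormalCoproduct.yoneda.obj (K _⦋0⦌)).map g.op e) := by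
      intro j π hj hπ
      subst hj
      refine (ConcreteCategory.congr_hom (congr_app hπ (op W)) _).trans ?_
      refine Eq.trans ?_ (NatTrans.naturality_apply _ g.op e).symm
      exact (((FillHyper.ι (K _⦋0⦌)).app (op W)).toEquiv).injective (key j)
    exact hinj (hπ 1 _ rfl (prod.lift_fst _ _)) (hπ 0 _ rfl (prod.lift_snd _ _))

end Groth.Agent.HyperLib.OverSite
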