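import Groth.Agent.HyperLib.FillHyper
import Groth.Agent.HyperLib.OverSite

/-!
Points of formal coproducts, and hypercoverings as simplicial objects whose compatible families of
faces fill locally on points.
-/

set_option autoImplicit false

universe u

open CategoryTheory CategoryTheory.Limits Opposite Simplicial

namespace Groth.Agent.HyperLib.Points

variable {D : Type u} [SmallCategory D]

/-- A point of a formal coproduct. -/
abbrev Pt (W : D) (x : FormalCoproduct.{u} D) : Type u := (FormalCoproduct.incl D).obj W ⟶ x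

/-- Restriction of points. -/
abbrev res {W W' : D} (g : W' ⟶ W) {x : FormalCoproduct.{u} D} (p : Pt W x) : Pt W' x :=
  (FormalCoproduct.incl D).map g ≫ p

lemma res_res {W W' W'' : D} (g' : W'' ⟶ W') (g : W' ⟶ W) {x : FormalCoproduct.{u} D} (p : Pt W x) :
    res g' (res g p) = res (g' ≫ g) p := by
  rw [res, res, res, Functor.map_comp, Category.assoc]

/-- Where a point lifts along a morphism. -/
def liftSieve {x y : FormalCoproduct.{u} D} (f : x ⟶ y) {W : D} (q : Pt W y) : Sieve W where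
  arrows W' g := ∃ p : Pt W' x, p ≫ f = res g q
  downward_closed := by
    rintro W' W'' g ⟨p, hp⟩ g'
    exact ⟨res g' p, by rw [← res_res, res, Category.assoc, hp]⟩

/-- Every point lifts locally along a covering morphism. -/
theorem liftSieve_mem {J : GrothendieckTopology D} {x y : FormalCoproduct.{u} D} {f : x ⟶ y}
    (hf : Hyper.IsSRCovering J f) {W : D} (q : Pt W y) : liftSieve f q ∈ J W := by
  refine J.superset_covering ?_ (J.pullback_stable (q.φ PUnit.unit) (hf (q.f PUnit.unit)))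
  intro W' g hg
  obtain ⟨⟨i, hi⟩, k, hk⟩ := (Sieve.mem_ofArrows_iff _ _ _).1 hg
  exact ⟨FormalCoproduct.Hom.fromIncl i k,
    FormalCoproduct.hom_ext (funext fun _ => hi) fun _ => (Category.assoc _ _ _).trans hk.symm⟩

/-- A morphism along which points lift locally is a covering. -/
theorem isSRCovering_of_liftSieve {J : GrothendieckTopology D} {x y : FormalCoproduct.{u} D}
    {f : x ⟶ y} (h : ∀ (W : D) (q : Pt W y), liftSieve f q ∈ J W) : Hyper.IsSRCovering J f := by
  intro j
  refine J.superset_covering ?_ (h _ (FormalCoproduct.Hom.fromIncl j (𝟙 (y.obj j))))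
  rintro W' g ⟨p, hp⟩
  obtain ⟨h1, h2⟩ := (FormalCoproduct.hom_ext_iff _ _).1 hp
  refine (Sieve.mem_ofArrows_iff _ _ _).2
    ⟨⟨p.f PUnit.unit, congrFun h1 PUnit.unit⟩, p.φ PUnit.unit, ?_⟩
  refine (Category.comp_id g).symm.trans (Eq.trans ?_ (Category.assoc _ _ _))
  exact (h2 PUnit.unit).symm

variable (K : SimplicialObject (FormalCoproduct.{u} D))

/-- Compatibility of a family of faces. -/
def Compat (n : ℕ) {T : FormalCoproduct.{u} D} (z : Fin (n + 2) → (T ⟶ K _⦋n⦌)) : Prop :=
  ∀ (m : ℕ) (h : n = m + 1) (i j : Fin (m + 2)), i ≤ j →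
    z ⟨j.succ, by omega⟩ ≫ K.map (SimplexCategory.δ i ≫ eqToHom (by rw [h])).op =
      z ⟨i.castSucc, by omega⟩ ≫ K.map (SimplexCategory.δ j ≫ eqToHom (by rw [h])).op

variable {K}

/-- Faces of a morphism are compatible. -/
lemma compat_of_faces {n : ℕ} {T : FormalCoproduct.{u} D} (u : T ⟶ K _⦋n + 1⦌) :
    Compat K n fun j => u ≫ K.δ j := by
  intro m h i j hij
  subst h
  simp only [eqToHom_refl, Category.comp_id]
  exact (Category.assoc _ _ _).trans ((congrArg (u ≫ ·) (K.δ_comp_δ hij)).trans (Category.assoc _ _ _).symm)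

/-- Compatibility is stable under restriction. -/
lemma Compat.comp {n : ℕ} {T T' : FormalCoproduct.{u} D} {z : Fin (n + 2) → (T ⟶ K _⦋n⦌)}
    (hz : Compat K n z) (g : T' ⟶ T) : Compat K n fun j => g ≫ z j := by
  intro m h i j hij
  rw [Category.assoc, Category.assoc, hz m h i j hij]

/-- Compatibility is stable under morphisms of simplicial objects. -/
lemma Compat.map {n : ℕ} {T : FormalCoproduct.{u} D} {z : Fin (n + 2) → (T ⟶ K _⦋n⦌)}
    (hz : Compat K n z) {L : SimplicialObject (FormalCoproduct.{u} D)} (a : K ⟶ L) :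
    Compat L n fun j => z j ≫ a.app (op ⦋n⦌) := by
  intro m h i j hij
  rw [Category.assoc, Category.assoc, ← a.naturality, ← a.naturality, reassoc_of% (hz m h i j hij)]

/-- A compatible family of faces takes equal values on common faces. -/
theorem Compat.wd {n : ℕ} {T : FormalCoproduct.{u} D} {z : Fin (n + 2) → (T ⟶ K _⦋n⦌)}
    (hz : Compat K n z) {k : ℕ} (i j : Fin (n + 2)) (θ θ' : ⦋k⦌ ⟶ ⦋n⦌)
    (h : θ ≫ SimplexCategory.δ i = θ' ≫ SimplexCategory.δ j) :
    z i ≫ K.map θ.op = z j ≫ K.map θ'.op := by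
  rcases eq_or_ne i j with rfl | hne
  · rw [(cancel_mono (SimplexCategory.δ i)).1 h]
  have key : ∀ (i j : Fin (n + 2)), i < j → ∀ θ θ' : ⦋k⦌ ⟶ ⦋n⦌,
      θ ≫ SimplexCategory.δ i = θ' ≫ SimplexCategory.δ j → z i ≫ K.map θ.op = z j ≫ K.map θ'.op := by
    intro i j hij θ θ' h
    cases n with
    | zero =>
      exfalso
      have := congrArg (fun φ : ⦋k⦌ ⟶ ⦋1⦌ => φ.toOrderHom 0) h
      have h0 : θ.toOrderHom 0 = 0 := Subsingleton.elim (α := Fin 1) _ _
      have h0' : θ'.toOrderHom 0 = 0 := Subsingleton.elim (α := Fin 1) _ _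
      fin_cases i <;> fin_cases j <;> simp [h0, h0', SimplexCategory.δ, SimplexCategory.mkHom] at hij this
    | succ m =>
      obtain ⟨i', rfl⟩ := Fin.eq_castSucc_of_ne_last (Fin.ne_last_of_lt hij)
      obtain ⟨j', rfl⟩ := Fin.eq_succ_of_ne_zero (Fin.ne_zero_of_lt hij)
      have hij' : i' ≤ j' := Fin.castSucc_lt_succ_iff.1 hij
      obtain ⟨ρ, hρ⟩ := SimplexCategory.eq_comp_δ_of_not_surjective' θ' i' (fun a ha => by
        have := congrArg (fun φ : ⦋k⦌ ⟶ ⦋m + 1 + 1⦌ => φ.toOrderHom a) h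
        simp only [SimplexCategory.comp_toOrderHom, OrderHom.comp_coe, Function.comp_apply, ha] at this
        refine Fin.succAbove_ne i'.castSucc (θ.toOrderHom a) (this.trans ?_)
        exact Fin.succAbove_of_castSucc_lt _ _ hij)
      have hθ : θ = ρ ≫ SimplexCategory.δ j' := by
        rw [← cancel_mono (SimplexCategory.δ i'.castSucc), h, hρ, Category.assoc, Category.assoc,
          SimplexCategory.δ_comp_δ hij']
      rw [hθ, hρ, op_comp, op_comp, K.map_comp, K.map_comp]
      have := hz m rfl i' j' hij'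
      simp only [eqToHom_refl, Category.comp_id] at this
      exact ((reassoc_of% this) _).symm
  rcases lt_or_gt_of_ne hne with hij | hij
  · exact key i j hij θ θ' h
  · exact (key j i hij θ' θ h.symm).symm

/-- Every non surjective map to a simplex factors through a face. -/
lemma exists_factor {k n : ℕ} (φ : ⦋k⦌ ⟶ ⦋n + 1⦌) (hk : k ≤ n) :
    ∃ (j : Fin (n + 2)) (θ : ⦋k⦌ ⟶ ⦋n⦌), φ = θ ≫ SimplexCategory.δ j :=
  SimplexCategory.eq_comp_δ_of_not_surjective φ fun hs => by
    have := Fintype.card_le_of_surjective _ hs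
    simp at this
    omega

section Coskeleton

variable (K) (n : ℕ) [∀ F : (SimplexCategory.Truncated n)ᵒᵖ ⥤ FormalCoproduct.{u} D,
    (SimplexCategory.Truncated.inclusion n).op.HasRightKanExtension F]

instance : HasCoproducts.{0} (FormalCoproduct.{u} D) := hasCoproducts_shrink.{0, u}

/-- Points of the coskeleton are determined by their faces of dimension at most `n`. -/
theorem point_ext {T : FormalCoproduct.{u} D} {m : ℕ} (c c' : T ⟶ (CoskLift.Q K n) _⦋m⦌)
    (h : ∀ k (hk : k ≤ n) (φ : ⦋k⦌ ⟶ ⦋m⦌),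
      c ≫ (CoskLift.Q K n).map φ.op ≫ CoskLift.ev K n k hk =
        c' ≫ (CoskLift.Q K n).map φ.op ≫ CoskLift.ev K n k hk) : c = c' := by
  let f : ∀ (c : T ⟶ (CoskLift.Q K n) _⦋m⦌), CoskLift.copow T m ⟶ CoskLift.Q K n := fun c =>
    { app := fun a => Sigma.desc fun φ => c ≫ (CoskLift.Q K n).map φ.op
      naturality := fun a b ψ => Sigma.hom_ext _ _ fun φ => by
        simp only [CoskLift.copow, colimit.ι_desc_assoc, Cofan.mk_pt, Cofan.mk_ι_app, colimit.ι_desc]
        rw [op_comp, Functor.map_comp, Category.assoc]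
        rfl }
  have hf : f c = f c' := by
    refine ((SimplicialObject.coskAdj (C := FormalCoproduct.{u} D) n).homEquiv _ _).symm.injective ?_
    rw [Adjunction.homEquiv_counit, Adjunction.homEquiv_counit]
    refine NatTrans.ext (funext fun a => Sigma.hom_ext _ _ fun φ => ?_)
    change Sigma.ι (fun _ : a.unop.obj ⟶ ⦋m⦌ => T) φ ≫ (f c).app (op a.unop.obj) ≫ _ =
      Sigma.ι (fun _ : a.unop.obj ⟶ ⦋m⦌ => T) φ ≫ (f c').app (op a.unop.obj) ≫ _
    simp only [f, colimit.ι_desc_assoc, Cofan.mk_pt, Cofan.mk_ι_app, Category.assoc]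
    exact h a.unop.obj.len a.unop.property φ
  have := congrArg (fun t => Sigma.ι (fun _ : (op ⦋m⦌).unop ⟶ ⦋m⦌ => T) (𝟙 _) ≫ t.app (op ⦋m⦌)) hf
  simp only [f, colimit.ι_desc, Cofan.mk_pt, Cofan.mk_ι_app] at this
  simpa using this

end Coskeleton

/-- Where a family of faces fills. -/
def fillSieve {n : ℕ} {W : D} (z : Fin (n + 2) → Pt W (K _⦋n⦌)) : Sieve W where
  arrows W' g := ∃ u : Pt W' (K _⦋n + 1⦌), ∀ j, u ≫ K.δ j = res g (z j)
  downward_closed := by
    rintro W' W'' g ⟨u, hu⟩ g'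
    exact ⟨res g' u, fun j => by rw [← res_res, res, Category.assoc, hu]⟩

variable (K) in
/-- Where a simplicial object has a vertex. -/
def vertexSieve (W : D) : Sieve W where
  arrows W' _ := Nonempty (Pt W' (K _⦋0⦌))
  downward_closed := by
    rintro W' W'' g ⟨p⟩ g'
    exact ⟨res g' p⟩

variable (K) in
/-- Vertices exist locally and compatible families of faces fill locally. -/
structure HC (J : GrothendieckTopology D) : Prop where
  vertex : ∀ W, vertexSieve K W ∈ J W
  fill : ∀ (n : ℕ) (W : D) (z : Fin (n + 2) → Pt W (K _⦋n⦌)), Compat K n z → fillSieve z ∈ J W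

section Unit

variable [∀ (n : ℕ) (F : (SimplexCategory.Truncated n)ᵒᵖ ⥤ FormalCoproduct.{u} D),
    (SimplexCategory.Truncated.inclusion n).op.HasRightKanExtension F] {J : GrothendieckTopology D}

theorem fillSieve_mem {n : ℕ} (h : Hyper.IsSRCovering J ((CoskLift.η K n).app (op ⦋n + 1⦌))) {W : D}
    (z : Fin (n + 2) → Pt W (K _⦋n⦌)) (hz : Compat K n z) : fillSieve z ∈ J W := by
  obtain ⟨c, hc⟩ := FillHyper.exists_lift K n z hz
  refine J.superset_covering ?_ (liftSieve_mem h c)
  rintro W' g ⟨u, hu⟩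
  exact ⟨u, hc _ _ _ hu⟩

theorem isSRCovering_η {n : ℕ} (h : ∀ (W : D) (z : Fin (n + 2) → Pt W (K _⦋n⦌)), Compat K n z → fillSieve z ∈ J W) :
    Hyper.IsSRCovering J ((CoskLift.η K n).app (op ⦋n + 1⦌)) := by
  refine isSRCovering_of_liftSieve fun W q => ?_
  let z : Fin (n + 2) → Pt W (K _⦋n⦌) := fun j =>
    q ≫ (CoskLift.Q K n).map (SimplexCategory.δ j).op ≫ CoskLift.ev K n n le_rfl
  have hev : ∀ (k k' : ℕ) (hk : k ≤ n) (hk' : k' ≤ n) (ψ : ⦋k'⦌ ⟶ ⦋k⦌),
      CoskLift.ev K n k hk ≫ K.map ψ.op = (CoskLift.Q K n).map ψ.op ≫ CoskLift.ev K n k' hk' := fun k k' hk hk' ψ =>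
    (((SimplicialObject.coskAdj (C := FormalCoproduct.{u} D) n).counit.app
      ((SimplicialObject.truncation n).obj K)).naturality
        (X := op (⟨⦋k⦌, hk⟩ : SimplexCategory.Truncated n)) (Y := op ⟨⦋k'⦌, hk'⟩)
        (Quiver.Hom.op (SimplexCategory.Truncated.Hom.tr ψ))).symm
  have hz : Compat K n z := by
    intro m hm i j hij
    subst hm
    simp only [z, eqToHom_refl, Category.comp_id, Category.assoc]
    rw [hev (m + 1) m le_rfl (by omega), hev (m + 1) m le_rfl (by omega), ← Functor.map_comp_assoc,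
      ← Functor.map_comp_assoc, ← op_comp, ← op_comp, SimplexCategory.δ_comp_δ hij]
  refine J.superset_covering ?_ (h W z hz)
  rintro W' g ⟨u, hu⟩
  refine ⟨u, point_ext K n _ _ fun k hk φ => ?_⟩
  obtain ⟨j, θ, rfl⟩ := exists_factor φ hk
  have h1 : (CoskLift.η K n).app (op ⦋n + 1⦌) ≫ (CoskLift.Q K n).map (θ ≫ SimplexCategory.δ j).op ≫
      CoskLift.ev K n k hk = K.δ j ≫ K.map θ.op := by
    rw [← NatTrans.naturality_assoc, CoskLift.η_ev, Category.comp_id, op_comp, Functor.map_comp]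
    rfl
  rw [Category.assoc, h1, reassoc_of% (hu j), op_comp, Functor.map_comp_assoc, ← hev n k le_rfl hk]
  simp [z, res, Category.assoc]

end Unit

section Over

variable {C : Type u} [SmallCategory C] {J : GrothendieckTopology C} {X : C}
  {L : SimplicialObject (FormalCoproduct.{u} (Over X))}
  [∀ (n : ℕ) (F : (SimplexCategory.Truncated n)ᵒᵖ ⥤ FormalCoproduct.{u} (Over X)),
    (SimplexCategory.Truncated.inclusion n).op.HasRightKanExtension F]

theorem hc_of_isHypercovering (h : Hyper.IsHypercovering J X L) : HC L (J.over X) where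
  vertex W := by
    rw [GrothendieckTopology.mem_over_iff]
    refine J.superset_covering ?_ (J.pullback_stable W.hom h.1)
    intro W' g hg
    rw [Sieve.overEquiv_iff]
    obtain ⟨i, k, hk⟩ := (Sieve.mem_ofArrows_iff _ _ _).1 hg
    exact ⟨FormalCoproduct.Hom.fromIncl i (Over.homMk k hk.symm)⟩
  fill n _ z hz := fillSieve_mem (h.2 n) z hz

theorem isHypercovering_of_hc (h : HC L (J.over X)) : Hyper.IsHypercovering J X L := by
  refine ⟨?_, fun n => isSRCovering_η (h.fill n)⟩
  have h0 := (GrothendieckTopology.mem_over_iff J _).1 (h.vertex (Over.mk (𝟙 X)))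
  refine J.superset_covering ?_ h0
  intro W' g hg
  have hg' : (Sieve.overEquiv (Over.mk (𝟙 X)) (vertexSieve L (Over.mk (𝟙 X)))).arrows g := hg
  rw [Sieve.overEquiv_iff] at hg'
  obtain ⟨p⟩ := hg'
  refine (Sieve.mem_ofArrows_iff _ _ _).2 ⟨p.f PUnit.unit, (p.φ PUnit.unit).left, ?_⟩
  exact ((Over.w (p.φ PUnit.unit)).trans (Category.comp_id g)).symm

end Over

section Site

variable [∀ (n : ℕ) (F : (SimplexCategory.Truncated n)ᵒᵖ ⥤ FormalCoproduct.{u} D),
    (SimplexCategory.Truncated.inclusion n).op.HasRightKanExtension F] {J : GrothendieckTopology D}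

theorem isHypercoveringSite_of_hc (h : HC K J) : Hyper.IsHypercoveringSite J K := by
  refine ⟨⟨fun {V} e => ?_⟩, ⟨fun {V} e => ?_⟩,
    fun n _ => ⟨fun {V} e => OverSite.imageSieve_mem_of_isSRCovering _ _ (isSRCovering_η (h.fill n)) e⟩⟩
  · refine J.superset_covering ?_ (h.vertex V)
    rintro W g ⟨p⟩
    have := OverSite.subsingleton_terminal (C := D) (op W)
    exact ⟨(FillHyper.ι _).inv.app _ (FormalCoproduct.inclHomEquiv _ _ p), Subsingleton.elim _ _⟩
  · let a : yoneda.obj V ⟶ FormalCoproduct.yoneda.obj (K _⦋0⦌) ⨯ FormalCoproduct.yoneda.obj (K _⦋0⦌) :=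
      yonedaEquiv.symm e
    let z : Fin 2 → Pt V (K _⦋0⦌) := fun j => (FormalCoproduct.inclHomEquiv _ _).symm
      ((FillHyper.ι _).hom.app (op V) (yonedaEquiv (![a ≫ prod.snd, a ≫ prod.fst] j)))
    refine J.superset_covering ?_ (h.fill 0 V z (fun m hm => absurd hm (by omega)))
    rintro W g ⟨u, hu⟩
    refine ⟨(FillHyper.ι _).inv.app (op W) (FormalCoproduct.inclHomEquiv _ _ u), ?_⟩
    have key : ∀ j : Fin 2, yonedaEquiv.symm ((FillHyper.ι _).inv.app (op W)
        (FormalCoproduct.inclHomEquiv _ _ u)) ≫ FormalCoproduct.yoneda.map (K.δ j) =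
        yoneda.map g ≫ ![a ≫ prod.snd, a ≫ prod.fst] j := by
      intro j
      refine yonedaEquiv.injective ?_
      rw [yonedaEquiv_comp, Equiv.apply_symm_apply, ← yonedaEquiv_naturality]
      refine (((FillHyper.ι (K _⦋0⦌)).app (op W)).toEquiv).injective ?_
      refine (FillHyper.ι_naturality _ _ _).trans ((congrArg _ (FillHyper.ι_inv _ _ _)).trans ?_)
      refine Eq.trans ?_ (FillHyper.ι_res _ g.op _).symm
      exact congrArg (FormalCoproduct.inclHomEquiv _ _) (hu j)
    refine yonedaEquiv.symm.injective ?_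
    have hl : ∀ (x : (FormalCoproduct.yoneda.obj (K _⦋1⦌)).obj (op W))
        (f : FormalCoproduct.yoneda.obj (K _⦋1⦌) ⟶ FormalCoproduct.yoneda.obj (K _⦋0⦌) ⨯ FormalCoproduct.yoneda.obj (K _⦋0⦌)),
        yonedaEquiv.symm (f.app (op W) x) = yonedaEquiv.symm x ≫ f := fun x f =>
      yonedaEquiv.injective (by rw [yonedaEquiv_comp, Equiv.apply_symm_apply, Equiv.apply_symm_apply])
    have hr : yonedaEquiv.symm ((FormalCoproduct.yoneda.obj (K _⦋0⦌) ⨯
        FormalCoproduct.yoneda.obj (K _⦋0⦌)).map g.op e) = yoneda.map g ≫ a :=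
      yonedaEquiv.injective (by rw [Equiv.apply_symm_apply, ← yonedaEquiv_naturality, Equiv.apply_symm_apply])
    refine (hl _ _).trans (Eq.trans ?_ hr.symm)
    refine prod.hom_ext ?_ ?_
    · rw [Category.assoc, prod.lift_fst, key]
      exact (Category.assoc _ _ _).symm
    · rw [Category.assoc, prod.lift_snd, key]
      exact (Category.assoc _ _ _).symm

end Site

end Groth.Agent.HyperLib.Points
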