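import Groth.Agent.HyperLib.Sub
import Groth.Agent.HyperLib.Points

/-!
Simplicial formal coproducts of diagrams on the nonempty subsets of finite ordinals.
-/

set_option autoImplicit false

universe u

open CategoryTheory CategoryTheory.Limits Opposite Simplicial
open Groth.Agent.HyperLib.Sub Groth.Agent.HyperLib.Points

namespace Groth.Agent.HyperLib.Gen

variable {D : Type u} [SmallCategory D] (P : ∀ m : ℕ, ((NE m)ᵒᵖ ⥤ D) → Prop)
  (hP : ∀ {k m : ℕ} (θ : ⦋k⦌ ⟶ ⦋m⦌) (F : (NE m)ᵒᵖ ⥤ D), P m F → P k (im θ ⋙ F))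

/-- The diagrams satisfying a property. -/
abbrev Idx (m : ℕ) : Type u := {F : (NE m)ᵒᵖ ⥤ D // P m F}

/-- The formal coproduct of top values in one degree. -/
def obj (m : ℕ) : FormalCoproduct.{u} D := ⟨Idx P m, fun F => F.1.obj (op (top m))⟩

/-- The simplicial operators. -/
def map {k m : ℕ} (θ : ⦋k⦌ ⟶ ⦋m⦌) : obj P m ⟶ obj P k :=
  ⟨fun F => ⟨im θ ⋙ F.1, hP θ F.1 F.2⟩, fun F => F.1.map (arr (le_top' (imS θ (top k))))⟩

/-- The simplicial formal coproduct. -/
def K : SimplicialObject (FormalCoproduct.{u} D) where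
  obj a := obj P a.unop.len
  map ψ := map P hP ψ.unop
  map_id a := by
    refine FormalCoproduct.hom_ext (funext fun F => Subtype.ext (im_id_comp F.1)) fun F => ?_
    change F.1.map (arr (le_top' (imS (𝟙 ⦋a.unop.len⦌) (top a.unop.len)))) ≫ eqToHom _ = 𝟙 _
    rw [map_eqToHom F.1 _ (congrArg op (imS_id (top a.unop.len))) _ (𝟙 _)]
    exact F.1.map_id _
  map_comp {a b c} ψ ψ' := by
    refine FormalCoproduct.hom_ext (funext fun F => Subtype.ext (im_comp ψ'.unop ψ.unop F.1)) fun F => ?_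
    change F.1.map (arr (le_top' (imS (ψ'.unop ≫ ψ.unop) (top c.unop.len)))) ≫ eqToHom _ =
      F.1.map (arr (le_top' (imS ψ.unop (top b.unop.len)))) ≫
        F.1.map ((im ψ.unop).map (arr (le_top' (imS ψ'.unop (top c.unop.len)))))
    rw [← F.1.map_comp]
    exact map_eqToHom F.1 _ (congrArg op (imS_comp ψ'.unop ψ.unop (top c.unop.len))) _ _

variable {P hP} {J : GrothendieckTopology D}

/-- The diagram of a point. -/
def idx {W : D} {m : ℕ} (p : Pt W ((K P hP) _⦋m⦌)) : Idx P m := p.f PUnit.unit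

/-- The morphism of a point. -/
def top₁ {W : D} {m : ℕ} (p : Pt W ((K P hP) _⦋m⦌)) : W ⟶ (idx p).1.obj (op (top m)) := p.φ PUnit.unit

/-- The leg of a point at a subset. -/
def leg {W : D} {m : ℕ} (p : Pt W ((K P hP) _⦋m⦌)) (S : NE m) : W ⟶ (idx p).1.obj (op S) :=
  top₁ p ≫ (idx p).1.map (arr (le_top' S))

lemma leg_comp {W : D} {m : ℕ} (p : Pt W ((K P hP) _⦋m⦌)) {S T : NE m} (h : T ≤ S) :
    leg p S ≫ (idx p).1.map (arr h) = leg p T := by
  exact (Category.assoc _ _ _).trans (congrArg (top₁ p ≫ ·)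
    (((idx p).1.map_comp _ _).symm.trans (congrArg (idx p).1.map (Subsingleton.elim _ _))))

lemma legs_eq {W : D} {n k : ℕ} {z : Fin (n + 2) → Pt W ((K P hP) _⦋n⦌)} (hz : Compat (K P hP) n z)
    {i j : Fin (n + 2)} (θ θ' : ⦋k⦌ ⟶ ⦋n⦌) (e : θ ≫ SimplexCategory.δ i = θ' ≫ SimplexCategory.δ j) :
    ∃ h : im θ ⋙ (idx (z i)).1 = im θ' ⋙ (idx (z j)).1,
      leg (z i) (imS θ (top k)) ≫ eqToHom (CategoryTheory.Functor.congr_obj h (op (top k))) =
        leg (z j) (imS θ' (top k)) := by
  obtain ⟨h1, h2⟩ := (FormalCoproduct.hom_ext_iff _ _).1 (hz.wd i j θ θ' e)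
  exact ⟨congrArg Subtype.val (congrFun h1 PUnit.unit), h2 PUnit.unit⟩

lemma agree {W : D} {n : ℕ} {z : Fin (n + 2) → Pt W ((K P hP) _⦋n⦌)} (hz : Compat (K P hP) n z) :
    Agree fun j => (idx (z j)).1 :=
  fun _ _ _ θ θ' e => (legs_eq hz θ θ' e).1

variable (P) in
/-- Where a cone on the boundary extends. -/
def extSieve {n : ℕ} (G : (PS (n + 1))ᵒᵖ ⥤ D) {W : D} (w : (Functor.const (PS (n + 1))ᵒᵖ).obj W ⟶ G) :
    Sieve W where
  arrows W' g := ∃ (F : Idx P (n + 1)) (h : incl (n + 1) ⋙ F.1 = G) (k : W' ⟶ F.1.obj (op (top (n + 1)))),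
    ∀ T : PS (n + 1), k ≫ F.1.map (arr (le_top' T.1)) ≫ eqToHom (CategoryTheory.Functor.congr_obj h (op T)) =
      g ≫ w.app (op T)
  downward_closed := by
    rintro W' W'' g ⟨F, h, k, hk⟩ g'
    exact ⟨F, h, g' ≫ k, fun T => by rw [Category.assoc, hk, Category.assoc]⟩

variable (P) in
/-- Where a vertex exists. -/
def vtxSieve (W : D) : Sieve W where
  arrows W' _ := ∃ F : Idx P 0, Nonempty (W' ⟶ F.1.obj (op (top 0)))
  downward_closed := by
    rintro W' W'' g ⟨F, ⟨k⟩⟩ g'
    exact ⟨F, ⟨g' ≫ k⟩⟩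

lemma conj_aux {W a b c d : D} (l : W ⟶ a) (e : a = b) (f : a ⟶ c) (e' : c = d) :
    (l ≫ eqToHom e) ≫ eqToHom e.symm ≫ f ≫ eqToHom e' = (l ≫ f) ≫ eqToHom e' := by
  subst e e'
  simp

/-- The simplicial formal coproduct fills locally if cones on boundaries extend locally. -/
theorem hc (hv : ∀ W, vtxSieve P W ∈ J W)
    (he : ∀ (n : ℕ) (G : (PS (n + 1))ᵒᵖ ⥤ D) (W : D) (w : (Functor.const (PS (n + 1))ᵒᵖ).obj W ⟶ G),
      (∀ j, P n (imPF j ⋙ G)) → extSieve P G w ∈ J W) : HC (K P hP) J where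
  vertex W := by
    refine J.superset_covering ?_ (hv W)
    rintro W' g ⟨F, ⟨k⟩⟩
    exact ⟨FormalCoproduct.Hom.fromIncl F k⟩
  fill n W z hz := by
    obtain ⟨G, hG⟩ := exists_glue (agree hz)
    choose j hj using fun T : PS (n + 1) => exists_not_mem T
    choose A hA using fun T : PS (n + 1) => exists_pre T (j T) (hj T)
    have ho : ∀ T, (idx (z (j T))).1.obj (op (A T)) = G.obj (op T) := fun T =>
      (CategoryTheory.Functor.congr_obj (hG (j T)) (op (A T))).symm.trans (congrArg (fun T => G.obj (op T)) (hA T))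
    let w₀ : ∀ T : PS (n + 1), W ⟶ G.obj (op T) := fun T => leg (z (j T)) (A T) ≫ eqToHom (ho T)
    have key : ∀ (i : Fin (n + 2)) (B : NE n), w₀ (imP i B) =
        leg (z i) B ≫ eqToHom (CategoryTheory.Functor.congr_obj (hG i) (op B)).symm := by
      intro i B
      obtain ⟨k, θ, θ', hθ, hθ', e⟩ := exists_common ((hA (imP i B)).trans rfl)
      obtain ⟨_, hleg⟩ := legs_eq hz θ θ' e
      generalize ho (imP i B) = e₁
      have key2 : ∀ (a b : NE n) (_ : imS θ (top k) = a) (_ : imS θ' (top k) = b)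
          (e₂ : (idx (z (j (imP i B)))).1.obj (op a) = (idx (z i)).1.obj (op b)),
          leg (z (j (imP i B))) a ≫ eqToHom e₂ = leg (z i) b := by
        rintro a b rfl rfl e₂
        exact hleg
      rw [← key2 _ B hθ hθ' (e₁.trans (CategoryTheory.Functor.congr_obj (hG i) (op B))), Category.assoc,
        eqToHom_trans]
      exact rfl
    let w : (Functor.const (PS (n + 1))ᵒᵖ).obj W ⟶ G :=
      { app := fun T => w₀ T.unop
        naturality := fun S T f => by
          obtain ⟨i, hi⟩ := exists_not_mem S.unop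
          obtain ⟨a, ha⟩ := exists_pre S.unop i hi
          obtain ⟨b, hb⟩ := exists_pre T.unop i (mem_of_le (leOfHom f.unop) hi)
          obtain rfl : op (imP i a) = S := congrArg op ha
          obtain rfl : op (imP i b) = T := congrArg op hb
          have hba : b ≤ a := (imS_δ_le_iff i b a).1 (leOfHom f.unop)
          rw [show f = (imPF i).map (arr hba) from Subsingleton.elim _ _]
          simp only [Functor.const_obj_map]
          rw [key i a, key i b]
          have h := CategoryTheory.Functor.congr_hom (hG i) (arr hba)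
          simp only [Functor.comp_map] at h
          erw [h]
          refine (Category.id_comp _).trans ?_
          refine Eq.trans ?_ (conj_aux _ _ _ _).symm
          exact congrArg (· ≫ eqToHom _) (leg_comp (z i) hba).symm }
    refine J.superset_covering ?_ (he n G W w (fun i => by rw [hG i]; exact (idx (z i)).2))
    rintro W' g ⟨F, h, k, hk⟩
    refine ⟨FormalCoproduct.Hom.fromIncl F k, fun i => ?_⟩
    have hF : im (SimplexCategory.δ i) ⋙ F.1 = (idx (z i)).1 := by
      rw [← imPF_incl, Functor.assoc, h, hG i]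
    refine FormalCoproduct.hom_ext (funext fun _ => Subtype.ext hF) fun _ => ?_
    have h2 := hk (imP i (top n))
    change _ = g ≫ w₀ (imP i (top n)) at h2
    rw [key i (top n)] at h2
    change (k ≫ F.1.map (arr (le_top' (imS (SimplexCategory.δ i) (top n))))) ≫ eqToHom _ = g ≫ top₁ (z i)
    have h3 : leg (z i) (top n) = top₁ (z i) := by
      rw [leg, show arr (le_top' (top n)) = 𝟙 _ from Subsingleton.elim _ _, CategoryTheory.Functor.map_id, Category.comp_id]
    rw [← h3]
    refine (cancel_mono (eqToHom (CategoryTheory.Functor.congr_obj (hG i) (op (top n))).symm)).1 ?_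
    refine Eq.trans ?_ (h2.trans (Category.assoc _ _ _).symm)
    simp only [Category.assoc, eqToHom_trans]
    rfl

end Groth.Agent.HyperLib.Gen
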