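import Groth.Agent.HyperLib.Ops
import Mathlib.Algebra.Category.Grp.Abelian
import Mathlib.CategoryTheory.Limits.Shapes.ConcreteCategory
import Mathlib.CategoryTheory.Sites.LocallyBijective

/-!
Cochains with values in a presheaf with zero sheafification die after refinement.
-/

set_option autoImplicit false

universe u

open CategoryTheory CategoryTheory.Limits Opposite Simplicial

namespace Groth.Agent.HyperLib.Kill

variable {C : Type u} [SmallCategory C] {J : GrothendieckTopology C} {X : C}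
  {K L : SimplicialObject (FormalCoproduct.{u} (Over X))} (N : Cᵒᵖ ⥤ AddCommGrpCat.{u})

/-- A component of a cochain. -/
noncomputable abbrev comp (p : ℕ) (i : (K _⦋p⦌).I) :
    (Hyper.cechCx X K N).X p ⟶ N.obj (op ((K _⦋p⦌).obj i).left) :=
  Pi.π (fun i : (K _⦋p⦌).I => N.obj (op ((K _⦋p⦌).obj i).left)) i

lemma comp_cechMap (f : L ⟶ K) (p : ℕ) (l : (L _⦋p⦌).I) (c : (Hyper.cechCx X K N).X p) :
    comp N p l ((Hyper.cechMap X f N).f p c) =
      N.map ((f.app (op ⦋p⦌)).φ l).left.op (comp N p ((f.app (op ⦋p⦌)).f l) c) := by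
  rw [← ConcreteCategory.comp_apply, ← ConcreteCategory.comp_apply]
  congr 2
  exact Pi.lift_π _ _

lemma cochain_ext {p : ℕ} {c c' : (Hyper.cechCx X K N).X p} (h : ∀ i, comp N p i c = comp N p i c') :
    c = c' :=
  Concrete.limit_ext (Discrete.functor fun i : (K _⦋p⦌).I => N.obj (op ((K _⦋p⦌).obj i).left)) c c'
    fun ⟨i⟩ => h i

variable {N} [HasPullbacks C]
  [∀ (n : ℕ) (F : (SimplexCategory.Truncated n)ᵒᵖ ⥤ FormalCoproduct.{u} (Over X)),
    (SimplexCategory.Truncated.inclusion n).op.HasRightKanExtension F]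

/-- A cochain which is locally zero dies after refinement. -/
theorem exists_killing_cochain (hK : Hyper.IsHypercovering J X K) {p : ℕ} (c : (Hyper.cechCx X K N).X p)
    (hc : ∀ i, ∃ R ∈ J ((K _⦋p⦌).obj i).left, ∀ {V : C} (g : V ⟶ ((K _⦋p⦌).obj i).left), R g →
      N.map g.op (comp N p i c) = 0) :
    ∃ (L : SimplicialObject (FormalCoproduct.{u} (Over X))) (f : L ⟶ K),
      Hyper.IsHypercovering J X L ∧ (Hyper.cechMap X f N).f p c = 0 := by
  have : HasFiniteLimits (FormalCoproduct.{u} (Over X)) := Refine.hasFiniteLimits_formalCoproduct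
  let Z : FormalCoproduct.{u} (Over X) :=
    ⟨Σ (i : (K _⦋p⦌).I) (W : Over X), {g : W ⟶ (K _⦋p⦌).obj i // N.map g.left.op (comp N p i c) = 0},
      fun t => t.2.1⟩
  let u : Z ⟶ K _⦋p⦌ := ⟨fun t => t.1, fun t => t.2.2.1⟩
  have hu : Hyper.IsSRCovering (J.over X) u := by
    intro i
    obtain ⟨R, hR, h⟩ := hc i
    rw [GrothendieckTopology.mem_over_iff]
    refine J.superset_covering ?_ hR
    intro V g hg
    rw [Sieve.overEquiv_iff]
    refine (Sieve.mem_ofArrows_iff _ _ _).2
      ⟨⟨⟨i, Over.mk (g ≫ ((K _⦋p⦌).obj i).hom), ⟨Over.homMk g, h g hg⟩⟩, rfl⟩, 𝟙 _, ?_⟩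
    exact ((Category.id_comp _).trans (Category.comp_id _)).symm
  obtain ⟨L, f, g, hL, hg⟩ := Refine.exists_refinement u (Points.hc_of_isHypercovering hK) hu
  refine ⟨L, f, Points.isHypercovering_of_hc hL, cochain_ext N fun l => ?_⟩
  rw [comp_cechMap, map_zero, ← hg]
  change N.map ((g.φ l).left ≫ (g.f l).2.2.1.left).op (comp N p (g.f l).1 c) = 0
  rw [op_comp, Functor.map_comp_apply, (g.f l).2.2.2, map_zero]

/-- Every class with values in a presheaf with zero sheafification dies after refinement. -/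
theorem exists_killing (K : SimplicialObject (FormalCoproduct.{u} (Over X)))
    (hK : Hyper.IsHypercovering J X K) (N : Cᵒᵖ ⥤ AddCommGrpCat.{u})
    (hN : IsZero ((presheafToSheaf J AddCommGrpCat.{u}).obj N)) (p : ℕ) (ξ : Hyper.cechH X K N p) :
    ∃ (L : SimplicialObject (FormalCoproduct.{u} (Over X))) (f : L ⟶ K),
      Hyper.IsHypercovering J X L ∧ Hyper.cechHMap X f N p ξ = 0 := by
  obtain ⟨z, rfl⟩ := (AddCommGrpCat.epi_iff_surjective
    ((Hyper.cechCx X K N).homologyπ p)).1 inferInstance ξ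
  have hz : IsZero (sheafify J N) := (sheafToPresheaf J AddCommGrpCat.{u}).map_isZero hN
  have h0 : ∀ i, ∃ R ∈ J ((K _⦋p⦌).obj i).left, ∀ {V : C} (g : V ⟶ ((K _⦋p⦌).obj i).left), R g →
      N.map g.op (comp N p i ((Hyper.cechCx X K N).iCycles p z)) = 0 := fun i => by
    have : Subsingleton ((sheafify J N).obj (op ((K _⦋p⦌).obj i).left)) :=
      AddCommGrpCat.subsingleton_of_isZero ((Functor.isZero_iff _).1 hz _)
    refine ⟨_, Presheaf.equalizerSieve_mem J (toSheafify J N) (X := op ((K _⦋p⦌).obj i).left)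
      (comp N p i ((Hyper.cechCx X K N).iCycles p z)) 0 (Subsingleton.elim _ _), fun g hg => ?_⟩
    exact hg.trans (map_zero _)
  obtain ⟨L, f, hL, hf⟩ := exists_killing_cochain hK _ h0
  refine ⟨L, f, hL, ?_⟩
  change HomologicalComplex.homologyMap (Hyper.cechMap X f N) p ((Hyper.cechCx X K N).homologyπ p z) = 0
  rw [← ConcreteCategory.comp_apply, HomologicalComplex.homologyπ_naturality, ConcreteCategory.comp_apply]
  have : HomologicalComplex.cyclesMap (Hyper.cechMap X f N) p z = 0 := by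
    refine (AddCommGrpCat.mono_iff_injective ((Hyper.cechCx X L N).iCycles p)).1 inferInstance ?_
    rw [← ConcreteCategory.comp_apply, HomologicalComplex.cyclesMap_i, ConcreteCategory.comp_apply,
      hf, map_zero]
  rw [this, map_zero]

end Groth.Agent.HyperLib.Kill
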