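import Mathlib.Algebra.Homology.ShortComplex.Ab
import Mathlib.Algebra.Homology.QuasiIso
import Mathlib.CategoryTheory.Sites.LocallyBijective
import Mathlib.CategoryTheory.Sites.Sheafification
import Mathlib.CategoryTheory.Limits.Preserves.Finite
import Mathlib.CategoryTheory.Abelian.Exact
import Mathlib.Algebra.Category.Grp.FilteredColimits
import Mathlib.CategoryTheory.Sites.Abelian

/-!
A map of complexes of abelian presheaves which is locally bijective on cycles modulo boundaries
becomes a quasi-isomorphism after sheafification.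
-/

set_option autoImplicit false

universe u

open CategoryTheory CategoryTheory.Limits Opposite HomologicalComplex

namespace Groth.Agent.HyperLib.LocHom

lemma isIso_homologyMap_map_iff {A A' : Type*} [Category A] [Category A'] [Abelian A] [Abelian A']
    (F : A ⥤ A') [F.Additive] [F.PreservesHomology] {ι : Type*} {c : ComplexShape ι}
    {K K' : HomologicalComplex A c} (φ : K ⟶ K') (i : ι) :
    IsIso (homologyMap ((F.mapHomologicalComplex c).map φ) i) ↔ IsIso (F.map (homologyMap φ i)) :=
  NatIso.isIso_map_iff (ShortComplex.homologyFunctorIso F) ((shortComplexFunctor A c i).map φ)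

variable {C : Type u} [SmallCategory C] {J : GrothendieckTopology C}
  {ι : Type*} {c : ComplexShape ι} (P : HomologicalComplex (Cᵒᵖ ⥤ AddCommGrpCat.{u}) c) (i : ι)
  (V : Cᵒᵖ)

lemma exists_cycle (z : (P.X i).obj V) (hz : (P.d i (c.next i)).app V z = 0) :
    ∃ e : (P.cycles i).obj V, (P.iCycles i).app V e = z := by
  have hS : (ShortComplex.mk (P.iCycles i) (P.d i (c.next i)) (P.iCycles_d _ _)).Exact :=
    ShortComplex.exact_of_f_is_kernel _ (P.cyclesIsKernel i (c.next i) rfl)
  exact (ShortComplex.ab_exact_iff _).mp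
    (hS.map ((evaluation Cᵒᵖ AddCommGrpCat.{u}).obj V)) z hz

lemma iCycles_injective : Function.Injective ((P.iCycles i).app V) :=
  (AddCommGrpCat.mono_iff_injective _).mp inferInstance

lemma π_surjective : Function.Surjective ((P.homologyπ i).app V) :=
  (AddCommGrpCat.epi_iff_surjective _).mp inferInstance

lemma π_eq_zero_iff (e : (P.cycles i).obj V) :
    (P.homologyπ i).app V e = 0 ↔
      ∃ d, (P.d (c.prev i) i).app V d = (P.iCycles i).app V e := by
  have hS : (ShortComplex.mk (P.toCycles (c.prev i) i) (P.homologyπ i)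
      (P.toCycles_comp_homologyπ _ _)).Exact :=
    ShortComplex.exact_of_g_is_cokernel _ (P.homologyIsCokernel (c.prev i) i rfl)
  constructor
  · intro h
    obtain ⟨b, hb⟩ := (ShortComplex.ab_exact_iff _).mp
      (hS.map ((evaluation Cᵒᵖ AddCommGrpCat.{u}).obj V)) e h
    exact ⟨b, (ConcreteCategory.congr_hom (congr_app (P.toCycles_i (c.prev i) i) V) b).symm.trans
      (congrArg ((P.iCycles i).app V) hb)⟩
  · rintro ⟨b, hb⟩
    obtain rfl : (P.toCycles (c.prev i) i).app V b = e :=
      iCycles_injective P i V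
        ((ConcreteCategory.congr_hom (congr_app (P.toCycles_i (c.prev i) i) V) b).trans hb)
    exact ConcreteCategory.congr_hom (congr_app (P.toCycles_comp_homologyπ (c.prev i) i) V) b

variable {P i} {Q : HomologicalComplex (Cᵒᵖ ⥤ AddCommGrpCat.{u}) c} (φ : P ⟶ Q)

lemma homologyMap_π (e : (P.cycles i).obj V) :
    (homologyMap φ i).app V ((P.homologyπ i).app V e) =
      (Q.homologyπ i).app V ((cyclesMap φ i).app V e) :=
  ConcreteCategory.congr_hom (congr_app (homologyπ_naturality φ i) V) e

lemma iCycles_cyclesMap (e : (P.cycles i).obj V) :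
    (Q.iCycles i).app V ((cyclesMap φ i).app V e) = (φ.f i).app V ((P.iCycles i).app V e) :=
  ConcreteCategory.congr_hom (congr_app (cyclesMap_i φ i) V) e

variable (J) (i)

/-- Locally bijective on homology. -/
structure IsLocBij : Prop where
  surj : ∀ (U : C) (w : (Q.X i).obj (op U)), (Q.d i (c.next i)).app (op U) w = 0 →
    ∃ S ∈ J U, ∀ ⦃W : C⦄ (g : W ⟶ U), S g → ∃ z : (P.X i).obj (op W),
      (P.d i (c.next i)).app (op W) z = 0 ∧ (φ.f i).app (op W) z = (Q.X i).map g.op w
  inj : ∀ (U : C) (z : (P.X i).obj (op U)), (P.d i (c.next i)).app (op U) z = 0 →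
    (∃ e, (Q.d (c.prev i) i).app (op U) e = (φ.f i).app (op U) z) →
    ∃ S ∈ J U, ∀ ⦃W : C⦄ (g : W ⟶ U), S g →
      ∃ d, (P.d (c.prev i) i).app (op W) d = (P.X i).map g.op z

variable {J}

/-- A map locally bijective on homology gives an isomorphism after sheafification. -/
theorem isIso_homologyMap (h : IsLocBij J i φ) :
    IsIso (homologyMap (((presheafToSheaf J AddCommGrpCat.{u}).mapHomologicalComplex c).map φ) i) := by
  rw [isIso_homologyMap_map_iff]
  let η := homologyMap φ i
  have : Presheaf.IsLocallySurjective J η := ⟨fun {U} s => by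
    obtain ⟨e, rfl⟩ := π_surjective Q i (op U) s
    obtain ⟨S, hS, hz⟩ := h.surj U ((Q.iCycles i).app (op U) e)
      (ConcreteCategory.congr_hom (congr_app (Q.iCycles_d i (c.next i)) (op U)) e)
    refine J.superset_covering ?_ hS
    intro W g hg
    obtain ⟨z, hz0, hz⟩ := hz g hg
    obtain ⟨e', rfl⟩ := exists_cycle P i (op W) z hz0
    refine ⟨(P.homologyπ i).app (op W) e', (homologyMap_π (op W) φ e').trans ?_⟩
    rw [← NatTrans.naturality_apply (Q.homologyπ i) g.op e]
    congr 1
    refine iCycles_injective Q i (op W) ?_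
    rw [iCycles_cyclesMap, hz, ← NatTrans.naturality_apply]⟩
  have : Presheaf.IsLocallyInjective J η := ⟨fun {U} a b hab => by
    obtain ⟨e, he⟩ := π_surjective P i U (a - b)
    have h0 : (Q.homologyπ i).app U ((cyclesMap φ i).app U e) = 0 := by
      rw [← homologyMap_π, he, map_sub, sub_eq_zero]
      exact hab
    obtain ⟨d, hd⟩ := (π_eq_zero_iff Q i U _).1 h0
    obtain ⟨S, hS, hz⟩ := h.inj U.unop ((P.iCycles i).app U e)
      (ConcreteCategory.congr_hom (congr_app (P.iCycles_d i (c.next i)) U) e)
      ⟨d, hd.trans (iCycles_cyclesMap U φ e)⟩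
    refine J.superset_covering ?_ hS
    intro W g hg
    obtain ⟨d', hd'⟩ := hz g hg
    show (P.homology i).map g.op a = (P.homology i).map g.op b
    rw [← sub_eq_zero, ← map_sub, ← he, ← NatTrans.naturality_apply, π_eq_zero_iff]
    exact ⟨d', hd'.trans (NatTrans.naturality_apply (P.iCycles i) g.op e).symm⟩⟩
  exact (J.W_iff η).1 (J.W_of_isLocallyBijective η)

end Groth.Agent.HyperLib.LocHom
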