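import Groth.Agent.HyperLib.Refine
import Groth.Prelude.Def_Hyper2

/-!
Fibre products of hypercoverings, and killing locally vanishing cochains by refinement.
-/

set_option autoImplicit false

universe u

open CategoryTheory CategoryTheory.Limits Opposite Simplicial
open Groth.Agent.HyperLib.Points

namespace Groth.Agent.HyperLib.Ops

variable {D : Type u} [SmallCategory D] {J : GrothendieckTopology D}

lemma app_δ {K L : SimplicialObject (FormalCoproduct.{u} D)} (a : K ⟶ L) {n : ℕ} (j : Fin (n + 2)) :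
    a.app (op ⦋n + 1⦌) ≫ L.δ j = K.δ j ≫ a.app (op ⦋n⦌) :=
  (a.naturality _).symm

/-- A base change of a hypercovering along a morphism with coverings as relative matching maps is a
hypercovering. -/
theorem hc_pullback {K L M P : SimplicialObject (FormalCoproduct.{u} D)} {a : K ⟶ L} {b : M ⟶ L}
    {p₁ : P ⟶ K} {p₂ : P ⟶ M} (hP : ∀ k, IsPullback (p₁.app k) (p₂.app k) (a.app k) (b.app k))
    (hK : HC K J)
    (hb₀ : ∀ (W : D) (x : Pt W (L _⦋0⦌)), liftSieve (b.app (op ⦋0⦌)) x ∈ J W)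
    (hb : ∀ (n : ℕ) (W : D) (z : Fin (n + 2) → Pt W (M _⦋n⦌)), Compat M n z →
      ∀ x : Pt W (L _⦋n + 1⦌), (∀ j, x ≫ L.δ j = z j ≫ b.app (op ⦋n⦌)) →
      ∃ R ∈ J W, ∀ {W'} (g : W' ⟶ W), R g → ∃ y : Pt W' (M _⦋n + 1⦌),
        y ≫ b.app (op ⦋n + 1⦌) = res g x ∧ ∀ j, y ≫ M.δ j = res g (z j)) :
    HC P J where
  vertex W := by
    refine J.transitive (hK.vertex W) _ fun W' g hg => ?_
    obtain ⟨x⟩ := hg
    refine J.superset_covering ?_ (hb₀ W' (x ≫ a.app (op ⦋0⦌)))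
    rintro W'' g' ⟨y, hy⟩
    exact ⟨(hP (op ⦋0⦌)).lift (res g' x) y (by rw [hy, res, res, Category.assoc])⟩
  fill n W z hz := by
    refine J.transitive (hK.fill n W _ (hz.map p₁)) _ fun W' g hg => ?_
    obtain ⟨x, hx⟩ := hg
    have hxa : ∀ j, (x ≫ a.app (op ⦋n + 1⦌)) ≫ L.δ j = (res g (z j) ≫ p₂.app (op ⦋n⦌)) ≫ b.app (op ⦋n⦌) := by
      intro j
      rw [Category.assoc, app_δ, reassoc_of% (hx j)]
      simp only [res, Category.assoc]
      rw [(hP (op ⦋n⦌)).w]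
    obtain ⟨R, hR, hfill⟩ := hb n W' (fun j => res g (z j) ≫ p₂.app (op ⦋n⦌))
      ((hz.comp ((FormalCoproduct.incl D).map g)).map p₂) (x ≫ a.app (op ⦋n + 1⦌)) hxa
    refine J.superset_covering ?_ hR
    intro W'' g' hg'
    obtain ⟨y, hy₁, hy₂⟩ := hfill g' hg'
    refine ⟨(hP (op ⦋n + 1⦌)).lift (res g' x) y (by rw [hy₁, res, res, Category.assoc]), fun j => ?_⟩
    refine (hP (op ⦋n⦌)).hom_ext ?_ ?_
    · rw [Category.assoc, ← app_δ, IsPullback.lift_fst_assoc]
      simp only [res, Category.assoc, Functor.map_comp] at hx ⊢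
      exact congrArg (_ ≫ ·) (hx j)
    · rw [Category.assoc, ← app_δ, IsPullback.lift_snd_assoc]
      refine (hy₂ j).trans ?_
      simp only [res, Category.assoc, Functor.map_comp]

/-- The product of two hypercoverings is a hypercovering. -/
theorem hc_prod {K L P : SimplicialObject (FormalCoproduct.{u} D)} {p₁ : P ⟶ K} {p₂ : P ⟶ L}
    (hlift : ∀ k {T : FormalCoproduct.{u} D} (x : T ⟶ K.obj k) (y : T ⟶ L.obj k),
      ∃ l : T ⟶ P.obj k, l ≫ p₁.app k = x ∧ l ≫ p₂.app k = y)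
    (hext : ∀ k {T : FormalCoproduct.{u} D} (l l' : T ⟶ P.obj k), l ≫ p₁.app k = l' ≫ p₁.app k →
      l ≫ p₂.app k = l' ≫ p₂.app k → l = l')
    (hK : HC K J) (hL : HC L J) : HC P J where
  vertex W := by
    refine J.superset_covering ?_ (J.intersection_covering (hK.vertex W) (hL.vertex W))
    rintro W' g ⟨⟨x⟩, ⟨y⟩⟩
    exact ⟨(hlift (op ⦋0⦌) x y).choose⟩
  fill n W z hz := by
    refine J.superset_covering ?_ (J.intersection_covering (hK.fill n W _ (hz.map p₁)) (hL.fill n W _ (hz.map p₂)))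
    rintro W' g ⟨⟨x, hx⟩, ⟨y, hy⟩⟩
    obtain ⟨l, hl₁, hl₂⟩ := hlift (op ⦋n + 1⦌) x y
    refine ⟨l, fun j => hext _ _ _ ?_ ?_⟩
    · rw [Category.assoc, ← app_δ, reassoc_of% hl₁, hx j]
      simp only [res, Category.assoc]
    · rw [Category.assoc, ← app_δ, reassoc_of% hl₂, hy j]
      simp only [res, Category.assoc]

end Groth.Agent.HyperLib.Ops
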