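import Groth.Agent.HyperLib.SemiSimp
import Mathlib.CategoryTheory.Sites.LocallySurjective

/-!
Morphisms of simplicial presheaves of sets with local relative fillers (local trivial fibrations):
finitely many simplices lift locally, compatibly with faces.
-/

set_option autoImplicit false

universe u

open CategoryTheory CategoryTheory.Limits Opposite Simplicial

namespace Groth.Agent.HyperLib.RelFill

open SemiSimp

variable {C : Type u} [SmallCategory C] (J : GrothendieckTopology C)
  {L K : SimplicialObject (Cᵒᵖ ⥤ Type u)}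

/-- The semi-simplicial set of sections. -/
def sec (L : SimplicialObject (Cᵒᵖ ⥤ Type u)) (V : C) : SS.{u} where
  obj n := (L.obj (op ⦋n⦌)).obj (op V)
  d j x := (L.δ j).app (op V) x
  dd h x := ConcreteCategory.congr_hom (congr_app (L.δ_comp_δ h) (op V)) x

/-- Restriction. -/
def res (L : SimplicialObject (Cᵒᵖ ⥤ Type u)) {V W : C} (g : W ⟶ V) : SS.Hom (sec L V) (sec L W) where
  app n x := (L.obj (op ⦋n⦌)).map g.op x
  comm _ j x := ConcreteCategory.congr_hom ((L.δ j).naturality g.op) x

/-- The map on sections. -/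
def map (f : L ⟶ K) (V : C) : SS.Hom (sec L V) (sec K V) where
  app n x := (f.app (op ⦋n⦌)).app (op V) x
  comm _ j x :=
    (ConcreteCategory.congr_hom (congr_app (f.naturality (SimplexCategory.δ j).op) (op V)) x).symm

variable (L) in
lemma res_comp {U V W : C} (h : U ⟶ W) (g : W ⟶ V) (n : ℕ) (x : (sec L V).obj n) :
    (res L (h ≫ g)).app n x = (res L h).app n ((res L g).app n x) := by
  change (L.obj (op ⦋n⦌)).map (h ≫ g).op x = _
  rw [op_comp, Functor.map_comp_apply]
  rfl

lemma map_res (f : L ⟶ K) {V W : C} (g : W ⟶ V) (n : ℕ) (x : (sec L V).obj n) :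
    (map f W).app n ((res L g).app n x) = (res K g).app n ((map f V).app n x) :=
  ConcreteCategory.congr_hom ((f.app (op ⦋n⦌)).naturality g.op) x

/-- Compatibility of a family of faces. -/
def Compat (L : SimplicialObject (Cᵒᵖ ⥤ Type u)) (V : C) :
    ∀ n : ℕ, (Fin (n + 2) → (sec L V).obj n) → Prop
  | 0, _ => True
  | n + 1, y => ∀ i j : Fin (n + 2), i ≤ j →
      (sec L V).d i (y j.succ) = (sec L V).d j (y i.castSucc)

variable (f : L ⟶ K)

/-- The sieve of restrictions where a relative filling exists. -/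
def fillSieve {n : ℕ} {V : C} (y : Fin (n + 2) → (sec L V).obj n) (a : (sec K V).obj (n + 1)) :
    Sieve V where
  arrows W g := ∃ x : (sec L W).obj (n + 1),
    (∀ j, (sec L W).d j x = (res L g).app n (y j)) ∧ (map f W).app (n + 1) x = (res K g).app (n + 1) a
  downward_closed := by
    rintro W W' g ⟨x, hx, hx'⟩ g'
    exact ⟨(res L g').app _ x, fun j => by rw [(res L g').comm, hx, res_comp],
      by rw [map_res, hx', res_comp]⟩

/-- Vertices lift locally and boundaries over a simplex fill locally. -/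
structure LTF : Prop where
  vertex : Presheaf.IsLocallySurjective J (f.app (op ⦋0⦌))
  fill : ∀ (n : ℕ) (V : C) (y : Fin (n + 2) → (sec L V).obj n) (a : (sec K V).obj (n + 1)),
    Compat L V n y → (∀ j, (map f V).app n (y j) = (sec K V).d j a) → fillSieve f y a ∈ J V

/-- A semi-simplicial set over `K(V)` with a lift prescribed on a part closed under faces. -/
structure Model (V : C) where
  /-- The source. -/
  dom : SS.{u}
  /-- The map to `K`. -/
  α : SS.Hom dom (sec K V)
  /-- The part where the lift is prescribed. -/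
  B : ∀ m : ℕ, Set (dom.obj m)
  /-- The prescribed lift. -/
  s : ∀ (m : ℕ) (x : dom.obj m), x ∈ B m → (sec L V).obj m
  f_s : ∀ (m : ℕ) (x : dom.obj m) (hx : x ∈ B m), (map f V).app m (s m x hx) = α.app m x
  B_d : ∀ (m : ℕ) (j : Fin (m + 2)) (x : dom.obj (m + 1)), x ∈ B (m + 1) → dom.d j x ∈ B m
  s_d : ∀ (m : ℕ) (j : Fin (m + 2)) (x : dom.obj (m + 1)) (hx : x ∈ B (m + 1)),
    (sec L V).d j (s (m + 1) x hx) = s m (dom.d j x) (B_d m j x hx)

variable {f} {V : C} (M : Model f V)

/-- Consistency of lifts with faces. -/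
def Cons : ∀ (m : ℕ) {W : C} (T : Set (M.dom.obj m)), (∀ x, x ∈ T → (sec L W).obj m) → Prop
  | 0, _, _, _ => True
  | m + 1, W, T, h => ∀ (x : _) (hx : x ∈ T) (y : _) (hy : y ∈ T) (i j : Fin (m + 2)),
      M.dom.d i x = M.dom.d j y → (sec L W).d i (h x hx) = (sec L W).d j (h y hy)

lemma cons_res : ∀ (m : ℕ) {W W' : C} (g' : W' ⟶ W) (T : Set (M.dom.obj m))
    (h : ∀ x, x ∈ T → (sec L W).obj m), Cons M m T h →
    Cons M m T (fun x hx => (res L g').app m (h x hx))
  | 0, _, _, _, _, _, _ => trivial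
  | m + 1, _, _, g', T, h, H => fun x hx y hy i j e => by
      rw [(res L g').comm, (res L g').comm, H x hx y hy i j e]

/-- A good family of lifts. -/
def Good (m : ℕ) {W : C} (g : W ⟶ V) (T : Set (M.dom.obj m))
    (h : ∀ x, x ∈ T → (sec L W).obj m) : Prop :=
  (∀ x hx, (map f W).app m (h x hx) = (res K g).app m (M.α.app m x)) ∧
  (∀ x hx (hB : x ∈ M.B m), h x hx = (res L g).app m (M.s m x hB)) ∧ Cons M m T h

variable {M} in
lemma Good.res {m : ℕ} {W W' : C} {g : W ⟶ V} {T : Set (M.dom.obj m)}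
    {h : ∀ x, x ∈ T → (sec L W).obj m} (H : Good M m g T h) (g' : W' ⟶ W) :
    Good M m (g' ≫ g) T (fun x hx => (RelFill.res L g').app m (h x hx)) :=
  ⟨fun x hx => by rw [map_res, H.1, res_comp], fun x hx hB => by beta_reduce; rw [H.2.1 x hx hB, res_comp],
    cons_res M m g' T h H.2.2⟩

/-- The sieve of restrictions where lifts exist. -/
def extSieve (m : ℕ) (T : Set (M.dom.obj m)) : Sieve V where
  arrows W g := ∃ h : ∀ x, x ∈ T → (sec L W).obj m, Good M m g T h
  downward_closed := by
    rintro W W' g ⟨h, hh⟩ g'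
    exact ⟨_, hh.res g'⟩

/-- The sieve of restrictions where lifts in two adjacent degrees exist. -/
def extSieve₂ (m : ℕ) (T : Set (M.dom.obj (m + 1))) (T' : Set (M.dom.obj m))
    (hT : ∀ x ∈ T, ∀ j, M.dom.d j x ∈ T') : Sieve V where
  arrows W g := ∃ (h : ∀ x, x ∈ T → (sec L W).obj (m + 1)) (h' : ∀ x, x ∈ T' → (sec L W).obj m),
    Good M (m + 1) g T h ∧ Good M m g T' h' ∧
      ∀ x hx j, (sec L W).d j (h x hx) = h' (M.dom.d j x) (hT x hx j)
  downward_closed := by
    rintro W W' g ⟨h, h', hh, hh', hr⟩ g'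
    exact ⟨_, _, hh.res g', hh'.res g', fun x hx j => by rw [(RelFill.res L g').comm, hr]⟩

variable {J}

lemma iInf_mem {α : Type*} [Finite α] {V : C} (R : α → Sieve V) (h : ∀ a, R a ∈ J V) :
    ⨅ a, R a ∈ J V := by
  classical
  have := Fintype.ofFinite α
  have key : ∀ s : Finset α, (⨅ a ∈ s, R a) ∈ J V := by
    intro s
    induction s using Finset.induction_on with
    | empty => simp
    | insert a s ha ih =>
      rw [Finset.iInf_insert]
      exact J.intersection_covering (h a) ih
  simpa using key Finset.univ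

lemma extSieve₂_mem (hf : LTF J f) (m : ℕ) (T : Set (M.dom.obj (m + 1))) (hTf : T.Finite)
    (T' : Set (M.dom.obj m)) (hT : ∀ x ∈ T, ∀ j, M.dom.d j x ∈ T')
    (h : extSieve M m T' ∈ J V) : extSieve₂ M m T T' hT ∈ J V := by
  classical
  refine J.transitive h _ fun W g hg => ?_
  obtain ⟨h', hh'⟩ := hg
  let y : T → Fin (m + 2) → (sec L W).obj m := fun x j => h' (M.dom.d j x.1) (hT x.1 x.2 j)
  have hy : ∀ x, fillSieve f (y x) ((res K g).app _ (M.α.app _ x.1)) ∈ J W := by
    intro x
    refine hf.fill m W (y x) _ ?_ (fun j => by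
      simp only [y]
      rw [hh'.1, (res K g).comm, M.α.comm])
    cases m with
    | zero => trivial
    | succ m => exact fun i j hij => hh'.2.2 _ _ _ _ i j (M.dom.dd hij x.1)
  have := hTf.to_subtype
  refine J.superset_covering ?_
    (iInf_mem (fun x => fillSieve f (y x) ((res K g).app _ (M.α.app _ x.1))) hy)
  intro W' g' hg'
  have hg'' : ∀ x, ∃ z : (sec L W').obj (m + 1),
      (∀ j, (sec L W').d j z = (res L g').app m (y x j)) ∧
      (map f W').app (m + 1) z = (res K g').app _ ((res K g).app _ (M.α.app _ x.1)) := fun x =>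
    iInf_le (fun x => fillSieve f (y x) ((res K g).app _ (M.α.app _ x.1))) x _ hg'
  choose z hz hz' using hg''
  let hnew : ∀ x, x ∈ T → (sec L W').obj (m + 1) := fun x hx =>
    if hB : x ∈ M.B (m + 1) then (res L (g' ≫ g)).app _ (M.s _ x hB) else z ⟨x, hx⟩
  have hr : ∀ x hx j, (sec L W').d j (hnew x hx) =
      (res L g').app m (h' (M.dom.d j x) (hT x hx j)) := by
    intro x hx j
    simp only [hnew]
    split_ifs with hB
    · rw [(res L (g' ≫ g)).comm, M.s_d, hh'.2.1 _ _ (M.B_d m j x hB), res_comp]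
    · exact hz _ j
  refine ⟨hnew, _, ⟨fun x hx => ?_, fun x hx hB => by simp [hnew, hB],
    fun x hx y hy i j e => ?_⟩, hh'.res g', hr⟩
  · simp only [hnew]
    split_ifs with hB
    · rw [map_res, M.f_s]
    · rw [hz', res_comp]
  · rw [hr, hr]
    congr 2

lemma extSieve_mem (hf : LTF J f) : ∀ (m : ℕ) (T : Set (M.dom.obj m)), T.Finite →
    extSieve M m T ∈ J V := by
  intro m
  induction m with
  | succ m ih =>
    intro T hT
    refine J.superset_covering ?_ (extSieve₂_mem M hf m T hT (Set.image2 M.dom.d Set.univ T)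
      (fun x hx j => Set.mem_image2_of_mem (Set.mem_univ j) hx)
      (ih _ (Set.finite_univ.image2 _ hT)))
    rintro W g ⟨h, h', hh, -, -⟩
    exact ⟨h, hh⟩
  | zero =>
    intro T hT
    classical
    have := hT.to_subtype
    have := hf.vertex
    refine J.superset_covering ?_ (iInf_mem
      (fun x : T => Presheaf.imageSieve (f.app (op ⦋0⦌)) (U := V) (M.α.app 0 x.1))
      (fun x => Presheaf.imageSieve_mem J (f.app (op ⦋0⦌)) (U := op V) (M.α.app 0 x.1)))
    intro W g hg
    have hg' : ∀ x : T, ∃ p : (sec L W).obj 0,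
        (map f W).app 0 p = (res K g).app 0 (M.α.app 0 x.1) := fun x =>
      iInf_le (fun x : T => Presheaf.imageSieve (f.app (op ⦋0⦌)) (U := V) (M.α.app 0 x.1)) x _ hg
    choose p hp using hg'
    refine ⟨fun x hx => if hB : x ∈ M.B 0 then (res L g).app 0 (M.s 0 x hB) else p ⟨x, hx⟩,
      fun x hx => ?_, fun x hx hB => by simp [hB], trivial⟩
    beta_reduce
    split_ifs with hB
    · rw [map_res, M.f_s]
    · exact hp _

/-- The faces of consistent lifts form a function of the faces. -/
lemma Good.exists_faces {m : ℕ} {W : C} {g : W ⟶ V} {T : Set (M.dom.obj (m + 1))}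
    {h : ∀ x, x ∈ T → (sec L W).obj (m + 1)} (H : Good M (m + 1) g T h) :
    ∃ h' : ∀ x, x ∈ Set.image2 M.dom.d Set.univ T → (sec L W).obj m,
      ∀ x hx j, (sec L W).d j (h x hx) = h' (M.dom.d j x) (Set.mem_image2_of_mem (Set.mem_univ j) hx) := by
  choose i hi x hx hix using fun (z : M.dom.obj m) (hz : z ∈ Set.image2 M.dom.d Set.univ T) =>
    Set.mem_image2.1 hz
  refine ⟨fun z hz => (sec L W).d (i z hz) (h (x z hz) (hx z hz)), fun y hy j => ?_⟩
  exact H.2.2 _ _ _ _ _ _ (hix _ _).symm

open Classical in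
/-- Linear extension of a function given on a subset. -/
noncomputable def linExt {α β : Type u} {T : Set α} (h : ∀ x, x ∈ T → β) :
    FreeAbelianGroup α →+ FreeAbelianGroup β :=
  FreeAbelianGroup.lift fun x => if hx : x ∈ T then FreeAbelianGroup.of (h x hx) else 0

lemma linExt_of {α β : Type u} {T : Set α} (h : ∀ x, x ∈ T → β) {x : α} (hx : x ∈ T) :
    linExt h (FreeAbelianGroup.of x) = FreeAbelianGroup.of (h x hx) := by
  rw [linExt, FreeAbelianGroup.lift_apply_of, dif_pos hx]

lemma bd_linExt {m : ℕ} {W : C} {T : Set (M.dom.obj (m + 1))} {T' : Set (M.dom.obj m)}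
    {h : ∀ x, x ∈ T → (sec L W).obj (m + 1)} {h' : ∀ x, x ∈ T' → (sec L W).obj m}
    (hT : ∀ x ∈ T, ∀ j, M.dom.d j x ∈ T')
    (hr : ∀ x hx j, (sec L W).d j (h x hx) = h' (M.dom.d j x) (hT x hx j))
    {c : M.dom.F (m + 1)} (hc : c ∈ AddSubgroup.closure (FreeAbelianGroup.of '' T)) :
    (sec L W).bd (linExt h c) = linExt h' (M.dom.bd c) := by
  refine closure_ext (f := (sec L W).bd.comp (linExt h)) (g := (linExt h').comp M.dom.bd)
    (fun x hx => ?_) hc
  simp [linExt_of h hx, SS.bd_of, hr x hx, linExt_of h' (hT x hx _), map_sum]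

end Groth.Agent.HyperLib.RelFill
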