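import Groth.Agent.HyperLib.PathObj
import Groth.Agent.HyperLib.RelFill
import Groth.Agent.HyperLib.Points

/-!
The endpoints map of the path object of a hypercovering has relative fillers.
-/

set_option autoImplicit false

universe u

open CategoryTheory CategoryTheory.Limits Opposite Simplicial

namespace Groth.Agent.HyperLib.PathFill

open Points PathObj RelFill SemiSimp

variable {D : Type u} [SmallCategory D]

/-- The presheaf of points of a formal coproduct. -/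
def ptFunctor : FormalCoproduct.{u} D ⥤ (Dᵒᵖ ⥤ Type u) :=
  CategoryTheory.yoneda ⋙ (Functor.whiskeringLeft _ _ (Type u)).obj (FormalCoproduct.incl D).op

/-- The simplicial presheaf of points. -/
abbrev ptObj (L : SimplicialObject (FormalCoproduct.{u} D)) : SimplicialObject (Dᵒᵖ ⥤ Type u) :=
  L ⋙ ptFunctor

/-- The map to the point. -/
def toPoint (L : SimplicialObject (FormalCoproduct.{u} D)) :
    ptObj L ⟶ (Functor.const SimplexCategoryᵒᵖ).obj ((Functor.const Dᵒᵖ).obj PUnit.{u + 1}) where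
  app n := { app := fun V => ↾fun _ => PUnit.unit }

variable {J : GrothendieckTopology D} {L : SimplicialObject (FormalCoproduct.{u} D)}

/-- A hypercovering gives a local trivial fibration over the point. -/
theorem ltf (hL : HC L J) : LTF J (toPoint L) where
  vertex := ⟨fun {V} s => by
    refine J.superset_covering ?_ (hL.vertex V)
    rintro W g ⟨p⟩
    exact ⟨p, rfl⟩⟩
  fill n V y a hy _ := by
    refine J.superset_covering ?_ (hL.fill n V y ?_)
    · rintro W g ⟨u, hu⟩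
      exact ⟨u, hu, rfl⟩
    · intro m hm i j hij
      subst hm
      simp only [eqToHom_refl, Category.comp_id]
      exact hy i j hij

variable [HasFiniteLimits (FormalCoproduct.{u} D)] {n : ℕ} {W : D}
  (z : Fin (n + 2) → Pt W ((path L) _⦋n⦌)) (u v : Pt W (L _⦋n + 1⦌))

/-- The components of a boundary family. -/
noncomputable def zc (j : Fin (n + 2)) : Fin (n + 1) → Pt W (L _⦋n + 1⦌) := fun i => z j ≫ pπ L i

lemma rel_zc (j : Fin (n + 2)) : Rel L (zc z j) := (rel_pπ L n).precomp (z j)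

lemma zc_pull {k : ℕ} (j : Fin (n + 2)) (θ : ⦋k⦌ ⟶ ⦋n⦌) :
    pull (zc z j) θ = fun i => (z j ≫ (path L).map θ.op) ≫ pπ L i := by
  rw [show zc z j = fun i => z j ≫ pπ L i from rfl, pull_precomp]
  funext i
  rw [Category.assoc, path_map_π]
  rfl

/-- The prescribed values on the boundary of the prism. -/
def Val {k : ℕ} (ε : ⦋k⦌ ⟶ ⦋1⦌) (ρ : ⦋k⦌ ⟶ ⦋n + 1⦌) (x : Pt W (L _⦋k⦌)) : Prop :=
  (∃ (j : Fin (n + 2)) (ρ' : ⦋k⦌ ⟶ ⦋n⦌), ρ = ρ' ≫ SimplexCategory.δ j ∧ x = ev (zc z j) ε ρ') ∨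
    (ε = SimplexCategory.const _ _ 0 ∧ x = u ≫ L.map ρ.op) ∨
    (ε = SimplexCategory.const _ _ 1 ∧ x = v ≫ L.map ρ.op)

variable {z u v}

lemma Val.face {k : ℕ} (j : Fin (k + 2)) {ε : ⦋k + 1⦌ ⟶ ⦋1⦌} {ρ : ⦋k + 1⦌ ⟶ ⦋n + 1⦌}
    {x : Pt W (L _⦋k + 1⦌)} (hx : Val z u v ε ρ x) :
    Val z u v (SimplexCategory.δ j ≫ ε) (SimplexCategory.δ j ≫ ρ) (x ≫ L.δ j) := by
  rcases hx with ⟨i, ρ', rfl, rfl⟩ | ⟨rfl, rfl⟩ | ⟨rfl, rfl⟩
  · exact Or.inl ⟨i, SimplexCategory.δ j ≫ ρ', (Category.assoc _ _ _).symm,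
      (ev_comp (rel_zc z i) _ _ _).symm⟩
  · refine Or.inr (Or.inl ⟨hom_ext_val fun _ => rfl, ?_⟩)
    rw [op_comp, L.map_comp, ← Category.assoc]
    rfl
  · refine Or.inr (Or.inr ⟨hom_ext_val fun _ => rfl, ?_⟩)
    rw [op_comp, L.map_comp, ← Category.assoc]
    rfl

/-- The hypotheses on the boundary data. -/
structure Bdry (z : Fin (n + 2) → Pt W ((path L) _⦋n⦌)) (u v : Pt W (L _⦋n + 1⦌)) : Prop where
  compat : Points.Compat (path L) n z
  hu : ∀ j, u ≫ L.δ j = z j ≫ (bot L).app (op ⦋n⦌)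
  hv : ∀ j, v ≫ L.δ j = z j ≫ (top L).app (op ⦋n⦌)

lemma Bdry.face_eq (h : Bdry z u v) {k : ℕ} (i j : Fin (n + 2)) (ε : ⦋k⦌ ⟶ ⦋1⦌) (ρ ρ' : ⦋k⦌ ⟶ ⦋n⦌)
    (e : ρ ≫ SimplexCategory.δ i = ρ' ≫ SimplexCategory.δ j) :
    ev (zc z i) ε ρ = ev (zc z j) ε ρ' := by
  obtain ⟨a, ha⟩ := exists_valid ε (𝟙 ⦋k⦌)
  have hi := ev_pull (rel_zc z i) ρ ha
  have hj := ev_pull (rel_zc z j) ρ' ha
  rw [Category.id_comp] at hi hj
  rw [← hi, ← hj, zc_pull, zc_pull, h.compat.wd i j ρ ρ' e]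

lemma Bdry.bot_eq (h : Bdry z u v) {k : ℕ} (j : Fin (n + 2)) (ρ : ⦋k⦌ ⟶ ⦋n⦌) :
    u ≫ L.map (ρ ≫ SimplexCategory.δ j).op =
      ev (zc z j) (SimplexCategory.const _ _ 0) ρ := by
  let zero : ⦋k⦌ ⟶ ⦋1⦌ := SimplexCategory.const _ _ 0
  have hval : Valid zero ρ (Fin.last n) := fun l =>
    ⟨fun _ => Fin.le_last (ρ.toOrderHom l), fun h1 => absurd h1 (by simp [zero])⟩
  have hψ : ψ zero ρ = ρ ≫ SimplexCategory.δ (Fin.last (n + 1)) := hom_ext_val fun l => by
    rw [ψ_val, comp_val, δ_val]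
    have := (ρ.toOrderHom l).isLt
    simp [zero]
    exact Nat.lt_succ_iff.mp this
  rw [ev_eq (rel_zc z j) hval, hψ, op_comp, L.map_comp, ← Category.assoc, op_comp, L.map_comp,
    ← Category.assoc]
  congr 1
  exact (h.hu j).trans (Category.assoc _ _ _).symm

lemma Bdry.top_eq (h : Bdry z u v) {k : ℕ} (j : Fin (n + 2)) (ρ : ⦋k⦌ ⟶ ⦋n⦌) :
    v ≫ L.map (ρ ≫ SimplexCategory.δ j).op =
      ev (zc z j) (SimplexCategory.const _ _ 1) ρ := by
  let one : ⦋k⦌ ⟶ ⦋1⦌ := SimplexCategory.const _ _ 1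
  have hval : Valid one ρ 0 := fun l =>
    ⟨fun h0 => absurd h0 (by simp [one]), fun _ => Nat.zero_le _⟩
  have hψ : ψ one ρ = ρ ≫ SimplexCategory.δ 0 := hom_ext_val fun l => by
    rw [ψ_val, comp_val, δ_val]
    simp [one]
  rw [ev_eq (rel_zc z j) hval, hψ, op_comp, L.map_comp, ← Category.assoc, op_comp, L.map_comp,
    ← Category.assoc]
  congr 1
  exact (h.hv j).trans (Category.assoc _ _ _).symm

lemma Val.unique (h : Bdry z u v) {k : ℕ} {ε : ⦋k⦌ ⟶ ⦋1⦌} {ρ : ⦋k⦌ ⟶ ⦋n + 1⦌}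
    {x y : Pt W (L _⦋k⦌)} (hx : Val z u v ε ρ x) (hy : Val z u v ε ρ y) : x = y := by
  have hne : SimplexCategory.const ⦋k⦌ ⦋1⦌ 0 ≠ SimplexCategory.const ⦋k⦌ ⦋1⦌ 1 := fun e => by
    have := congrArg (fun φ : ⦋k⦌ ⟶ ⦋1⦌ => φ.toOrderHom 0) e
    simp at this
  rcases hx with ⟨i, ρ₁, h1, rfl⟩ | ⟨hε, rfl⟩ | ⟨hε, rfl⟩ <;>
    rcases hy with ⟨j, ρ₂, h2, rfl⟩ | ⟨hε', rfl⟩ | ⟨hε', rfl⟩
  · exact h.face_eq i j ε ρ₁ ρ₂ (h1.symm.trans h2)
  · subst hε'; rw [h1, h.bot_eq]
  · subst hε'; rw [h1, h.top_eq]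
  · subst hε; rw [h2, h.bot_eq]
  · rfl
  · exact absurd (hε.symm.trans hε') hne
  · subst hε; rw [h2, h.top_eq]
  · exact absurd (hε'.symm.trans hε) hne
  · rfl

/-- The chains in the prism. -/
def chains (n : ℕ) : SS.{u} where
  obj k := ULift.{u} ((⦋k⦌ ⟶ ⦋1⦌) × (⦋k⦌ ⟶ ⦋n + 1⦌))
  d j x := ⟨(SimplexCategory.δ j ≫ x.down.1, SimplexCategory.δ j ≫ x.down.2)⟩
  dd h x := by
    refine ULift.ext _ _ (Prod.ext ?_ ?_) <;>
    · dsimp only
      rw [← Category.assoc, ← Category.assoc, SimplexCategory.δ_comp_δ h]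

/-- The model of the prism with prescribed boundary. -/
noncomputable def prismModel (h : Bdry z u v) : Model (toPoint L) W where
  dom := chains n
  α := { app := fun _ _ => PUnit.unit, comm := fun _ _ _ => rfl }
  B k := {x | ∃ p, Val z u v x.down.1 x.down.2 p}
  s k x hx := hx.choose
  f_s _ _ _ := rfl
  B_d k j x hx := ⟨hx.choose ≫ L.δ j, hx.choose_spec.face j⟩
  s_d k j x hx := Val.unique h (hx.choose_spec.face j)
    (show (chains n).d j x ∈ {x : (chains n).obj k | ∃ p, Val z u v x.down.1 x.down.2 p} from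
      ⟨hx.choose ≫ L.δ j, hx.choose_spec.face j⟩).choose_spec

lemma ψ_ψ' {n : ℕ} (i : Fin (n + 1)) (j : Fin (n + 2)) :
    ψ (prismε i) (SimplexCategory.σ i ≫ SimplexCategory.δ j) ≫
      SimplexCategory.σ ((SimplexCategory.δ j).toOrderHom i) = SimplexCategory.σ i ≫ SimplexCategory.δ j :=
  hom_ext_val fun x => by
    simp only [comp_val, σ_val, ψ_val, prismε_val, δ_val]
    split_ifs <;> omega

lemma ψ_ε' {n : ℕ} (i : Fin (n + 1)) (j : Fin (n + 2)) :
    ψ (prismε i) (SimplexCategory.σ i ≫ SimplexCategory.δ j) ≫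
      prismε ((SimplexCategory.δ j).toOrderHom i) = prismε i :=
  hom_ext_val fun x => by
    simp only [comp_val, σ_val, ψ_val, prismε_val, δ_val]
    split_ifs <;> omega

/-- Boundary data on the prism extends locally. -/
theorem exists_fill (hL : HC L J) (h : Bdry z u v) :
    ∃ R ∈ J W, ∀ {W' : D} (g : W' ⟶ W), R g → ∃ y : Pt W' ((path L) _⦋n + 1⦌),
      y ≫ (bot L).app (op ⦋n + 1⦌) = Points.res g u ∧ y ≫ (top L).app (op ⦋n + 1⦌) = Points.res g v ∧
        ∀ j, y ≫ (path L).δ j = Points.res g (z j) := by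
  let M := prismModel h
  have hfin : ∀ k, Finite ((chains.{u} n).obj k) := fun k => by
    have : ∀ a b : ℕ, Finite (⦋a⦌ ⟶ ⦋b⦌) := fun a b =>
      Finite.of_injective (fun f => (f.toOrderHom : Fin (a + 1) → Fin (b + 1))) fun f f' e =>
        SimplexCategory.Hom.ext _ _ (OrderHom.ext _ _ e)
    exact Finite.of_equiv _ Equiv.ulift.symm
  have hall : ∀ x ∈ (Set.univ : Set (M.dom.obj (n + 2))), ∀ j, M.dom.d j x ∈
      (Set.univ : Set (M.dom.obj (n + 1))) := fun _ _ _ => trivial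
  refine ⟨_, extSieve₂_mem M (ltf hL) (n + 1) Set.univ
    (@Set.toFinite _ _ (@Subtype.finite _ (hfin _) _)) Set.univ hall
    (extSieve_mem M (ltf hL) (n + 1) _ (@Set.toFinite _ _ (@Subtype.finite _ (hfin _) _))), ?_⟩
  rintro W' g ⟨hN, hN', hg, hg', hr⟩
  let pr : Fin (n + 2) → M.dom.obj (n + 2) := fun i => ⟨(prismε i, SimplexCategory.σ i)⟩
  let w : Fin (n + 2) → Pt W' (L _⦋n + 2⦌) := fun i => hN (pr i) trivial
  have hwrel : Rel L w := fun i => by
    refine hg.2.2 (pr i.castSucc) trivial (pr i.succ) trivial i.succ.castSucc i.succ.castSucc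
      (ULift.ext _ _ (Prod.ext (hom_ext_val fun l => ?_) (hom_ext_val fun l => ?_)))
    · change ((SimplexCategory.δ i.succ.castSucc ≫ prismε i.castSucc).toOrderHom l : ℕ) =
        ((SimplexCategory.δ i.succ.castSucc ≫ prismε i.succ).toOrderHom l : ℕ)
      rw [comp_val, comp_val, prismε_val, prismε_val, δ_val]
      simp only [Fin.val_castSucc, Fin.val_succ]
      split_ifs <;> omega
    · change ((SimplexCategory.δ i.succ.castSucc ≫ SimplexCategory.σ i.castSucc).toOrderHom l : ℕ) =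
        ((SimplexCategory.δ i.succ.castSucc ≫ SimplexCategory.σ i.succ).toOrderHom l : ℕ)
      rw [comp_val, comp_val, σ_val, σ_val, δ_val]
      simp only [Fin.val_castSucc, Fin.val_succ]
      split_ifs <;> omega
  have key : ∀ (i l) (p : Pt W (L _⦋n + 1⦌)),
      Val z u v (SimplexCategory.δ l ≫ prismε i) (SimplexCategory.δ l ≫ SimplexCategory.σ i) p →
      w i ≫ L.δ l = Points.res g p := by
    intro i l p hp
    have hB : M.dom.d l (pr i) ∈ M.B (n + 1) := ⟨p, hp⟩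
    refine (hr (pr i) trivial l).trans ((hg'.2.1 _ _ hB).trans ?_)
    exact congrArg (Points.res g) (Val.unique h hB.choose_spec hp)
  refine ⟨plift w hwrel, ?_, ?_, fun j => pobj_ext fun i => ?_⟩
  · refine (Category.assoc _ _ _).symm.trans ((congrArg (· ≫ L.δ _) (plift_π w hwrel _)).trans ?_)
    refine key _ _ u (Or.inr (Or.inl ⟨hom_ext_val fun l => ?_, ?_⟩))
    · rw [comp_val, prismε_val, δ_val]
      have := l.isLt
      simp [show (l : ℕ) ≤ n + 1 by omega, show (l : ℕ) < n + 2 by omega]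
    · have : SimplexCategory.δ (Fin.last (n + 2)) ≫ SimplexCategory.σ (Fin.last (n + 1)) = 𝟙 _ :=
        SimplexCategory.δ_comp_σ_succ' (Fin.succ_last _).symm
      rw [this, op_id, L.map_id, Category.comp_id]
  · refine (Category.assoc _ _ _).symm.trans ((congrArg (· ≫ L.δ _) (plift_π w hwrel _)).trans ?_)
    refine key _ _ v (Or.inr (Or.inr ⟨hom_ext_val fun l => ?_, ?_⟩))
    · rw [comp_val, prismε_val, δ_val]
      simp
    · have : SimplexCategory.δ (0 : Fin (n + 3)) ≫ SimplexCategory.σ (0 : Fin (n + 2)) = 𝟙 _ :=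
        SimplexCategory.δ_comp_σ_self' (by rfl)
      rw [this, op_id, L.map_id, Category.comp_id]
  · have hv := valid_prism (SimplexCategory.δ j) i
    have hψ : ∃ l, ψ (prismε i) (SimplexCategory.σ i ≫ SimplexCategory.δ j) = SimplexCategory.δ l := by
      set φ := ψ (prismε i) (SimplexCategory.σ i ≫ SimplexCategory.δ j)
      have hinj : Function.Injective φ.toOrderHom := fun a b e => by
        have e' := congrArg Fin.val e
        simp only [φ, ψ_val, comp_val, prismε_val, δ_val, σ_val] at e'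
        refine Fin.ext ?_
        split_ifs at e' <;> omega
      obtain ⟨l, θ, hθ⟩ := SimplexCategory.eq_comp_δ_of_not_surjective φ fun hs => by
        have := Fintype.card_le_of_surjective _ hs
        simp at this
      have : Mono θ := SimplexCategory.mono_iff_injective.2 fun a b e => hinj (by
        rw [hθ]
        exact congrArg (SimplexCategory.δ l).toOrderHom e)
      exact ⟨l, by rw [hθ, SimplexCategory.eq_id_of_mono θ, Category.id_comp]⟩
    obtain ⟨l, hl⟩ := hψ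
    have hlhs : (plift w hwrel ≫ (path L).δ j) ≫ pπ L i =
        w ((SimplexCategory.δ j).toOrderHom i) ≫ L.δ l := by
      refine (Category.assoc _ _ _).trans ?_
      refine (congrArg (plift w hwrel ≫ ·) ((path_map_π L (SimplexCategory.δ j) i).trans
        (ev_eq (rel_pπ L (n + 1)) hv))).trans ?_
      rw [← Category.assoc, plift_π, hl]
      rfl
    refine hlhs.trans ((key _ _ (zc z j i) (Or.inl ⟨j, SimplexCategory.σ i, ?_, ?_⟩)).trans
      (Category.assoc _ _ _).symm)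
    · rw [← hl, ψ_ψ' i j]
    · rw [show SimplexCategory.δ l ≫ prismε _ = prismε i from
          (by rw [← hl, ψ_ε' i j]),
        ev_eq (rel_zc z j) (a := i) (by simpa using! valid_prism (𝟙 ⦋n⦌) i), ψ_prism, op_id,
        L.map_id, Category.comp_id]

end Groth.Agent.HyperLib.PathFill
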