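import Mathlib.AlgebraicTopology.SimplicialObject.Homotopy
import Mathlib.CategoryTheory.Limits.Shapes.FiniteLimits
import Mathlib.CategoryTheory.Limits.Shapes.Equalizers
import Mathlib.CategoryTheory.Limits.Shapes.Products
import Mathlib.Data.Fintype.Lattice

/-!
The path object of a simplicial object: families of simplices forming the prisms over `⦋m⦌`.
-/

set_option autoImplicit false

universe v u

open CategoryTheory CategoryTheory.Limits Opposite Simplicial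

namespace Groth.Agent.HyperLib.PathObj

/-- The map `l ↦ ρ l + ε l`. -/
def ψ {k m : ℕ} (ε : ⦋k⦌ ⟶ ⦋1⦌) (ρ : ⦋k⦌ ⟶ ⦋m⦌) : ⦋k⦌ ⟶ ⦋m + 1⦌ :=
  SimplexCategory.Hom.mk ⟨fun l => ⟨(ρ.toOrderHom l : ℕ) + (ε.toOrderHom l : ℕ), by
    have h1 : (ρ.toOrderHom l : ℕ) < m + 1 := (ρ.toOrderHom l).isLt
    have h2 : (ε.toOrderHom l : ℕ) < 2 := (ε.toOrderHom l).isLt
    change _ < m + 1 + 1
    omega⟩, fun a b hab => by
    have h1 : (ρ.toOrderHom a : ℕ) ≤ (ρ.toOrderHom b : ℕ) := ρ.toOrderHom.monotone hab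
    have h2 : (ε.toOrderHom a : ℕ) ≤ (ε.toOrderHom b : ℕ) := ε.toOrderHom.monotone hab
    change (ρ.toOrderHom a : ℕ) + (ε.toOrderHom a : ℕ) ≤ (ρ.toOrderHom b : ℕ) + (ε.toOrderHom b : ℕ)
    omega⟩

lemma ψ_val {k m : ℕ} (ε : ⦋k⦌ ⟶ ⦋1⦌) (ρ : ⦋k⦌ ⟶ ⦋m⦌) (l : Fin (k + 1)) :
    ((ψ ε ρ).toOrderHom l : ℕ) = (ρ.toOrderHom l : ℕ) + (ε.toOrderHom l : ℕ) := rfl

lemma comp_val {a b c : ℕ} (f : ⦋a⦌ ⟶ ⦋b⦌) (g : ⦋b⦌ ⟶ ⦋c⦌) (l : Fin (a + 1)) :
    ((f ≫ g).toOrderHom l : ℕ) = (g.toOrderHom (f.toOrderHom l) : ℕ) := rfl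

lemma hom_ext_val {a b : ℕ} {f g : ⦋a⦌ ⟶ ⦋b⦌}
    (h : ∀ l : Fin (a + 1), (f.toOrderHom l : ℕ) = (g.toOrderHom l : ℕ)) : f = g :=
  SimplexCategory.Hom.ext _ _ (OrderHom.ext _ _ (funext fun l => Fin.ext (h l)))

lemma δ_val {a : ℕ} (i : Fin (a + 2)) (l : Fin (a + 1)) :
    ((SimplexCategory.δ i).toOrderHom l : ℕ) = if (l : ℕ) < i then (l : ℕ) else (l : ℕ) + 1 := by
  change (Fin.succAbove i l : ℕ) = _
  unfold Fin.succAbove
  split_ifs with h1 h2 <;> simp_all [Fin.lt_def]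

lemma σ_val {a : ℕ} (i : Fin (a + 1)) (l : Fin (a + 2)) :
    ((SimplexCategory.σ i).toOrderHom l : ℕ) = if (i : ℕ) < l then (l : ℕ) - 1 else (l : ℕ) := by
  change (Fin.predAbove i l : ℕ) = _
  rcases le_or_gt l i.castSucc with h | h
  · rw [Fin.predAbove_of_le_castSucc _ _ h, if_neg (by simpa [Fin.le_def] using h)]
    rfl
  · rw [Fin.predAbove_of_castSucc_lt _ _ h, if_pos (by simpa [Fin.lt_def] using h)]
    rfl

lemma ψ_comp {k k' m : ℕ} (θ : ⦋k'⦌ ⟶ ⦋k⦌) (ε : ⦋k⦌ ⟶ ⦋1⦌) (ρ : ⦋k⦌ ⟶ ⦋m⦌) :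
    θ ≫ ψ ε ρ = ψ (θ ≫ ε) (θ ≫ ρ) :=
  hom_ext_val fun _ => rfl

/-- The prism containing a chain. -/
def Valid {k m : ℕ} (ε : ⦋k⦌ ⟶ ⦋1⦌) (ρ : ⦋k⦌ ⟶ ⦋m⦌) (a : Fin (m + 1)) : Prop :=
  ∀ l : Fin (k + 1), ((ε.toOrderHom l : ℕ) = 0 → (ρ.toOrderHom l : ℕ) ≤ a) ∧
    ((ε.toOrderHom l : ℕ) = 1 → (a : ℕ) ≤ (ρ.toOrderHom l : ℕ))

lemma exists_valid {k m : ℕ} (ε : ⦋k⦌ ⟶ ⦋1⦌) (ρ : ⦋k⦌ ⟶ ⦋m⦌) : ∃ a, Valid ε ρ a := by
  let r : Fin (k + 1) → Fin (m + 1) := fun l => if (ε.toOrderHom l : ℕ) = 0 then ρ.toOrderHom l else 0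
  refine ⟨Finset.univ.sup' Finset.univ_nonempty r, fun l => ⟨fun h => ?_, fun h => ?_⟩⟩
  · have : r l ≤ Finset.univ.sup' Finset.univ_nonempty r := Finset.le_sup' r (Finset.mem_univ l)
    simp only [r, if_pos h] at this
    exact this
  · have : Finset.univ.sup' Finset.univ_nonempty r ≤ (⟨(ρ.toOrderHom l : ℕ), (ρ.toOrderHom l).isLt⟩ : Fin (m + 1)) := by
      refine Finset.sup'_le _ _ fun l' _ => ?_
      by_cases h' : (ε.toOrderHom l' : ℕ) = 0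
      · rw [show r l' = ρ.toOrderHom l' from if_pos h']
        rcases le_or_gt l' l with hl | hl
        · exact ρ.toOrderHom.monotone hl
        · have : (ε.toOrderHom l : ℕ) ≤ (ε.toOrderHom l' : ℕ) := ε.toOrderHom.monotone hl.le
          omega
      · rw [show r l' = 0 from if_neg h']
        exact Fin.zero_le _
    exact this

/-- The prism `i`: first coordinate. -/
def prismε {m : ℕ} (i : Fin (m + 1)) : ⦋m + 1⦌ ⟶ ⦋1⦌ :=
  SimplexCategory.Hom.mk ⟨fun l => if (l : ℕ) ≤ (i : ℕ) then 0 else 1, fun a b hab => by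
    have : (a : ℕ) ≤ (b : ℕ) := hab
    dsimp only
    split_ifs <;> simp [Fin.le_def] <;> omega⟩

lemma prismε_val {m : ℕ} (i : Fin (m + 1)) (l : Fin (m + 2)) :
    ((prismε i).toOrderHom l : ℕ) = if (l : ℕ) ≤ (i : ℕ) then 0 else 1 := by
  change ((if (l : ℕ) ≤ (i : ℕ) then (0 : Fin 2) else 1 : Fin 2) : ℕ) = _
  split_ifs <;> rfl

lemma ψ_prism {m : ℕ} (i : Fin (m + 1)) : ψ (prismε i) (SimplexCategory.σ i) = 𝟙 _ :=
  hom_ext_val fun l => by
    rw [ψ_val, prismε_val, σ_val]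
    change _ = (l : ℕ)
    split_ifs <;> omega

lemma valid_prism {k m : ℕ} (θ : ⦋k⦌ ⟶ ⦋m⦌) (i : Fin (k + 1)) :
    Valid (prismε i) (SimplexCategory.σ i ≫ θ) (θ.toOrderHom i) := by
  intro l
  rw [prismε_val, comp_val]
  refine ⟨fun h => ?_, fun h => ?_⟩
  · refine θ.toOrderHom.monotone (Fin.le_def.2 ?_)
    rw [σ_val]
    split_ifs at h ⊢ <;> omega
  · refine θ.toOrderHom.monotone (Fin.le_def.2 ?_)
    rw [σ_val]
    split_ifs at h ⊢ <;> omega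

lemma ψ_ψ {k m m' : ℕ} {ε : ⦋k⦌ ⟶ ⦋1⦌} {ρ : ⦋k⦌ ⟶ ⦋m⦌} {a : Fin (m + 1)} (ha : Valid ε ρ a)
    (θ : ⦋m⦌ ⟶ ⦋m'⦌) :
    ψ ε ρ ≫ ψ (prismε a) (SimplexCategory.σ a ≫ θ) = ψ ε (ρ ≫ θ) := by
  refine hom_ext_val fun l => ?_
  obtain ⟨h0, h1⟩ := ha l
  have hε : (ε.toOrderHom l : ℕ) < 2 := (ε.toOrderHom l).isLt
  have hp : (SimplexCategory.σ a).toOrderHom ((ψ ε ρ).toOrderHom l) = ρ.toOrderHom l := by
    refine Fin.ext ?_
    rw [σ_val, ψ_val]
    split_ifs <;> omega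
  rw [comp_val, ψ_val, ψ_val, comp_val, comp_val, prismε_val, ψ_val, hp]
  split_ifs <;> omega

variable {E : Type u} [Category.{v} E] (L : SimplicialObject E)

/-- A family of prisms. -/
def Rel {T : E} {m : ℕ} (h : Fin (m + 1) → (T ⟶ L _⦋m + 1⦌)) : Prop :=
  ∀ i : Fin m, h i.castSucc ≫ L.δ i.succ.castSucc = h i.succ ≫ L.δ i.succ.castSucc

variable {L}

lemma agree {T : E} {m : ℕ} {h : Fin (m + 1) → (T ⟶ L _⦋m + 1⦌)} (hh : Rel L h) :
    ∀ (d : ℕ) (a b : Fin (m + 1)), (b : ℕ) = a + d → ∀ {k : ℕ} (φ : ⦋k⦌ ⟶ ⦋m + 1⦌),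
      (∀ l, (φ.toOrderHom l : ℕ) ≤ a ∨ (b : ℕ) < (φ.toOrderHom l : ℕ)) →
      h a ≫ L.map φ.op = h b ≫ L.map φ.op := by
  intro d
  induction d with
  | zero =>
    intro a b hab k φ _
    rw [Fin.ext (show (b : ℕ) = a by omega)]
  | succ d ih =>
    intro a b hab k φ hφ
    obtain ⟨b', rfl⟩ := Fin.eq_succ_of_ne_zero (i := b) (by rintro rfl; simp at hab)
    simp only [Fin.val_succ] at hab hφ
    rw [ih a b'.castSucc (by simp; omega) φ (fun l => (hφ l).imp id (fun h' => by simp; omega))]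
    obtain ⟨ρ, rfl⟩ := SimplexCategory.eq_comp_δ_of_not_surjective' φ b'.succ.castSucc (fun l hl => by
      have := congrArg Fin.val hl
      simp only [Fin.val_castSucc, Fin.val_succ] at this
      have hb := hφ l
      omega)
    rw [op_comp, L.map_comp, ← Category.assoc, ← Category.assoc]
    exact congrArg (· ≫ _) (hh b')

lemma agree_valid {T : E} {m : ℕ} {h : Fin (m + 1) → (T ⟶ L _⦋m + 1⦌)} (hh : Rel L h) {k : ℕ}
    {ε : ⦋k⦌ ⟶ ⦋1⦌} {ρ : ⦋k⦌ ⟶ ⦋m⦌} {a b : Fin (m + 1)} (ha : Valid ε ρ a) (hb : Valid ε ρ b) :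
    h a ≫ L.map (ψ ε ρ).op = h b ≫ L.map (ψ ε ρ).op := by
  have key : ∀ {a b : Fin (m + 1)}, Valid ε ρ a → Valid ε ρ b → (a : ℕ) ≤ b →
      h a ≫ L.map (ψ ε ρ).op = h b ≫ L.map (ψ ε ρ).op := by
    intro a b ha hb hab
    refine agree hh (b - a) a b (by omega) _ fun l => ?_
    rw [ψ_val]
    have := ha l
    have := hb l
    have hε : (ε.toOrderHom l : ℕ) < 2 := (ε.toOrderHom l).isLt
    omega
  rcases le_total (a : ℕ) b with hab | hab
  · exact key ha hb hab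
  · exact (key hb ha hab).symm

/-- The value of a family on a chain in the prism. -/
noncomputable def ev {T : E} {m : ℕ} (h : Fin (m + 1) → (T ⟶ L _⦋m + 1⦌)) {k : ℕ}
    (ε : ⦋k⦌ ⟶ ⦋1⦌) (ρ : ⦋k⦌ ⟶ ⦋m⦌) : T ⟶ L _⦋k⦌ :=
  h (exists_valid ε ρ).choose ≫ L.map (ψ ε ρ).op

lemma ev_eq {T : E} {m : ℕ} {h : Fin (m + 1) → (T ⟶ L _⦋m + 1⦌)} (hh : Rel L h) {k : ℕ}
    {ε : ⦋k⦌ ⟶ ⦋1⦌} {ρ : ⦋k⦌ ⟶ ⦋m⦌} {a : Fin (m + 1)} (ha : Valid ε ρ a) :
    ev h ε ρ = h a ≫ L.map (ψ ε ρ).op :=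
  agree_valid hh (exists_valid ε ρ).choose_spec ha

lemma ev_comp {T : E} {m : ℕ} {h : Fin (m + 1) → (T ⟶ L _⦋m + 1⦌)} (hh : Rel L h) {k k' : ℕ}
    (θ : ⦋k'⦌ ⟶ ⦋k⦌) (ε : ⦋k⦌ ⟶ ⦋1⦌) (ρ : ⦋k⦌ ⟶ ⦋m⦌) :
    ev h (θ ≫ ε) (θ ≫ ρ) = ev h ε ρ ≫ L.map θ.op := by
  obtain ⟨a, ha⟩ := exists_valid ε ρ
  rw [ev_eq hh ha, ev_eq hh (a := a) (fun l => ha (θ.toOrderHom l)), Category.assoc, ← L.map_comp,
    ← op_comp, ψ_comp]

/-- Pullback of a family along an operator. -/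
noncomputable def pull {T : E} {m k : ℕ} (h : Fin (m + 1) → (T ⟶ L _⦋m + 1⦌)) (θ : ⦋k⦌ ⟶ ⦋m⦌) :
    Fin (k + 1) → (T ⟶ L _⦋k + 1⦌) := fun i => ev h (prismε i) (SimplexCategory.σ i ≫ θ)

lemma ev_pull {T : E} {m k : ℕ} {h : Fin (m + 1) → (T ⟶ L _⦋m + 1⦌)} (hh : Rel L h)
    (θ : ⦋k⦌ ⟶ ⦋m⦌) {l : ℕ} {ε : ⦋l⦌ ⟶ ⦋1⦌} {ρ : ⦋l⦌ ⟶ ⦋k⦌} {a : Fin (k + 1)} (ha : Valid ε ρ a) :
    pull h θ a ≫ L.map (ψ ε ρ).op = ev h ε (ρ ≫ θ) := by
  have hv : Valid ε (ρ ≫ θ) (θ.toOrderHom a) := fun i =>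
    ⟨fun h0 => θ.toOrderHom.monotone (Fin.le_def.2 ((ha i).1 h0)),
      fun h1 => θ.toOrderHom.monotone (Fin.le_def.2 ((ha i).2 h1))⟩
  rw [pull, ev_eq hh (valid_prism θ a), ev_eq hh hv, Category.assoc, ← L.map_comp, ← op_comp,
    ψ_ψ ha]

lemma rel_pull {T : E} {m k : ℕ} {h : Fin (m + 1) → (T ⟶ L _⦋m + 1⦌)} (hh : Rel L h)
    (θ : ⦋k⦌ ⟶ ⦋m⦌) : Rel L (pull h θ) := by
  intro i
  have h1 : SimplexCategory.δ i.succ.castSucc ≫ prismε i.castSucc =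
      SimplexCategory.δ i.succ.castSucc ≫ prismε i.succ := hom_ext_val fun l => by
    rw [comp_val, comp_val, prismε_val, prismε_val, δ_val]
    simp only [Fin.val_castSucc, Fin.val_succ]
    split_ifs <;> omega
  have h2 : SimplexCategory.δ i.succ.castSucc ≫ SimplexCategory.σ i.castSucc =
      SimplexCategory.δ i.succ.castSucc ≫ SimplexCategory.σ i.succ := hom_ext_val fun l => by
    rw [comp_val, comp_val, σ_val, σ_val, δ_val]
    simp only [Fin.val_castSucc, Fin.val_succ]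
    split_ifs <;> omega
  change ev h _ _ ≫ L.map (SimplexCategory.δ i.succ.castSucc).op =
    ev h _ _ ≫ L.map (SimplexCategory.δ i.succ.castSucc).op
  rw [← ev_comp hh, ← ev_comp hh, h1, ← Category.assoc, h2, Category.assoc]

lemma pull_comp {T : E} {m k l : ℕ} {h : Fin (m + 1) → (T ⟶ L _⦋m + 1⦌)} (hh : Rel L h)
    (θ : ⦋k⦌ ⟶ ⦋m⦌) (θ' : ⦋l⦌ ⟶ ⦋k⦌) : pull (pull h θ) θ' = pull h (θ' ≫ θ) := by
  funext i
  rw [pull, ev_eq (rel_pull hh θ) (valid_prism θ' i), ev_pull hh θ (valid_prism θ' i), pull,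
    Category.assoc]

lemma pull_id {T : E} {m : ℕ} {h : Fin (m + 1) → (T ⟶ L _⦋m + 1⦌)} (hh : Rel L h) :
    pull h (𝟙 _) = h := by
  funext i
  rw [pull, Category.comp_id, ev_eq hh (a := i) (by simpa using! valid_prism (𝟙 ⦋m⦌) i), ψ_prism,
    op_id, L.map_id, Category.comp_id]

lemma ev_precomp {T T' : E} (g : T' ⟶ T) {m : ℕ} (h : Fin (m + 1) → (T ⟶ L _⦋m + 1⦌)) {k : ℕ}
    (ε : ⦋k⦌ ⟶ ⦋1⦌) (ρ : ⦋k⦌ ⟶ ⦋m⦌) :
    ev (fun i => g ≫ h i) ε ρ = g ≫ ev h ε ρ :=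
  Category.assoc _ _ _

lemma Rel.precomp {T T' : E} (g : T' ⟶ T) {m : ℕ} {h : Fin (m + 1) → (T ⟶ L _⦋m + 1⦌)}
    (hh : Rel L h) : Rel L fun i => g ≫ h i := fun i => by
  rw [Category.assoc, Category.assoc, hh i]

section Obj

variable [HasFiniteLimits E] (L)

/-- The first map. -/
noncomputable abbrev eqL (m : ℕ) :
    (∏ᶜ fun _ : Fin (m + 1) => L _⦋m + 1⦌) ⟶ ∏ᶜ fun _ : Fin m => L _⦋m⦌ :=
  Pi.lift fun i => Pi.π (fun _ : Fin (m + 1) => L _⦋m + 1⦌) i.castSucc ≫ L.δ i.succ.castSucc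

/-- The second map. -/
noncomputable abbrev eqR (m : ℕ) :
    (∏ᶜ fun _ : Fin (m + 1) => L _⦋m + 1⦌) ⟶ ∏ᶜ fun _ : Fin m => L _⦋m⦌ :=
  Pi.lift fun i => Pi.π (fun _ : Fin (m + 1) => L _⦋m + 1⦌) i.succ ≫ L.δ i.succ.castSucc

/-- The object of families of prisms. -/
noncomputable abbrev pobj (m : ℕ) : E := equalizer (eqL L m) (eqR L m)

/-- The prisms. -/
noncomputable def pπ {m : ℕ} (i : Fin (m + 1)) : pobj L m ⟶ L _⦋m + 1⦌ :=
  equalizer.ι (eqL L m) (eqR L m) ≫ Pi.π _ i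

lemma rel_pπ (m : ℕ) : Rel L fun i : Fin (m + 1) => pπ L i := fun i => by
  simpa [pπ, Category.assoc] using
    congrArg (· ≫ Pi.π (fun _ : Fin m => L _⦋m⦌) i) (equalizer.condition (eqL L m) (eqR L m))

variable {L}

/-- Morphisms to the object of families. -/
noncomputable def plift {T : E} {m : ℕ} (h : Fin (m + 1) → (T ⟶ L _⦋m + 1⦌)) (hh : Rel L h) :
    T ⟶ pobj L m :=
  equalizer.lift (Pi.lift h) (Pi.hom_ext _ _ fun i => by simpa using hh i)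

lemma plift_π {T : E} {m : ℕ} (h : Fin (m + 1) → (T ⟶ L _⦋m + 1⦌)) (hh : Rel L h)
    (i : Fin (m + 1)) : plift h hh ≫ pπ L i = h i := by
  simp [plift, pπ]

lemma pobj_ext {T : E} {m : ℕ} {g g' : T ⟶ pobj L m} (h : ∀ i, g ≫ pπ L i = g' ≫ pπ L i) :
    g = g' :=
  equalizer.hom_ext (Pi.hom_ext _ _ fun i => by simpa [pπ, Category.assoc] using h i)

lemma pull_precomp {T T' : E} (g : T' ⟶ T) {m k : ℕ} (h : Fin (m + 1) → (T ⟶ L _⦋m + 1⦌))
    (θ : ⦋k⦌ ⟶ ⦋m⦌) : pull (fun i => g ≫ h i) θ = fun i => g ≫ pull h θ i :=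
  funext fun _ => ev_precomp g h _ _

variable (L)

/-- The path object. -/
noncomputable def path : SimplicialObject E where
  obj a := pobj L a.unop.len
  map {a b} θ := plift (pull (fun i => pπ L i) θ.unop) (rel_pull (rel_pπ L _) _)
  map_id a := pobj_ext fun i => by
    rw [plift_π, Category.id_comp]
    exact congrFun (pull_id (rel_pπ L _)) i
  map_comp {a b c} θ θ' := pobj_ext fun i => by
    rw [plift_π, Category.assoc, plift_π]
    refine (congrFun (pull_comp (rel_pπ L _) θ.unop θ'.unop) i).symm.trans ?_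
    have h : (fun j => plift (pull (fun i => pπ L i) θ.unop) (rel_pull (rel_pπ L _) _) ≫ pπ L j) =
        pull (fun i => pπ L i) θ.unop := funext fun j => plift_π _ _ j
    exact (congrArg (fun w => pull w θ'.unop i) h.symm).trans (congrFun (pull_precomp _ _ _) i)

lemma path_map_π {m k : ℕ} (θ : ⦋k⦌ ⟶ ⦋m⦌) (i : Fin (k + 1)) :
    (path L).map θ.op ≫ pπ L i = pull (fun j : Fin (m + 1) => pπ L j) θ i :=
  plift_π (pull (fun j : Fin (m + 1) => pπ L j) θ) (rel_pull (rel_pπ L m) θ) i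

lemma pull_top {T : E} {m k : ℕ} {h : Fin (m + 1) → (T ⟶ L _⦋m + 1⦌)} (hh : Rel L h)
    (θ : ⦋k⦌ ⟶ ⦋m⦌) :
    pull h θ 0 ≫ L.δ 0 = h 0 ≫ L.δ 0 ≫ L.map θ.op := by
  let one : ⦋k⦌ ⟶ ⦋1⦌ := SimplexCategory.const _ _ 1
  have hv : Valid one θ 0 := fun l => ⟨fun h0 => absurd h0 (by simp [one]), fun _ => Nat.zero_le _⟩
  have hψ : ψ one θ = θ ≫ SimplexCategory.δ 0 := hom_ext_val fun l => by
    rw [ψ_val, comp_val, δ_val]
    simp [one]
  have hv0 : Valid one (𝟙 ⦋k⦌) 0 := fun l => ⟨fun h0 => absurd h0 (by simp [one]), fun _ => Nat.zero_le _⟩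
  have hψ0 : ψ one (𝟙 ⦋k⦌) = SimplexCategory.δ 0 := hom_ext_val fun l => by
    rw [ψ_val, δ_val]
    simp [one]
  have := ev_pull hh θ hv0
  rw [hψ0, Category.id_comp, ev_eq hh hv, hψ, op_comp, L.map_comp] at this
  exact this

lemma pull_bot {T : E} {m k : ℕ} {h : Fin (m + 1) → (T ⟶ L _⦋m + 1⦌)} (hh : Rel L h)
    (θ : ⦋k⦌ ⟶ ⦋m⦌) :
    pull h θ (Fin.last k) ≫ L.δ (Fin.last (k + 1)) =
      h (Fin.last m) ≫ L.δ (Fin.last (m + 1)) ≫ L.map θ.op := by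
  let zero : ⦋k⦌ ⟶ ⦋1⦌ := SimplexCategory.const _ _ 0
  have hv : Valid zero θ (Fin.last m) := fun l =>
    ⟨fun _ => Fin.le_last (θ.toOrderHom l), fun h1 => absurd h1 (by simp [zero])⟩
  have hψ : ψ zero θ = θ ≫ SimplexCategory.δ (Fin.last (m + 1)) := hom_ext_val fun l => by
    rw [ψ_val, comp_val, δ_val]
    have := (θ.toOrderHom l).isLt
    simp [zero]
  have hv0 : Valid zero (𝟙 ⦋k⦌) (Fin.last k) := fun l =>
    ⟨fun _ => Fin.le_last _, fun h1 => absurd h1 (by simp [zero])⟩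
  have hψ0 : ψ zero (𝟙 ⦋k⦌) = SimplexCategory.δ (Fin.last (k + 1)) := hom_ext_val fun l => by
    rw [ψ_val, δ_val]
    have := l.isLt
    simp [zero]
  have := ev_pull hh θ hv0
  rw [hψ0, Category.id_comp, ev_eq hh hv, hψ, op_comp, L.map_comp] at this
  exact this

/-- The bottom endpoint. -/
noncomputable def bot : path L ⟶ L where
  app a := pπ L (Fin.last a.unop.len) ≫ L.δ (Fin.last _)
  naturality a b θ := by
    change plift (pull (fun i => pπ L i) θ.unop) (rel_pull (rel_pπ L _) _) ≫ pπ L _ ≫ _ = _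
    rw [← Category.assoc, plift_π (pull (fun i => pπ L i) θ.unop) (rel_pull (rel_pπ L _) _)]
    exact (pull_bot L (rel_pπ L _) θ.unop).trans (Category.assoc _ _ _).symm

/-- The top endpoint. -/
noncomputable def top : path L ⟶ L where
  app a := pπ L (0 : Fin (a.unop.len + 1)) ≫ L.δ 0
  naturality a b θ := by
    change plift (pull (fun i => pπ L i) θ.unop) (rel_pull (rel_pπ L _) _) ≫ pπ L _ ≫ _ = _
    rw [← Category.assoc, plift_π (pull (fun i => pπ L i) θ.unop) (rel_pull (rel_pπ L _) _)]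
    exact (pull_top L (rel_pπ L _) θ.unop).trans (Category.assoc _ _ _).symm

variable {L}

/-- A morphism to the path object gives a homotopy of its endpoints. -/
noncomputable def homotopy {M : SimplicialObject E} (c : M ⟶ path L) :
    SimplicialObject.Homotopy (c ≫ bot L) (c ≫ top L) := by
  have nat : ∀ {n k : ℕ} (θ : ⦋k⦌ ⟶ ⦋n⦌) (i : Fin (k + 1)),
      M.map θ.op ≫ c.app (op ⦋k⦌) ≫ pπ L i =
        (c.app (op ⦋n⦌) ≫ pπ L (θ.toOrderHom i)) ≫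
          L.map (ψ (prismε i) (SimplexCategory.σ i ≫ θ)).op := by
    intro n k θ i
    rw [← Category.assoc, c.naturality, Category.assoc, path_map_π, pull,
      ev_eq (rel_pπ L n) (valid_prism θ i), Category.assoc]
    rfl
  refine
    { h := fun {n} i => c.app (op ⦋n⦌) ≫ pπ L i
      h_zero_comp_δ_zero := fun n => Category.assoc _ _ _
      h_last_comp_δ_last := fun n => Category.assoc _ _ _
      h_succ_comp_δ_castSucc_succ := fun j => ?_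
      h_succ_comp_δ_castSucc_of_lt := fun {n} i j hij => ?_
      h_castSucc_comp_δ_succ_of_lt := fun {n} i j hji => ?_
      h_comp_σ_castSucc_of_le := fun {n} i j hij => ?_
      h_comp_σ_succ_of_lt := fun {n} i j hji => ?_ }
  · change _ = M.map (SimplexCategory.δ i).op ≫ _
    rw [nat]
    have h1 : (SimplexCategory.δ i).toOrderHom j = j.succ := Fin.ext (by
      rw [δ_val]
      simp only [Fin.le_def, Fin.val_castSucc] at hij
      simp only [Fin.val_succ]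
      split_ifs <;> omega)
    have h2 : ψ (prismε j) (SimplexCategory.σ j ≫ SimplexCategory.δ i) =
        SimplexCategory.δ i.castSucc := hom_ext_val fun l => by
      simp only [Fin.le_def, Fin.val_castSucc] at hij
      rw [ψ_val, prismε_val, comp_val, δ_val, σ_val, δ_val]
      simp only [Fin.val_castSucc]
      split_ifs <;> omega
    rw [h1, h2]
    rfl
  · rw [Category.assoc, Category.assoc, Fin.succ_castSucc]
    exact congrArg (_ ≫ ·) (rel_pπ L _ j).symm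
  · change _ = M.map (SimplexCategory.δ i).op ≫ _
    rw [nat]
    have h1 : (SimplexCategory.δ i).toOrderHom j = j.castSucc := Fin.ext (by
      rw [δ_val]
      simp only [Fin.lt_def, Fin.val_castSucc] at hji
      simp only [Fin.val_castSucc]
      split_ifs <;> omega)
    have h2 : ψ (prismε j) (SimplexCategory.σ j ≫ SimplexCategory.δ i) =
        SimplexCategory.δ i.succ := hom_ext_val fun l => by
      simp only [Fin.lt_def, Fin.val_castSucc] at hji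
      rw [ψ_val, prismε_val, comp_val, δ_val, σ_val, δ_val]
      simp only [Fin.val_succ]
      split_ifs <;> omega
    rw [h1, h2]
    rfl
  · change _ = M.map (SimplexCategory.σ i).op ≫ _
    rw [nat]
    have h1 : (SimplexCategory.σ i).toOrderHom j.succ = j := Fin.ext (by
      rw [σ_val]
      simp only [Fin.le_def] at hij
      simp only [Fin.val_succ]
      split_ifs <;> omega)
    have h2 : ψ (prismε j.succ) (SimplexCategory.σ j.succ ≫ SimplexCategory.σ i) =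
        SimplexCategory.σ i.castSucc := hom_ext_val fun l => by
      simp only [Fin.le_def] at hij
      rw [ψ_val, prismε_val, comp_val, σ_val, σ_val, σ_val]
      simp only [Fin.val_succ, Fin.val_castSucc]
      split_ifs <;> omega
    rw [h1, h2]
    rfl
  · change _ = M.map (SimplexCategory.σ i).op ≫ _
    rw [nat]
    have h1 : (SimplexCategory.σ i).toOrderHom j.castSucc = j := Fin.ext (by
      rw [σ_val]
      simp only [Fin.le_def] at hji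
      simp only [Fin.val_castSucc]
      split_ifs <;> omega)
    have h2 : ψ (prismε j.castSucc) (SimplexCategory.σ j.castSucc ≫ SimplexCategory.σ i) =
        SimplexCategory.σ i.succ := hom_ext_val fun l => by
      simp only [Fin.le_def] at hji
      rw [ψ_val, prismε_val, comp_val, σ_val, σ_val, σ_val]
      simp only [Fin.val_succ, Fin.val_castSucc]
      split_ifs <;> omega
    rw [h1, h2]
    rfl

end Obj

end Groth.Agent.HyperLib.PathObj
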