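import Groth.Agent.HyperLib.Points
import Mathlib.CategoryTheory.Limits.Constructions.LimitsOfProductsAndEqualizers
import Mathlib.CategoryTheory.Limits.Shapes.Pullback.IsPullback.Defs
import Mathlib.CategoryTheory.Limits.FunctorCategory.Shapes.Pullbacks

/-!
Refinement of hypercoverings along a covering of one of their terms.
-/

set_option autoImplicit false

universe u

open CategoryTheory CategoryTheory.Limits Opposite Simplicial
open Groth.Agent.HyperLib.Points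

namespace Groth.Agent.HyperLib.Refine

variable {D : Type u} [SmallCategory D]

theorem hasFiniteLimits_formalCoproduct [HasTerminal D] [HasPullbacks D] :
    HasFiniteLimits (FormalCoproduct.{u} D) :=
  hasFiniteLimits_of_hasTerminal_and_pullbacks

variable [HasFiniteProducts (FormalCoproduct.{u} D)] {n : ℕ}

/-- The right adjoint of evaluation in degree `n`. -/
noncomputable def R (n : ℕ) (Z : FormalCoproduct.{u} D) : SimplicialObject (FormalCoproduct.{u} D) where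
  obj a := ∏ᶜ fun _ : ⦋n⦌ ⟶ a.unop => Z
  map {a b} ψ := Pi.lift fun φ => Pi.π (fun _ : ⦋n⦌ ⟶ a.unop => Z) (φ ≫ ψ.unop)
  map_id a := Pi.hom_ext _ _ fun φ => by simp
  map_comp ψ ψ' := Pi.hom_ext _ _ fun φ => by simp

/-- The component of `R` at a map. -/
noncomputable abbrev π (Z : FormalCoproduct.{u} D) {a : SimplexCategoryᵒᵖ} (φ : ⦋n⦌ ⟶ a.unop) :
    (R n Z).obj a ⟶ Z :=
  Pi.π (fun _ : ⦋n⦌ ⟶ a.unop => Z) φ

lemma R_map_π (Z : FormalCoproduct.{u} D) {a b : SimplexCategoryᵒᵖ} (ψ : a ⟶ b) (φ : ⦋n⦌ ⟶ b.unop) :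
    (R n Z).map ψ ≫ π Z φ = π Z (φ ≫ ψ.unop) :=
  Pi.lift_π _ _

/-- Functoriality of `R`. -/
noncomputable def RMap {Z Z' : FormalCoproduct.{u} D} (u : Z ⟶ Z') : R n Z ⟶ R n Z' where
  app a := Pi.lift fun φ => π Z φ ≫ u
  naturality a b ψ := Pi.hom_ext _ _ fun φ => by
    simp only [R, Category.assoc, Pi.lift_π, Pi.lift_π_assoc]

/-- The unit. -/
noncomputable def toR (K : SimplicialObject (FormalCoproduct.{u} D)) (n : ℕ) : K ⟶ R n (K _⦋n⦌) where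
  app a := Pi.lift fun φ : ⦋n⦌ ⟶ a.unop => K.map φ.op
  naturality a b ψ := Pi.hom_ext _ _ fun φ => by
    simp only [R, Category.assoc, Pi.lift_π]
    rw [← K.map_comp]
    rfl

lemma RMap_π {Z Z' : FormalCoproduct.{u} D} (u : Z ⟶ Z') {a : SimplexCategoryᵒᵖ} (φ : ⦋n⦌ ⟶ a.unop) :
    (RMap u).app a ≫ π Z' φ = π Z φ ≫ u := Pi.lift_π _ _

lemma toR_π (K : SimplicialObject (FormalCoproduct.{u} D)) {a : SimplexCategoryᵒᵖ} (φ : ⦋n⦌ ⟶ a.unop) :
    (toR K n).app a ≫ π (K _⦋n⦌) φ = K.map φ.op := Pi.lift_π _ _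

lemma R_hom_ext {T Z : FormalCoproduct.{u} D} {a : SimplexCategoryᵒᵖ} {c c' : T ⟶ (R n Z).obj a}
    (h : ∀ φ, c ≫ π Z φ = c' ≫ π Z φ) : c = c' :=
  Pi.hom_ext _ _ h

/-- Lifting to `R`. -/
noncomputable def liftR {T Z : FormalCoproduct.{u} D} {a : SimplexCategoryᵒᵖ}
    (ζ : (⦋n⦌ ⟶ a.unop) → (T ⟶ Z)) : T ⟶ (R n Z).obj a := Pi.lift ζ

lemma liftR_π {T Z : FormalCoproduct.{u} D} {a : SimplexCategoryᵒᵖ}
    (ζ : (⦋n⦌ ⟶ a.unop) → (T ⟶ Z)) (φ : ⦋n⦌ ⟶ a.unop) : liftR ζ ≫ π Z φ = ζ φ :=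
  Pi.lift_π ζ φ

variable {J : GrothendieckTopology D} {K L : SimplicialObject (FormalCoproduct.{u} D)}
  {Z : FormalCoproduct.{u} D} {u : Z ⟶ K _⦋n⦌} {f : L ⟶ K} {s : L ⟶ R n Z}
  (hL : ∀ a, IsPullback (f.app a) (s.app a) ((toR K n).app a) ((RMap u).app a))

include hL in
lemma exists_point {T : FormalCoproduct.{u} D} {a : SimplexCategoryᵒᵖ} (x : T ⟶ K.obj a)
    (ζ : (⦋n⦌ ⟶ a.unop) → (T ⟶ Z)) (h : ∀ φ, ζ φ ≫ u = x ≫ K.map φ.op) :
    ∃ l : T ⟶ L.obj a, l ≫ f.app a = x ∧ ∀ φ, l ≫ s.app a ≫ π Z φ = ζ φ := by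
  have w : x ≫ (toR K n).app a = liftR ζ ≫ (RMap u).app a := by
    refine R_hom_ext fun φ => ?_
    rw [Category.assoc, Category.assoc, toR_π, RMap_π, reassoc_of% (liftR_π ζ φ), h]
  refine ⟨(hL a).lift x (liftR ζ) w, (hL a).lift_fst _ _ _, fun φ => ?_⟩
  rw [← Category.assoc, (hL a).lift_snd, liftR_π]

include hL in
lemma comp_u {T : FormalCoproduct.{u} D} {a : SimplexCategoryᵒᵖ} (l : T ⟶ L.obj a) (φ : ⦋n⦌ ⟶ a.unop) :
    (l ≫ s.app a ≫ π Z φ) ≫ u = (l ≫ f.app a) ≫ K.map φ.op := by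
  rw [← toR_π K φ, Category.assoc, Category.assoc, Category.assoc, reassoc_of% (hL a).w, RMap_π]

lemma map_s_π {a b : SimplexCategoryᵒᵖ} (ψ : a ⟶ b) (φ : ⦋n⦌ ⟶ b.unop) :
    L.map ψ ≫ s.app b ≫ π Z φ = s.app a ≫ π Z (φ ≫ ψ.unop) := by
  rw [← R_map_π, reassoc_of% (s.naturality ψ)]

include hL in
lemma hom_ext {T : FormalCoproduct.{u} D} {a : SimplexCategoryᵒᵖ} {l l' : T ⟶ L.obj a}
    (h₁ : l ≫ f.app a = l' ≫ f.app a) (h₂ : ∀ φ, l ≫ s.app a ≫ π Z φ = l' ≫ s.app a ≫ π Z φ) :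
    l = l' :=
  (hL a).hom_ext h₁ (R_hom_ext fun φ => by rw [Category.assoc, Category.assoc]; exact h₂ φ)

include hL in
/-- The refinement of a hypercovering along a covering is a hypercovering. -/
theorem hc (hK : HC K J) (hu : Hyper.IsSRCovering J u) : HC L J where
  vertex W := by
    refine J.transitive (hK.vertex W) _ fun W' g hg => ?_
    obtain ⟨x⟩ := hg
    refine J.superset_covering ?_ (LocFill.iInf_mem _ fun φ : ⦋n⦌ ⟶ ⦋0⦌ =>
      liftSieve_mem hu (x ≫ K.map φ.op))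
    intro W'' g' hg'
    have h : ∀ φ : ⦋n⦌ ⟶ ⦋0⦌, ∃ p : Pt W'' Z, p ≫ u = res g' (x ≫ K.map φ.op) := fun φ =>
      iInf_le (fun φ : ⦋n⦌ ⟶ ⦋0⦌ => liftSieve u (x ≫ K.map φ.op)) φ _ hg'
    choose ζ hζ using h
    obtain ⟨l, -, -⟩ := exists_point hL (a := op ⦋0⦌) (res g' x) ζ
      (fun φ => (hζ φ).trans (Category.assoc _ _ _).symm)
    exact ⟨l⟩
  fill m W z hz := by
    classical
    refine J.transitive (hK.fill m W _ (hz.map f)) _ fun W' g hg => ?_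
    obtain ⟨x, hx⟩ := hg
    refine J.superset_covering ?_ (LocFill.iInf_mem _ fun φ : ⦋n⦌ ⟶ ⦋m + 1⦌ =>
      liftSieve_mem hu (x ≫ K.map φ.op))
    intro W'' g' hg'
    have h : ∀ φ : ⦋n⦌ ⟶ ⦋m + 1⦌, ∃ p : Pt W'' Z, p ≫ u = res g' (x ≫ K.map φ.op) := fun φ =>
      iInf_le (fun φ : ⦋n⦌ ⟶ ⦋m + 1⦌ => liftSieve u (x ≫ K.map φ.op)) φ _ hg'
    choose p hp using h
    have hex : ∀ φ : ⦋n⦌ ⟶ ⦋m + 1⦌, ∃ q : Pt W'' Z, q ≫ u = res g' x ≫ K.map φ.op ∧
        ∀ (j : Fin (m + 2)) (θ : ⦋n⦌ ⟶ ⦋m⦌), φ = θ ≫ SimplexCategory.δ j →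
          q = res (g' ≫ g) (z j) ≫ s.app (op ⦋m⦌) ≫ π Z θ := by
      intro φ
      by_cases hφ : ∃ (j : Fin (m + 2)) (θ : ⦋n⦌ ⟶ ⦋m⦌), φ = θ ≫ SimplexCategory.δ j
      · obtain ⟨j, θ, rfl⟩ := hφ
        refine ⟨res (g' ≫ g) (z j) ≫ s.app (op ⦋m⦌) ≫ π Z θ, ?_, fun j' θ' h' => ?_⟩
        · rw [comp_u hL, op_comp, K.map_comp, ← res_res]
          simp only [res, Category.assoc]
          exact congrArg (_ ≫ ·) (((reassoc_of% (hx j)) (K.map θ.op)).symm)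
        · have h2 := congrArg (fun t => t ≫ s.app (op ⦋n⦌) ≫ π Z (𝟙 ⦋n⦌)) (hz.wd j j' θ θ' h')
          simp only [Category.assoc] at h2
          erw [map_s_π, map_s_π] at h2
          simp only [Quiver.Hom.unop_op, Category.id_comp] at h2
          simp only [res, Category.assoc]
          exact congrArg (_ ≫ ·) h2
      · exact ⟨p φ, (hp φ).trans (Category.assoc _ _ _).symm,
          fun j θ h => absurd ⟨j, θ, h⟩ hφ⟩
    choose q hq hq' using hex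
    obtain ⟨l, hl₁, hl₂⟩ := exists_point hL (a := op ⦋m + 1⦌) (res g' x) q hq
    refine ⟨l, fun j => hom_ext hL ?_ fun θ => ?_⟩
    · rw [Category.assoc]
      erw [f.naturality]
      rw [reassoc_of% hl₁]
      simp only [res, Category.assoc] at hx ⊢
      refine (congrArg (_ ≫ ·) (hx j)).trans ?_
      rw [Functor.map_comp, Category.assoc]
    · rw [Category.assoc]
      erw [map_s_π]
      exact (hl₂ _).trans (hq' _ j θ rfl)

variable (u)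

omit hL in
/-- Existence of the refinement. -/
theorem exists_refinement [HasPullbacks (FormalCoproduct.{u} D)] (hK : HC K J)
    (hu : Hyper.IsSRCovering J u) :
    ∃ (L : SimplicialObject (FormalCoproduct.{u} D)) (f : L ⟶ K) (g : L _⦋n⦌ ⟶ Z),
      HC L J ∧ g ≫ u = f.app (op ⦋n⦌) := by
  let f := pullback.fst (toR K n) (RMap (n := n) u)
  let s := pullback.snd (toR K n) (RMap (n := n) u)
  have hL : ∀ a, IsPullback (f.app a) (s.app a) ((toR K n).app a) ((RMap u).app a) := fun a =>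
    (IsPullback.of_hasPullback (toR K n) (RMap (n := n) u)).map ((evaluation _ _).obj a)
  refine ⟨_, f, s.app (op ⦋n⦌) ≫ π Z (a := op ⦋n⦌) (𝟙 ⦋n⦌), hc hL hK hu, ?_⟩
  have := comp_u hL (𝟙 _) (𝟙 ⦋n⦌)
  simpa using this

end Groth.Agent.HyperLib.Refine
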