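import Groth.Agent.HyperLib.RelHomology

/-!
Local trivial fibrations are locally bijective on homology of free chains.
-/

set_option autoImplicit false

universe u

open CategoryTheory CategoryTheory.Limits Opposite Simplicial

namespace Groth.Agent.HyperLib.RelFill

open SemiSimp

variable {C : Type u} [SmallCategory C] {J : GrothendieckTopology C}
  {L K : SimplicialObject (Cᵒᵖ ⥤ Type u)} {f : L ⟶ K}

/-- The lifting model: nothing is prescribed. -/
def liftModel (f : L ⟶ K) (V : C) : Model f V where
  dom := sec K V
  α := { app := fun _ x => x, comm := fun _ _ _ => rfl }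
  B _ := ∅
  s _ _ h := h.elim
  f_s _ _ h := h.elim
  B_d _ _ _ h := h.elim
  s_d _ _ _ h := h.elim

/-- The chains that are cycles. -/
def Cyc (A : SS.{u}) : ∀ n : ℕ, A.F n → Prop
  | 0, _ => True
  | _ + 1, c => A.bd c = 0

lemma chain_res_comp {U V W : C} (h : U ⟶ W) (g : W ⟶ V) (n : ℕ) (c : (sec L V).F n) :
    (res L (h ≫ g)).chain n c = (res L h).chain n ((res L g).chain n c) := by
  rw [SS.Hom.chain, SS.Hom.chain, SS.Hom.chain, ← AddMonoidHom.comp_apply,
    ← FreeAbelianGroup.map_comp]
  congr 2
  funext x
  exact res_comp L h g n x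

lemma chain_map_res (f : L ⟶ K) {V W : C} (g : W ⟶ V) (n : ℕ) (c : (sec L V).F n) :
    (map f W).chain n ((res L g).chain n c) = (res K g).chain n ((map f V).chain n c) := by
  rw [SS.Hom.chain, SS.Hom.chain, SS.Hom.chain, SS.Hom.chain, ← AddMonoidHom.comp_apply,
    ← FreeAbelianGroup.map_comp, ← AddMonoidHom.comp_apply, ← FreeAbelianGroup.map_comp]
  congr 2
  funext x
  exact map_res f g n x

lemma map_linExt {V W : C} {n : ℕ} {g : W ⟶ V} {T : Set ((sec K V).obj n)}
    {h : ∀ x, x ∈ T → (sec L W).obj n} (hh : Good (liftModel f V) n g T h) {c : (sec K V).F n}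
    (hc : c ∈ AddSubgroup.closure (FreeAbelianGroup.of '' T)) :
    (map f W).chain n (linExt h c) = (res K g).chain n c :=
  closure_ext (f := ((map f W).chain n).comp (linExt h)) (g := (res K g).chain n)
    (fun x hx => by
      rw [AddMonoidHom.comp_apply, linExt_of h hx, SS.Hom.chain_of, SS.Hom.chain_of, hh.1]
      rfl) hc

/-- The sieve where a cycle lifts to a cycle. -/
def cycSieve (f : L ⟶ K) {n : ℕ} {V : C} (c : (sec K V).F n) : Sieve V where
  arrows W g := ∃ c' : (sec L W).F n, Cyc _ n c' ∧ (map f W).chain n c' = (res K g).chain n c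
  downward_closed := by
    rintro W W' g ⟨c', hc, hc'⟩ g'
    refine ⟨(res L g').chain n c', ?_, by rw [chain_map_res, hc', ← chain_res_comp]⟩
    cases n with
    | zero => trivial
    | succ n =>
      change (sec L W').bd ((res L g').chain (n + 1) c') = 0
      rw [SS.Hom.bd_chain, show (sec L W).bd c' = 0 from hc, map_zero]

/-- Cycles lift locally to cycles. -/
theorem cycSieve_mem (hf : LTF J f) {n : ℕ} {V : C} (c : (sec K V).F n) (hc : Cyc _ n c) :
    cycSieve f c ∈ J V := by
  obtain ⟨T, -, hT, hcT⟩ := exists_finite_subset (mem_closure_univ c)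
  refine J.superset_covering ?_ (extSieve_mem (liftModel f V) hf n T hT)
  rintro W g ⟨h, hh⟩
  refine ⟨linExt h c, ?_, map_linExt hh hcT⟩
  cases n with
  | zero => trivial
  | succ n =>
    obtain ⟨h', hr⟩ := hh.exists_faces
    change (sec L W).bd (linExt h c) = 0
    rw [bd_linExt (liftModel f V) (fun x hx j => Set.mem_image2_of_mem (Set.mem_univ j) hx) hr hcT]
    have hc' : (sec K V).bd c = 0 := hc
    exact (congrArg (linExt h') hc').trans (map_zero _)

/-- The sieve where a chain bounds. -/
def boundSieve {n : ℕ} {V : C} (c : (sec L V).F n) : Sieve V where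
  arrows W g := ∃ d : (sec L W).F (n + 1), (sec L W).bd d = (res L g).chain n c
  downward_closed := by
    rintro W W' g ⟨d, hd⟩ g'
    exact ⟨(res L g').chain (n + 1) d, by rw [SS.Hom.bd_chain, hd, ← chain_res_comp]⟩

/-- A cycle whose image bounds is locally a boundary. -/
theorem boundSieve_mem (hf : LTF J f) {n : ℕ} {V : C} (c : (sec L V).F n) (hc : Cyc _ n c)
    (e : (sec K V).F (n + 1)) (he : (sec K V).bd e = (map f V).chain n c) :
    boundSieve c ∈ J V := by
  classical
  obtain ⟨S, -, hS, hcS⟩ := exists_finite_subset (mem_closure_univ c)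
  obtain ⟨T, -, hT, heT⟩ := exists_finite_subset (mem_closure_univ e)
  let T' : Set ((sec K V).obj n) :=
    Set.image2 (sec K V).d Set.univ T ∪ (fun x => (map f V).app n x) '' S
  refine J.transitive (extSieve₂_mem (liftModel f V) hf n T hT T'
    (fun x hx j => Or.inl (Set.mem_image2_of_mem (Set.mem_univ j) hx))
    (extSieve_mem (liftModel f V) hf n T'
      ((Set.finite_univ.image2 _ hT).union (hS.image _)))) _ ?_
  rintro W g ⟨h, h', hh, hh', hr⟩
  have hmem : ∀ x ∈ S, (map f V).app n x ∈ T' := fun x hx => Or.inr ⟨x, hx, rfl⟩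
  let u : (sec L V).obj n → (pairs (sec L W)).obj n := fun x =>
    if hx : x ∈ S then (h' _ (hmem x hx), (res L g).app n x)
    else ((res L g).app n x, (res L g).app n x)
  obtain ⟨R, hR, hQ⟩ := hty_exists hf n (u '' S) (hS.image _) (by
    rintro _ ⟨x, hx, rfl⟩
    simp only [u, dif_pos hx]
    rw [hh'.1, map_res]
    rfl)
  refine J.superset_covering ?_ hR
  intro W' g' hg'
  obtain ⟨Q, hQ⟩ := hQ g' hg'
  let F : (sec L V).obj n → (sec L W').F (n + 1) := fun x => forgetLab.chain (n + 1) (Q (u x))
  refine ⟨(res L g').chain (n + 1) (linExt h e) + FreeAbelianGroup.lift F c, ?_⟩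
  have key : (sec L W').bd (FreeAbelianGroup.lift F c) =
      (res L g').chain n ((res L g).chain n c - linExt h' ((map f V).chain n c)) := by
    cases n with
    | zero =>
      refine closure_ext (f := (sec L W').bd.comp (FreeAbelianGroup.lift F))
        (g := ((res L g').chain 0).comp ((res L g).chain 0 - (linExt h').comp ((map f V).chain 0)))
        (fun x hx => ?_) hcS
      simp only [AddMonoidHom.comp_apply, AddMonoidHom.sub_apply, FreeAbelianGroup.lift_apply_of,
        F, SS.Hom.bd_chain, SS.Hom.chain_of, linExt_of h' (hmem x hx)]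
      rw [(hQ _ ⟨x, hx, rfl⟩).2]
      simp [diff, SS.Hom.chain_of, map_sub, labMap, forgetLab, psnd, pfst, u, dif_pos hx]
      exact ((congrArg _ ((congrArg _ (SS.Hom.chain_of _ _)).trans (linExt_of h' (hmem x hx)))).trans
        (SS.Hom.chain_of _ _)).symm
    | succ k =>
      obtain ⟨h'', hr''⟩ := hh'.exists_faces
      let u' : (sec L V).obj k → (pairs (sec L W)).obj k := fun x =>
        if hx : (map f V).app k x ∈ Set.image2 (sec K V).d Set.univ T' then
          (h'' _ hx, (res L g).app k x)
        else ((res L g).app k x, (res L g).app k x)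
      obtain ⟨Q', -, hQ'⟩ := hQ
      let G : (sec L V).obj k → (sec L W').F (k + 1) := fun x =>
        forgetLab.chain (k + 1) (Q' (u' x))
      refine (closure_ext (f := (sec L W').bd.comp (FreeAbelianGroup.lift F))
        (g := ((res L g').chain (k + 1)).comp
            ((res L g).chain (k + 1) - (linExt h').comp ((map f V).chain (k + 1))) -
          (FreeAbelianGroup.lift G).comp (sec L V).bd)
        (fun x hx => ?_) hcS).trans ?_
      · simp only [AddMonoidHom.comp_apply, AddMonoidHom.sub_apply, FreeAbelianGroup.lift_apply_of,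
          F, SS.Hom.bd_chain, SS.Hom.chain_of, linExt_of h' (hmem x hx)]
        rw [(hQ' _ ⟨x, hx, rfl⟩).2, map_sub]
        congr 1
        · simp [diff, SS.Hom.chain_of, map_sub, labMap, forgetLab, psnd, pfst, u, dif_pos hx]
          exact ((congrArg _ ((congrArg _ (SS.Hom.chain_of _ _)).trans (linExt_of h' (hmem x hx)))).trans
            (SS.Hom.chain_of _ _)).symm
        · simp only [SS.bd_of, map_sum, map_zsmul, FreeAbelianGroup.lift_apply_of, G]
          refine Finset.sum_congr rfl fun j _ => ?_
          congr 1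
          have hj : (map f V).app k ((sec L V).d j x) ∈ Set.image2 (sec K V).d Set.univ T' := by
            rw [← (map f V).comm]
            exact Set.mem_image2_of_mem (Set.mem_univ j) (hmem x hx)
          have hu : (pairs (sec L W)).d j (u x) = u' ((sec L V).d j x) := by
            simp only [u, u', dif_pos hx, dif_pos hj]
            refine Prod.ext ?_ ((res L g).comm _ _ _)
            exact (hr'' _ (hmem x hx) j).trans (by congr 1; exact (map f V).comm _ _ _)
          change forgetLab.chain (k + 1) (ext Q' (k + 1) (FreeAbelianGroup.of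
            (((pairs (sec L W)).d j (u x), SimplexCategory.δ j ≫ 𝟙 _) :
              (lab (pairs (sec L W)) (k + 1)).obj k))) = _
          rw [ext_of, hu, SS.Hom.chain, SS.Hom.chain, SS.Hom.chain, ← AddMonoidHom.comp_apply,
            ← FreeAbelianGroup.map_comp]
          rfl
      · have hc' : (sec L V).bd c = 0 := hc
        simp [hc']
        rfl
  have hbd : (sec L W).bd (linExt h e) = linExt h' ((map f V).chain n c) := by
    rw [bd_linExt (liftModel f V) (T' := T') (h' := h')
      (fun x hx j => Or.inl (Set.mem_image2_of_mem (Set.mem_univ j) hx))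
      hr heT]
    exact congrArg (linExt h') he
  rw [map_add, SS.Hom.bd_chain, hbd, key, ← map_add, add_sub_cancel, chain_res_comp]

end Groth.Agent.HyperLib.RelFill
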