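import Groth.Agent.HyperLib.RelFill

/-!
Local trivial fibrations of simplicial presheaves of sets induce locally bijective maps on the
homology of the free chain complexes.
-/

set_option autoImplicit false

universe u

open CategoryTheory CategoryTheory.Limits Opposite Simplicial

namespace Groth.Agent.HyperLib.RelFill

open SemiSimp

variable {C : Type u} [SmallCategory C] {J : GrothendieckTopology C}
  {L K : SimplicialObject (Cᵒᵖ ⥤ Type u)} {f : L ⟶ K}

section Labelled

variable (A B : SS.{u}) (n : ℕ)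

/-- Simplices labelled by a map to `⦋n⦌`. -/
def lab : SS.{u} where
  obj m := A.obj m × (⦋m⦌ ⟶ ⦋n⦌)
  d j p := (A.d j p.1, SimplexCategory.δ j ≫ p.2)
  dd h p := Prod.ext (A.dd h p.1) (by
    dsimp only
    rw [← Category.assoc, ← Category.assoc, SimplexCategory.δ_comp_δ h])

variable {A B}

/-- Functoriality in the simplices. -/
def labMap (φ : SS.Hom A B) : SS.Hom (lab A n) (lab B n) where
  app m p := (φ.app m p.1, p.2)
  comm m j p := Prod.ext (φ.comm m j p.1) rfl

variable {n}

/-- Functoriality in the labels. -/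
def push {k : ℕ} (θ : ⦋n⦌ ⟶ ⦋k⦌) : SS.Hom (lab A n) (lab A k) where
  app _ p := (p.1, p.2 ≫ θ)
  comm _ j p := Prod.ext rfl (Category.assoc (SimplexCategory.δ j) p.2 θ).symm

/-- Forgetting the label. -/
def forgetLab : SS.Hom (lab A n) A where
  app _ p := p.1
  comm _ _ _ := rfl

end Labelled

/-- Pairs of simplices. -/
def pairs (A : SS.{u}) : SS.{u} where
  obj m := A.obj m × A.obj m
  d j p := (A.d j p.1, A.d j p.2)
  dd h p := Prod.ext (A.dd h p.1) (A.dd h p.2)

/-- First projection. -/
def pfst (A : SS.{u}) : SS.Hom (pairs A) A where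
  app _ p := p.1
  comm _ _ _ := rfl

/-- Second projection. -/
def psnd (A : SS.{u}) : SS.Hom (pairs A) A where
  app _ p := p.2
  comm _ _ _ := rfl

variable (f)

/-- Labelled simplices lying over a simplex of `K`. -/
def over {n : ℕ} {V : C} (a : (sec K V).obj n) (m : ℕ) : Set ((lab (sec L V) n).obj m) :=
  {p | (map f V).app m p.1 = (K.map p.2.op).app (op V) a}

variable {f}

lemma over_d {n : ℕ} {V : C} {a : (sec K V).obj n} {m : ℕ} (j : Fin (m + 2))
    {p : (lab (sec L V) n).obj (m + 1)} (hp : p ∈ over f a (m + 1)) :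
    (lab (sec L V) n).d j p ∈ over f a m := by
  change (map f V).app m ((sec L V).d j p.1) = (K.map (SimplexCategory.δ j ≫ p.2).op).app (op V) a
  rw [← (map f V).comm, hp, op_comp, Functor.map_comp, NatTrans.comp_app, ConcreteCategory.comp_apply]
  rfl

lemma over_res {n : ℕ} {V W : C} (g : W ⟶ V) {a : (sec K V).obj n} {m : ℕ}
    {p : (lab (sec L V) n).obj m} (hp : p ∈ over f a m) :
    (labMap n (res L g)).app m p ∈ over f ((res K g).app n a) m := by
  change (map f W).app m ((res L g).app m p.1) = (K.map p.2.op).app (op W) ((res K g).app n a)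
  rw [map_res, hp]
  exact (ConcreteCategory.congr_hom ((K.map p.2.op).naturality g.op) a).symm

/-- The cone on a label with apex the initial vertex. -/
def coneLabel {m n : ℕ} (φ : ⦋m⦌ ⟶ ⦋n⦌) : ⦋m + 1⦌ ⟶ ⦋n⦌ :=
  SimplexCategory.Hom.mk ⟨Fin.cases 0 (fun i => φ.toOrderHom i), by
    intro x y hxy
    rcases Fin.eq_zero_or_eq_succ x with rfl | ⟨x, rfl⟩
    · exact Fin.zero_le _
    · rcases Fin.eq_zero_or_eq_succ y with rfl | ⟨y, rfl⟩
      · simp [Fin.le_def] at hxy
      · exact φ.toOrderHom.monotone (Fin.succ_le_succ_iff.mp hxy)⟩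

lemma δ_zero_coneLabel {m n : ℕ} (φ : ⦋m⦌ ⟶ ⦋n⦌) :
    SimplexCategory.δ 0 ≫ coneLabel φ = φ := by
  ext i
  change ((coneLabel φ).toOrderHom (Fin.succAbove 0 i) : ℕ) = _
  rw [Fin.succAbove_zero]
  rfl

lemma δ_succ_coneLabel {m n : ℕ} (φ : ⦋m + 1⦌ ⟶ ⦋n⦌) (j : Fin (m + 2)) :
    SimplexCategory.δ j.succ ≫ coneLabel φ = coneLabel (SimplexCategory.δ j ≫ φ) := by
  ext i
  rcases Fin.eq_zero_or_eq_succ i with rfl | ⟨i, rfl⟩
  · change ((coneLabel φ).toOrderHom (Fin.succAbove j.succ 0) : ℕ) = _
    rw [Fin.succ_succAbove_zero]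
    rfl
  · change ((coneLabel φ).toOrderHom (Fin.succAbove j.succ i.succ) : ℕ) = _
    rw [Fin.succ_succAbove_succ]
    rfl

lemma δ_succ_coneLabel₀ {n : ℕ} (φ : ⦋0⦌ ⟶ ⦋n⦌) (j : Fin 1) :
    SimplexCategory.δ j.succ ≫ coneLabel φ = SimplexCategory.const ⦋0⦌ ⦋n⦌ 0 := by
  ext i
  fin_cases i
  fin_cases j
  rfl

section Cone

variable {n : ℕ} {V : C} (a : (sec K V).obj n)

/-- The cones: a cone on a simplex of one degree less, or the apex. -/
def Apex : ℕ → Type u
  | 0 => PUnit.{u + 1}
  | m + 1 => over f a m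

/-- The label of a cone. -/
def apexLabel : ∀ m : ℕ, Apex (f := f) a m → (⦋m⦌ ⟶ ⦋n⦌)
  | 0, _ => SimplexCategory.const ⦋0⦌ ⦋n⦌ 0
  | _ + 1, p => coneLabel p.1.2

/-- The faces of a cone opposite to vertices of the base. -/
def apexD : ∀ m : ℕ, Fin (m + 1) → Apex (f := f) a (m + 1) → Apex (f := f) a m
  | 0, _, _ => PUnit.unit
  | _ + 1, j, p => ⟨_, over_d j p.2⟩

lemma apexD_apexD : ∀ (m : ℕ) (i j : Fin (m + 1)), i ≤ j → ∀ p : Apex (f := f) a (m + 2),
    apexD a m i (apexD a (m + 1) j.succ p) = apexD a m j (apexD a (m + 1) i.castSucc p)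
  | 0, _, _, _, _ => rfl
  | m + 1, _, _, h, p => Subtype.ext ((lab (sec L V) n).dd h p.1)

/-- The cone over the labelled simplices over `a`. -/
def coneSS : SS.{u} where
  obj m := over f a m ⊕ Apex (f := f) a m
  d {m} j := Sum.elim (fun p => Sum.inl ⟨_, over_d j p.2⟩)
    (fun p => Fin.cases (Sum.inl (show over f a m from p)) (fun j' => Sum.inr (apexD a m j' p)) j)
  dd {m i j} h x := by
    rcases x with p | p
    · exact congrArg Sum.inl (Subtype.ext ((lab (sec L V) n).dd h p.1))
    · rcases Fin.eq_zero_or_eq_succ i with rfl | ⟨i, rfl⟩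
      · simp only [Fin.castSucc_zero, Sum.elim_inr, Sum.elim_inl, Fin.cases_succ, Fin.cases_zero]
        rfl
      · obtain ⟨j, rfl⟩ : ∃ j' : Fin (m + 1), j = j'.succ := by
          rcases Fin.eq_zero_or_eq_succ j with rfl | h'
          · simp [Fin.le_def] at h
          · exact h'
        simp only [← Fin.succ_castSucc, Sum.elim_inr, Fin.cases_succ]
        exact congrArg Sum.inr (apexD_apexD a m i j (Fin.succ_le_succ_iff.mp h) p)

/-- The map to `K`. -/
def coneα : SS.Hom (coneSS (f := f) a) (sec K V) where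
  app m := Sum.elim (fun p => (map f V).app m p.1.1)
    (fun p => (K.map (apexLabel (f := f) a m p).op).app (op V) a)
  comm m j x := by
    rcases x with p | p
    · exact (map f V).comm m j p.1.1
    · rcases Fin.eq_zero_or_eq_succ j with rfl | ⟨j, rfl⟩
      · change (K.map (SimplexCategory.δ 0).op).app (op V) ((K.map (coneLabel p.1.2).op).app (op V) a) =
          (map f V).app m p.1.1
        rw [p.2, ← ConcreteCategory.comp_apply, ← NatTrans.comp_app, ← Functor.map_comp, ← op_comp,
          δ_zero_coneLabel]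
      · change (K.map (SimplexCategory.δ j.succ).op).app (op V) ((K.map (coneLabel p.1.2).op).app (op V) a) =
          (K.map (apexLabel a m (apexD a m j p)).op).app (op V) a
        rw [← ConcreteCategory.comp_apply, ← NatTrans.comp_app, ← Functor.map_comp, ← op_comp]
        congr 4
        cases m with
        | zero => exact congrArg Quiver.Hom.op (δ_succ_coneLabel₀ _ j)
        | succ m => exact congrArg Quiver.Hom.op (δ_succ_coneLabel _ j)

/-- The cone model: the base is prescribed. -/
noncomputable def coneModel : Model f V where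
  dom := coneSS a
  α := coneα a
  B m := Set.range Sum.inl
  s m x _ := Sum.elim (fun p => p.1.1) (fun _ => Classical.choice (by
    obtain ⟨p, -⟩ := ‹x ∈ Set.range Sum.inl›
    exact ⟨p.1.1⟩)) x
  f_s m x hx := by obtain ⟨p, rfl⟩ := hx; rfl
  B_d m j x hx := by obtain ⟨p, rfl⟩ := hx; exact ⟨_, rfl⟩
  s_d m j x hx := by obtain ⟨p, rfl⟩ := hx; rfl

/-- The degree of a 0-chain. -/
noncomputable def deg {α : Type u} : FreeAbelianGroup α →+ ℤ := FreeAbelianGroup.lift fun _ => 1

/-- Cycles of labelled chains. -/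
def IsCycle : ∀ (m : ℕ), (lab (sec L V) n).F m → Prop
  | 0, z => deg z = 0
  | _ + 1, z => (lab (sec L V) n).bd z = 0

/-- The sieve where a labelled chain bounds over `a`. -/
def bdSieve {m : ℕ} (z : (lab (sec L V) n).F m) : Sieve V where
  arrows W g := ∃ d : (lab (sec L W) n).F (m + 1),
    d ∈ AddSubgroup.closure (FreeAbelianGroup.of '' over f ((res K g).app n a) (m + 1)) ∧
      (lab (sec L W) n).bd d = (labMap n (res L g)).chain m z
  downward_closed := by
    rintro W W' g ⟨d, hd, hd'⟩ g'
    refine ⟨(labMap n (res L g')).chain (m + 1) d,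
      map_mem_closure _ (fun p hp => ?_) hd, ?_⟩
    · rw [res_comp]
      exact over_res g' hp
    · rw [SS.Hom.bd_chain, hd', SS.Hom.chain, SS.Hom.chain, SS.Hom.chain, ← AddMonoidHom.comp_apply,
        ← FreeAbelianGroup.map_comp]
      congr 2
      funext p
      exact Prod.ext (res_comp L g' g m p.1).symm rfl

/-- Cycles over a simplex are locally boundaries over it. -/
theorem bdSieve_mem (hf : LTF J f) {m : ℕ} (z : (lab (sec L V) n).F m)
    (hz : z ∈ AddSubgroup.closure (FreeAbelianGroup.of '' over f a m)) (hc : IsCycle m z) :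
    bdSieve (f := f) a z ∈ J V := by
  classical
  obtain ⟨T, hTS, hT, hzT⟩ := exists_finite_subset hz
  have := hT.to_subtype
  let Tc : Set ((coneModel (f := f) a).dom.obj (m + 1)) :=
    Set.range fun p : T => Sum.inr (⟨p.1, hTS p.2⟩ : over f a m)
  let T' : Set ((coneModel (f := f) a).dom.obj m) :=
    Set.image2 (coneModel (f := f) a).dom.d Set.univ Tc
  have hT' : ∀ x ∈ Tc, ∀ j, (coneModel (f := f) a).dom.d j x ∈ T' :=
    fun x hx j => Set.mem_image2_of_mem (Set.mem_univ j) hx
  refine J.superset_covering ?_ (extSieve₂_mem (coneModel a) hf m Tc (Set.finite_range _) T' hT'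
    (extSieve_mem _ hf m _ (Set.finite_univ.image2 _ (Set.finite_range _))))
  rintro W g ⟨h, h', hh, hh', hr⟩
  have hmem : ∀ p (hp : p ∈ T), (Sum.inr (⟨p, hTS hp⟩ : over f a m) :
      (coneModel (f := f) a).dom.obj (m + 1)) ∈ Tc := fun p hp => ⟨⟨p, hp⟩, rfl⟩
  let φ : ∀ p, p ∈ T → (lab (sec L W) n).obj (m + 1) := fun p hp => (h _ (hmem p hp), coneLabel p.2)
  refine ⟨linExt φ z, lift_mem_closure _ (fun p hp => ?_) hzT, ?_⟩
  · rw [dif_pos hp]
    refine AddSubgroup.subset_closure ⟨_, ?_, rfl⟩
    change (map f W).app (m + 1) (h _ (hmem p hp)) =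
      (K.map (coneLabel p.2).op).app (op W) ((res K g).app n a)
    rw [hh.1]
    exact (ConcreteCategory.congr_hom ((K.map (coneLabel p.2).op).naturality g.op) a).symm
  · have h0 : ∀ p (hp : p ∈ T), (sec L W).d 0 (h _ (hmem p hp)) = (res L g).app m p.1 := by
      intro p hp
      exact (hr _ _ 0).trans (hh'.2.1 _ _ ⟨⟨p, hTS hp⟩, rfl⟩)
    cases m with
    | zero =>
      let q : (lab (sec L W) n).F 0 :=
        if hu : (Sum.inr PUnit.unit : (coneModel (f := f) a).dom.obj 0) ∈ T' then
          FreeAbelianGroup.of ((h' _ hu, SimplexCategory.const ⦋0⦌ ⦋n⦌ 0) :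
            (lab (sec L W) n).obj 0) else 0
      refine (closure_ext (f := (lab (sec L W) n).bd.comp (linExt φ))
        (g := (labMap n (res L g)).chain 0 - ((zmultiplesHom _ q).comp deg))
        (fun p hp => ?_) hzT).trans ?_
      · have hu : (Sum.inr PUnit.unit : (coneModel (f := f) a).dom.obj 0) ∈ T' :=
          hT' _ (hmem p hp) 1
        simp only [AddMonoidHom.comp_apply, AddMonoidHom.sub_apply, linExt_of φ hp, SS.bd_of,
          Fin.sum_univ_two, SS.Hom.chain_of, deg, FreeAbelianGroup.lift_apply_of, φ,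
          zmultiplesHom_apply, one_zsmul, Fin.val_zero, pow_zero, Fin.val_one, pow_one, neg_smul,
          q, dif_pos hu, sub_eq_add_neg]
        refine congrArg₂ (fun x y => x + -y) (congrArg FreeAbelianGroup.of ?_)
          (congrArg FreeAbelianGroup.of ?_)
        · exact Prod.ext (h0 p hp) (δ_zero_coneLabel p.2)
        · exact Prod.ext (hr _ (hmem p hp) 1) (δ_succ_coneLabel₀ p.2 0)
      · have hc' : deg z = 0 := hc
        simp [hc']
    | succ k =>
      let ψ : (lab (sec L V) n).obj k → (lab (sec L W) n).F (k + 1) := fun p =>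
        if hp : ∃ hp : p ∈ over f a k, (Sum.inr (⟨p, hp⟩ : over f a k) :
            (coneModel (f := f) a).dom.obj (k + 1)) ∈ T' then
          FreeAbelianGroup.of ((h' _ hp.2, coneLabel p.2) : (lab (sec L W) n).obj (k + 1)) else 0
      refine (closure_ext (f := (lab (sec L W) n).bd.comp (linExt φ))
        (g := (labMap n (res L g)).chain (k + 1) -
          (FreeAbelianGroup.lift ψ).comp (lab (sec L V) n).bd)
        (fun p hp => ?_) hzT).trans ?_
      · simp only [AddMonoidHom.comp_apply, AddMonoidHom.sub_apply, linExt_of φ hp, SS.bd_of,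
          Fin.sum_univ_succ (n := k + 2), SS.Hom.chain_of, map_sum, map_zsmul,
          FreeAbelianGroup.lift_apply_of, Fin.val_zero, pow_zero, one_zsmul, Fin.val_succ]
        rw [sub_eq_add_neg, ← Finset.sum_neg_distrib]
        congr 1
        · exact congrArg FreeAbelianGroup.of (Prod.ext (h0 p hp) (δ_zero_coneLabel p.2))
        · refine Finset.sum_congr rfl fun j _ => ?_
          have hj : ∃ hq : (lab (sec L V) n).d j p ∈ over f a k,
              (Sum.inr (⟨_, hq⟩ : over f a k) : (coneModel (f := f) a).dom.obj (k + 1)) ∈ T' :=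
            ⟨over_d j (hTS hp), hT' _ (hmem p hp) j.succ⟩
          simp only [ψ, dif_pos hj, φ]
          rw [pow_succ, mul_neg_one, neg_smul]
          congr 3
          exact Prod.ext (hr _ (hmem p hp) j.succ) (δ_succ_coneLabel p.2 j)
      · have hc' : (lab (sec L V) n).bd z = 0 := hc
        simp [hc']

end Cone

section Homotopy

/-- Extension of a family of labelled chains to labelled pairs. -/
noncomputable def ext {V W : C} {m : ℕ}
    (Q : (pairs (sec L V)).obj m → (lab (sec L W) m).F (m + 1)) (n : ℕ) :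
    (lab (pairs (sec L V)) n).F m →+ (lab (sec L W) n).F (m + 1) :=
  FreeAbelianGroup.lift fun p => (push p.2).chain (m + 1) (Q p.1)

lemma ext_of {V W : C} {m : ℕ}
    (Q : (pairs (sec L V)).obj m → (lab (sec L W) m).F (m + 1)) (n : ℕ)
    (p : (pairs (sec L V)).obj m) (θ : ⦋m⦌ ⟶ ⦋n⦌) :
    ext Q n (FreeAbelianGroup.of ((p, θ) : (lab (pairs (sec L V)) n).obj m)) =
      (push θ).chain (m + 1) (Q p) :=
  FreeAbelianGroup.lift_apply_of _ _

/-- The difference of the two projections, restricted. -/
noncomputable def diff {V W : C} (g : W ⟶ V) (n m : ℕ) :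
    (lab (pairs (sec L V)) n).F m →+ (lab (sec L W) n).F m :=
  ((labMap n (res L g)).chain m).comp ((labMap n (psnd _)).chain m) -
    ((labMap n (res L g)).chain m).comp ((labMap n (pfst _)).chain m)

lemma bd_diff {V W : C} (g : W ⟶ V) (n m : ℕ) (x : (lab (pairs (sec L V)) n).F (m + 1)) :
    (lab (sec L W) n).bd (diff g n (m + 1) x) = diff g n m ((lab (pairs (sec L V)) n).bd x) := by
  simp only [diff, AddMonoidHom.sub_apply, AddMonoidHom.comp_apply, map_sub, SS.Hom.bd_chain]

variable (f)

/-- Local homotopies between the two projections on a set of pairs. -/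
def Hty {V : C} : ∀ (m : ℕ) {W : C} (_ : W ⟶ V) (_ : Set ((pairs (sec L V)).obj m)),
    ((pairs (sec L V)).obj m → (lab (sec L W) m).F (m + 1)) → Prop
  | 0, W, g, T, Q => ∀ p ∈ T,
      Q p ∈ AddSubgroup.closure (FreeAbelianGroup.of '' over f ((res K g).app 0 ((map f V).app 0 p.1)) 1) ∧
      (lab (sec L W) 0).bd (Q p) = diff g 0 0 (FreeAbelianGroup.of (p, 𝟙 _))
  | m + 1, W, g, T, Q => ∃ Q' : (pairs (sec L V)).obj m → (lab (sec L W) m).F (m + 1),
      Hty m g (Set.image2 (pairs (sec L V)).d Set.univ T) Q' ∧ ∀ p ∈ T,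
        Q p ∈ AddSubgroup.closure
          (FreeAbelianGroup.of '' over f ((res K g).app (m + 1) ((map f V).app (m + 1) p.1)) (m + 2)) ∧
        (lab (sec L W) (m + 1)).bd (Q p) = diff g (m + 1) (m + 1) (FreeAbelianGroup.of (p, 𝟙 _)) -
          ext Q' (m + 1) ((lab (pairs (sec L V)) (m + 1)).bd (FreeAbelianGroup.of (p, 𝟙 _)))

variable {f}

lemma hty_res {V : C} : ∀ (m : ℕ) {W W' : C} (g : W ⟶ V) (g' : W' ⟶ W)
    (T : Set ((pairs (sec L V)).obj m)) (Q : (pairs (sec L V)).obj m → (lab (sec L W) m).F (m + 1)),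
    Hty f m g T Q → Hty f m (g' ≫ g) T (fun p => (labMap m (res L g')).chain (m + 1) (Q p)) := by
  intro m
  have hres : ∀ (n k : ℕ) {W W' : C} (g : W ⟶ V) (g' : W' ⟶ W)
      (x : (lab (pairs (sec L V)) n).F k),
      diff (g' ≫ g) n k x = (labMap n (res L g')).chain k (diff g n k x) := by
    intro n k W W' g g' x
    induction x using FreeAbelianGroup.induction_on with
    | zero => simp
    | of x =>
      simp only [diff, AddMonoidHom.sub_apply, AddMonoidHom.comp_apply, SS.Hom.chain_of, map_sub]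
      congr 2 <;> exact Prod.ext (res_comp L g' g k _) rfl
    | neg x hx => simp [map_neg, hx]
    | add x y hx hy => simp [map_add, hx, hy]
  induction m with
  | zero =>
    intro W W' g g' T Q hQ p hp
    obtain ⟨h1, h2⟩ := hQ p hp
    refine ⟨map_mem_closure _ (fun q hq => ?_) h1, ?_⟩
    · rw [res_comp]
      exact over_res g' hq
    · rw [SS.Hom.bd_chain, h2, hres]
  | succ m ih =>
    intro W W' g g' T Q hQ
    obtain ⟨Q', hQ', h⟩ := hQ
    refine ⟨_, ih g g' _ Q' hQ', fun p hp => ?_⟩
    obtain ⟨h1, h2⟩ := h p hp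
    refine ⟨map_mem_closure _ (fun q hq => ?_) h1, ?_⟩
    · rw [res_comp]
      exact over_res g' hq
    · rw [SS.Hom.bd_chain, h2, hres, map_sub]
      congr 1
      generalize (lab (pairs (sec L V)) (m + 1)).bd _ = x
      induction x using FreeAbelianGroup.induction_on with
      | zero => simp
      | of x =>
        simp only [ext, FreeAbelianGroup.lift_apply_of]
        rw [SS.Hom.chain, SS.Hom.chain, SS.Hom.chain, SS.Hom.chain, ← AddMonoidHom.comp_apply,
          ← FreeAbelianGroup.map_comp, ← AddMonoidHom.comp_apply, ← FreeAbelianGroup.map_comp]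
        rfl
      | neg x hx => simp [map_neg, hx]
      | add x y hx hy => simp [map_add, hx, hy]

lemma hty_exists (hf : LTF J f) {V : C} : ∀ (m : ℕ) (T : Set ((pairs (sec L V)).obj m)), T.Finite →
    (∀ p ∈ T, (map f V).app m p.1 = (map f V).app m p.2) →
    ∃ S ∈ J V, ∀ ⦃W : C⦄ (g : W ⟶ V), S g → ∃ Q, Hty f m g T Q := by
  classical
  intro m
  have hdiff : ∀ (k : ℕ) {W : C} (g : W ⟶ V) (p : (pairs (sec L V)).obj k),
      (map f V).app k p.1 = (map f V).app k p.2 →
      diff g k k (FreeAbelianGroup.of (p, 𝟙 ⦋k⦌)) ∈ AddSubgroup.closure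
        (FreeAbelianGroup.of '' over f ((res K g).app k ((map f V).app k p.1)) k) := by
    intro k W g p hp
    simp only [diff, AddMonoidHom.sub_apply, AddMonoidHom.comp_apply, SS.Hom.chain_of]
    refine AddSubgroup.sub_mem _ (AddSubgroup.subset_closure ⟨_, ?_, rfl⟩)
      (AddSubgroup.subset_closure ⟨_, ?_, rfl⟩)
    · change (map f W).app k ((res L g).app k p.2) = (K.map (𝟙 ⦋k⦌).op).app (op W) _
      rw [map_res, ← hp, op_id, K.map_id]
      rfl
    · change (map f W).app k ((res L g).app k p.1) = (K.map (𝟙 ⦋k⦌).op).app (op W) _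
      rw [map_res, op_id, K.map_id]
      rfl
  induction m with
  | zero =>
    intro T hT hp
    have := hT.to_subtype
    have hz : ∀ p : T, bdSieve (f := f) ((map f V).app 0 p.1.1)
        (diff (𝟙 V) 0 0 (FreeAbelianGroup.of (p.1, 𝟙 _))) ∈ J V := by
      intro p
      refine bdSieve_mem _ hf _ ?_ ?_
      · have := hdiff 0 (𝟙 V) p.1 (hp p.1 p.2)
        rwa [show (res K (𝟙 V)).app 0 ((map f V).app 0 p.1.1) = (map f V).app 0 p.1.1 from by
          change (K.obj (op ⦋0⦌)).map (𝟙 V).op _ = _
          rw [op_id, Functor.map_id_apply]] at this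
      · change deg _ = 0
        simp [diff, deg, SS.Hom.chain_of]
    refine ⟨_, iInf_mem _ hz, fun W g hg => ?_⟩
    have hg' := fun p : T => iInf_le (fun p : T => bdSieve (f := f) ((map f V).app 0 p.1.1)
      (diff (𝟙 V) 0 0 (FreeAbelianGroup.of (p.1, 𝟙 _)))) p _ hg
    choose d hd hd' using hg'
    refine ⟨fun p => if hp : p ∈ T then d ⟨p, hp⟩ else 0, fun p hp' => ?_⟩
    simp only [dif_pos hp']
    refine ⟨hd ⟨p, hp'⟩, (hd' ⟨p, hp'⟩).trans ?_⟩
    simp only [diff, AddMonoidHom.sub_apply, AddMonoidHom.comp_apply, SS.Hom.chain_of, map_sub]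
    congr 2 <;> refine Prod.ext ?_ rfl <;>
    · change (res L g).app 0 ((res L (𝟙 V)).app 0 _) = (res L g).app 0 _
      rw [← res_comp, Category.comp_id]
  | succ m ih =>
    intro T hT hp
    have hp' : ∀ q ∈ Set.image2 (pairs (sec L V)).d Set.univ T,
        (map f V).app m q.1 = (map f V).app m q.2 := by
      rintro _ ⟨j, -, p, hpT, rfl⟩
      change (map f V).app m ((sec L V).d j p.1) = (map f V).app m ((sec L V).d j p.2)
      rw [← (map f V).comm, ← (map f V).comm, hp p hpT]
    obtain ⟨S, hS, hQ⟩ := ih _ (Set.finite_univ.image2 _ hT) hp'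
    let R : Sieve V :=
      { arrows := fun W g => ∃ Q, Hty f (m + 1) g T Q
        downward_closed := by
          rintro W W' g ⟨Q, hQ⟩ g'
          exact ⟨_, hty_res (m + 1) g g' T Q hQ⟩ }
    refine ⟨R, J.transitive hS _ fun W g hg => ?_, fun W g hg => hg⟩
    obtain ⟨Q', hQ'⟩ := hQ g hg
    have := hT.to_subtype
    let e : T → (lab (pairs (sec L V)) (m + 1)).F (m + 1) := fun p => FreeAbelianGroup.of (p.1, 𝟙 _)
    let z : T → (lab (sec L W) (m + 1)).F (m + 1) := fun p =>
      diff g (m + 1) (m + 1) (e p) - ext Q' (m + 1) ((lab (pairs (sec L V)) (m + 1)).bd (e p))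
    have hbde : ∀ p, (lab (pairs (sec L V)) (m + 1)).bd (e p) ∈ AddSubgroup.closure
        (FreeAbelianGroup.of '' {q : (lab (pairs (sec L V)) (m + 1)).obj m |
          ∃ j, q = ((pairs (sec L V)).d j p.1, SimplexCategory.δ j)}) := by
      intro p
      refine bd_mem_closure (lab (pairs (sec L V)) (m + 1))
        (S := ({(p.1, 𝟙 ⦋m + 1⦌)} : Set ((lab (pairs (sec L V)) (m + 1)).obj (m + 1)))) ?_
        (AddSubgroup.subset_closure (Set.mem_image_of_mem _ rfl))
      intro x hx j
      refine ⟨j, ?_⟩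
      rw [Set.mem_singleton_iff.mp hx]
      exact Prod.ext rfl (Category.comp_id _)
    have hz : ∀ p : T, bdSieve (f := f) ((res K g).app (m + 1) ((map f V).app (m + 1) p.1.1))
        (z p) ∈ J W := by
      intro p
      refine bdSieve_mem _ hf _ (AddSubgroup.sub_mem _ (hdiff _ g _ (hp p.1 p.2)) ?_) ?_
      · refine lift_mem_closure _ ?_ (hbde p)
        rintro q ⟨j, rfl⟩
        have hj : (pairs (sec L V)).d j p.1 ∈ Set.image2 (pairs (sec L V)).d Set.univ T :=
          Set.mem_image2_of_mem (Set.mem_univ j) p.2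
        have hover : Q' ((pairs (sec L V)).d j p.1) ∈ AddSubgroup.closure (FreeAbelianGroup.of ''
            over f ((res K g).app m ((map f V).app m ((sec L V).d j p.1.1))) (m + 1)) := by
          cases m with
          | zero => exact (hQ' _ hj).1
          | succ m => exact (hQ'.choose_spec.2 _ hj).1
        refine map_mem_closure _ (fun x hx => ?_) hover
        change (map f W).app (m + 1) x.1 = (K.map (x.2 ≫ SimplexCategory.δ j).op).app (op W) _
        rw [hx, op_comp, Functor.map_comp, NatTrans.comp_app, ConcreteCategory.comp_apply,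
          ← (map f V).comm, ← (res K g).comm]
        rfl
      · change (lab (sec L W) (m + 1)).bd (z p) = 0
        rw [map_sub, bd_diff, sub_eq_zero]
        cases m with
        | zero =>
          refine (closure_ext (f := diff g 1 0) (g := (lab (sec L W) 1).bd.comp (ext Q' 1))
            ?_ (hbde p))
          rintro q ⟨j, rfl⟩
          rw [AddMonoidHom.comp_apply, ext, FreeAbelianGroup.lift_apply_of, SS.Hom.bd_chain,
            (hQ' _ (Set.mem_image2_of_mem (Set.mem_univ j) p.2)).2]
          simp [diff, SS.Hom.chain_of, map_sub, labMap, push]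
        | succ k =>
          obtain ⟨Q'', -, hQ''⟩ := hQ'
          refine Eq.trans ?_ (closure_ext (f := diff g (k + 2) (k + 1) -
              (ext Q'' (k + 2)).comp (lab (pairs (sec L V)) (k + 2)).bd)
            (g := (lab (sec L W) (k + 2)).bd.comp (ext Q' (k + 2))) ?_ (hbde p))
          · simp [SS.bd_bd]
          · rintro q ⟨j, rfl⟩
            rw [AddMonoidHom.comp_apply (lab (sec L W) (k + 2)).bd, ext_of Q' (k + 2),
              SS.Hom.bd_chain,
              (hQ'' _ (Set.mem_image2_of_mem (Set.mem_univ j) p.2)).2, map_sub]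
            simp only [AddMonoidHom.sub_apply, AddMonoidHom.comp_apply]
            congr 1
            · simp only [SS.bd_of, map_sum, map_zsmul, ext, FreeAbelianGroup.lift_apply_of]
              refine Finset.sum_congr rfl fun i _ => ?_
              congr 1
              rw [SS.Hom.chain, SS.Hom.chain, SS.Hom.chain, ← AddMonoidHom.comp_apply,
                ← FreeAbelianGroup.map_comp]
              congr 2
    refine J.superset_covering ?_ (iInf_mem _ hz)
    intro W' g' hg'
    have hg'' := fun p : T => iInf_le (fun p : T =>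
      bdSieve (f := f) ((res K g).app (m + 1) ((map f V).app (m + 1) p.1.1)) (z p)) p _ hg'
    choose d hd hd' using hg''
    refine ⟨fun p => if hp : p ∈ T then d ⟨p, hp⟩ else 0, _, hty_res m g g' _ Q' hQ', fun p hpT => ?_⟩
    simp only [dif_pos hpT]
    refine ⟨by rw [res_comp]; exact hd ⟨p, hpT⟩, (hd' ⟨p, hpT⟩).trans ?_⟩
    simp only [z, e, map_sub]
    congr 1
    · simp only [diff, AddMonoidHom.sub_apply, AddMonoidHom.comp_apply, SS.Hom.chain_of, map_sub]
      congr 2 <;> exact Prod.ext (res_comp L g' g _ _).symm rfl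
    · simp only [SS.bd_of, map_sum, map_zsmul, ext, FreeAbelianGroup.lift_apply_of]
      refine Finset.sum_congr rfl fun i _ => ?_
      congr 1
      rw [SS.Hom.chain, SS.Hom.chain, SS.Hom.chain, SS.Hom.chain, ← AddMonoidHom.comp_apply,
        ← FreeAbelianGroup.map_comp, ← AddMonoidHom.comp_apply, ← FreeAbelianGroup.map_comp]
      rfl

end Homotopy

end Groth.Agent.HyperLib.RelFill
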