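import Groth.Agent.HyperLib.RelBij
import Groth.Agent.HyperLib.LocHom

/-!
Local trivial fibrations induce quasi-isomorphisms of free abelian sheaves.
-/

set_option autoImplicit false

universe u

open CategoryTheory CategoryTheory.Limits Opposite Simplicial AlgebraicTopology HomologicalComplex

namespace Groth.Agent.HyperLib.RelFill

open SemiSimp

variable {C : Type u} [SmallCategory C] {J : GrothendieckTopology C}
  {L K : SimplicialObject (Cᵒᵖ ⥤ Type u)} {f : L ⟶ K}

/-- Free abelian presheaves. -/
noncomputable abbrev freeG : (Cᵒᵖ ⥤ Type u) ⥤ (Cᵒᵖ ⥤ AddCommGrpCat.{u}) :=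
  (Functor.whiskeringRight _ _ _).obj AddCommGrpCat.free.{u}

variable (L) in
/-- The complex of free abelian presheaves. -/
noncomputable abbrev freeCx : ChainComplex (Cᵒᵖ ⥤ AddCommGrpCat.{u}) ℕ :=
  (alternatingFaceMapComplex _).obj (L ⋙ freeG)

lemma freeCx_d (n : ℕ) (V : C) (x : (sec L V).F (n + 1)) :
    ((freeCx L).d (n + 1) n).app (op V) x = (sec L V).bd x := by
  rw [alternatingFaceMapComplex_obj_d, AlternatingFaceMapComplex.objD, NatTrans.app_sum,
    ← AddCommGrpCat.homAddEquiv_apply, map_sum, AddMonoidHom.finsetSum_apply, SS.bd,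
    AddMonoidHom.finsetSum_apply]
  refine Finset.sum_congr rfl fun j _ => ?_
  rw [NatTrans.app_zsmul, map_zsmul]
  rfl

lemma freeCx_cyc (n : ℕ) (V : C) (x : (sec L V).F n) :
    ((freeCx L).d n ((ComplexShape.down ℕ).next n)).app (op V) x = 0 ↔ Cyc (sec L V) n x := by
  cases n with
  | zero =>
    refine iff_of_true ?_ trivial
    rw [(freeCx L).shape _ _ (by simp)]
    rfl
  | succ n =>
    rw [ChainComplex.next_nat_succ]
    exact (freeCx_d n V x).symm ▸ Iff.rfl

/-- The free complexes are locally bijective on homology. -/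
theorem isLocBij (hf : LTF J f) (n : ℕ) :
    LocHom.IsLocBij J n ((alternatingFaceMapComplex _).map (Functor.whiskerRight f freeG)) where
  surj U w hw := by
    refine ⟨_, cycSieve_mem hf (n := n) w ((freeCx_cyc n U w).1 hw), fun W g hg => ?_⟩
    obtain ⟨c', hc, hc'⟩ := hg
    exact ⟨c', (freeCx_cyc n W c').2 hc, hc'⟩
  inj U z hz he := by
    rw [ChainComplex.prev]
    obtain ⟨e, he⟩ : ∃ e, ((freeCx K).d (n + 1) n).app (op U) e = (map f U).chain n z := by
      rw [ChainComplex.prev] at he
      exact he
    refine ⟨_, boundSieve_mem hf (n := n) z ((freeCx_cyc n U z).1 hz) e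
      ((freeCx_d n U e).symm.trans he), fun W g hg => ?_⟩
    obtain ⟨d, hd⟩ := hg
    exact ⟨d, (freeCx_d n W d).trans hd⟩

/-- Sheafifying after forming the complex. -/
noncomputable def sheafCxIso (J : GrothendieckTopology C) (L : SimplicialObject (Cᵒᵖ ⥤ Type u)) :
    ((presheafToSheaf J AddCommGrpCat.{u}).mapHomologicalComplex _).obj (freeCx L) ≅
      (alternatingFaceMapComplex (Sheaf J AddCommGrpCat.{u})).obj
        (L ⋙ freeG ⋙ presheafToSheaf J AddCommGrpCat.{u}) :=
  eqToIso (Functor.congr_obj
    (map_alternatingFaceMapComplex (presheafToSheaf J AddCommGrpCat.{u})) (L ⋙ freeG))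

/-- A local trivial fibration induces isomorphisms of homology sheaves of free abelian sheaves. -/
theorem isIso_homologyMap_free (hf : LTF J f) (i : ℕ) :
    IsIso (homologyMap ((alternatingFaceMapComplex (Sheaf J AddCommGrpCat.{u})).map
      (Functor.whiskerRight f (freeG ⋙ presheafToSheaf J AddCommGrpCat.{u}))) i) := by
  have h := LocHom.isIso_homologyMap i _ (isLocBij hf i)
  have e : (alternatingFaceMapComplex (Sheaf J AddCommGrpCat.{u})).map
      (Functor.whiskerRight f (freeG ⋙ presheafToSheaf J AddCommGrpCat.{u})) =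
      (sheafCxIso J L).inv ≫ ((presheafToSheaf J AddCommGrpCat.{u}).mapHomologicalComplex _).map
        ((alternatingFaceMapComplex _).map (Functor.whiskerRight f freeG)) ≫
        (sheafCxIso J K).hom := by
    have := Functor.congr_hom
      (map_alternatingFaceMapComplex (presheafToSheaf J AddCommGrpCat.{u}))
      (Functor.whiskerRight f freeG)
    rw [Functor.comp_map] at this
    rw [this]
    simp [sheafCxIso]
    rfl
  rw [e, homologyMap_comp, homologyMap_comp]
  infer_instance

end Groth.Agent.HyperLib.RelFill
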