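import Mathlib.AlgebraicTopology.AlternatingFaceMapComplex
import Mathlib.Algebra.Category.Grp.Adjunctions
import Mathlib.GroupTheory.FreeAbelianGroup
import Mathlib.Algebra.BigOperators.Group.Finset.Lemmas
import Mathlib.Data.Set.Finite.Basic
import Mathlib.Data.Fintype.Prod
import Mathlib.Tactic.Abel
import Mathlib.Tactic.Ring
import Mathlib.Algebra.BigOperators.GroupWithZero.Action
import Mathlib.Algebra.Group.Submonoid.BigOperators

/-!
Semi-simplicial sets (only faces) and their free chain groups.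
-/

set_option autoImplicit false

universe u

namespace Groth.Agent.HyperLib.SemiSimp

/-- Families of sets with face maps. -/
structure SS where
  /-- Simplices. -/
  obj : ℕ → Type u
  /-- Faces. -/
  d : ∀ {n : ℕ}, Fin (n + 2) → obj (n + 1) → obj n
  dd : ∀ {n : ℕ} {i j : Fin (n + 2)}, i ≤ j → ∀ x : obj (n + 2),
    d i (d j.succ x) = d j (d i.castSucc x)

variable {A B : SS.{u}}

/-- Maps commuting with faces. -/
structure SS.Hom (A B : SS.{u}) where
  /-- The components. -/
  app : ∀ n : ℕ, A.obj n → B.obj n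
  comm : ∀ (n : ℕ) (j : Fin (n + 2)) (x : A.obj (n + 1)), B.d j (app (n + 1) x) = app n (A.d j x)

/-- Chains. -/
abbrev SS.F (A : SS.{u}) (n : ℕ) : Type u := FreeAbelianGroup (A.obj n)

/-- The differential. -/
noncomputable def SS.bd (A : SS.{u}) {n : ℕ} : A.F (n + 1) →+ A.F n :=
  ∑ j : Fin (n + 2), (-1 : ℤ) ^ (j : ℕ) • FreeAbelianGroup.map (A.d j)

lemma SS.bd_of {n : ℕ} (x : A.obj (n + 1)) :
    A.bd (FreeAbelianGroup.of x) =
      ∑ j : Fin (n + 2), (-1 : ℤ) ^ (j : ℕ) • FreeAbelianGroup.of (A.d j x) := by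
  simp [SS.bd, AddMonoidHom.finsetSum_apply, FreeAbelianGroup.map_of_apply]

/-- The map of chains. -/
noncomputable def SS.Hom.chain (φ : SS.Hom A B) (n : ℕ) : A.F n →+ B.F n :=
  FreeAbelianGroup.map (φ.app n)

lemma SS.Hom.chain_of (φ : SS.Hom A B) {n : ℕ} (x : A.obj n) :
    φ.chain n (FreeAbelianGroup.of x) = FreeAbelianGroup.of (φ.app n x) :=
  FreeAbelianGroup.map_of_apply _

lemma SS.Hom.bd_chain (φ : SS.Hom A B) {n : ℕ} (c : A.F (n + 1)) :
    B.bd (φ.chain (n + 1) c) = φ.chain n (A.bd c) := by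
  have h : B.bd.comp (φ.chain (n + 1)) = (φ.chain n).comp A.bd := by
    ext x
    simp [SS.bd_of, SS.Hom.chain_of, map_sum, φ.comm]
  exact DFunLike.congr_fun h c

lemma SS.bd_bd {n : ℕ} (c : A.F (n + 2)) : A.bd (A.bd c) = 0 := by
  induction c using FreeAbelianGroup.induction_on with
  | zero => rw [map_zero, map_zero]
  | neg x hx => rw [map_neg, map_neg, hx, neg_zero]
  | add x y hx hy => rw [map_add, map_add, hx, hy, add_zero]
  | of x =>
    simp only [SS.bd_of, map_sum, map_zsmul, Finset.smul_sum, smul_smul, ← Finset.sum_product']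
    let P := Fin (n + 3) × Fin (n + 2)
    let S : Finset P := {ij : P | (ij.1 : ℕ) ≤ (ij.2 : ℕ)}
    rw [Finset.univ_product_univ, ← Finset.sum_add_sum_compl S, ← eq_neg_iff_add_eq_zero,
      ← Finset.sum_neg_distrib]
    let φ : ∀ ij : P, ij ∈ S → P := fun ij hij =>
      (ij.2.succ, Fin.castLT ij.1 (lt_of_le_of_lt (Finset.mem_filter.mp hij).right ij.2.is_lt))
    apply Finset.sum_bij φ
    · intro ij hij
      simp_rw [S, φ, Finset.compl_filter, Finset.mem_filter_univ, Fin.val_succ,
        Fin.val_castLT] at hij ⊢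
      omega
    · rintro ⟨i, j⟩ hij ⟨i', j'⟩ hij' h
      have h1 := congrArg Prod.fst h
      have h2 := congrArg Prod.snd h
      refine Prod.ext (Fin.ext ?_) (Fin.succ_inj.mp h1)
      simpa [φ] using congrArg Fin.val h2
    · rintro ⟨i', j'⟩ hij'
      simp_rw [S, Finset.compl_filter, Finset.mem_filter_univ, not_le] at hij'
      refine ⟨(Fin.castSucc j', i'.pred ?_), ?_, ?_⟩
      · rintro rfl
        simp only [Fin.val_zero, not_lt_zero] at hij'
      · simp only [S, Finset.mem_filter_univ, Fin.val_castSucc, Fin.val_pred]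
        omega
      · simp only [φ, Fin.castLT_castSucc, Fin.succ_pred]
    · rintro ⟨i, j⟩ hij
      have hle : (i : ℕ) ≤ (j : ℕ) := by simpa [S] using hij
      simp only [φ, ← neg_smul]
      congr 1
      · simp only [Fin.val_succ, Fin.val_castLT, pow_add, pow_one, mul_neg, mul_one, neg_mul, neg_neg]
        ring
      · have := A.dd (i := Fin.castLT i (lt_of_le_of_lt hle j.is_lt)) (j := j) (by simpa [Fin.le_def] using hle) x
        rw [this, Fin.castSucc_castLT]

lemma closure_ext {α : Type u} {G : Type*} [AddCommGroup G] {T : Set α}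
    {f g : FreeAbelianGroup α →+ G} (h : ∀ x ∈ T, f (FreeAbelianGroup.of x) = g (FreeAbelianGroup.of x))
    {c : FreeAbelianGroup α} (hc : c ∈ AddSubgroup.closure (FreeAbelianGroup.of '' T)) : f c = g c := by
  induction hc using AddSubgroup.closure_induction with
  | zero => rw [map_zero, map_zero]
  | add a b _ _ ha hb => rw [map_add, map_add, ha, hb]
  | neg a _ ha => rw [map_neg, map_neg, ha]
  | mem z hz =>
    obtain ⟨x, hx, rfl⟩ := hz
    exact h x hx

lemma exists_finite_subset {α : Type u} {S : Set α} {c : FreeAbelianGroup α}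
    (hc : c ∈ AddSubgroup.closure (FreeAbelianGroup.of '' S)) :
    ∃ T ⊆ S, T.Finite ∧ c ∈ AddSubgroup.closure (FreeAbelianGroup.of '' T) := by
  induction hc using AddSubgroup.closure_induction with
  | zero => exact ⟨∅, Set.empty_subset _, Set.finite_empty, AddSubgroup.zero_mem _⟩
  | neg a _ ha =>
    obtain ⟨T, h1, h2, h3⟩ := ha
    exact ⟨T, h1, h2, AddSubgroup.neg_mem _ h3⟩
  | add a b _ _ ha hb =>
    obtain ⟨T, h1, h2, h3⟩ := ha
    obtain ⟨T', h1', h2', h3'⟩ := hb
    refine ⟨T ∪ T', Set.union_subset h1 h1', h2.union h2', AddSubgroup.add_mem _ ?_ ?_⟩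
    · exact AddSubgroup.closure_mono (Set.image_mono Set.subset_union_left) h3
    · exact AddSubgroup.closure_mono (Set.image_mono Set.subset_union_right) h3'
  | mem z hz =>
    obtain ⟨x, hx, rfl⟩ := hz
    exact ⟨{x}, Set.singleton_subset_iff.2 hx, Set.finite_singleton x,
      AddSubgroup.subset_closure ⟨x, rfl, rfl⟩⟩

lemma mem_closure_univ {α : Type u} (c : FreeAbelianGroup α) :
    c ∈ AddSubgroup.closure (FreeAbelianGroup.of '' (Set.univ : Set α)) := by
  induction c using FreeAbelianGroup.induction_on with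
  | zero => exact AddSubgroup.zero_mem _
  | of x => exact AddSubgroup.subset_closure ⟨x, trivial, rfl⟩
  | neg x ih => exact AddSubgroup.neg_mem _ ih
  | add x y hx hy => exact AddSubgroup.add_mem _ hx hy

lemma map_mem_closure {α β : Type u} (f : α → β) {S : Set α} {T : Set β} (h : ∀ x ∈ S, f x ∈ T)
    {c : FreeAbelianGroup α} (hc : c ∈ AddSubgroup.closure (FreeAbelianGroup.of '' S)) :
    FreeAbelianGroup.map f c ∈ AddSubgroup.closure (FreeAbelianGroup.of '' T) := by
  induction hc using AddSubgroup.closure_induction with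
  | zero => rw [map_zero]; exact AddSubgroup.zero_mem _
  | add a b _ _ ha hb => rw [map_add]; exact AddSubgroup.add_mem _ ha hb
  | neg a _ ha => rw [map_neg]; exact AddSubgroup.neg_mem _ ha
  | mem z hz =>
    obtain ⟨x, hx, rfl⟩ := hz
    rw [FreeAbelianGroup.map_of_apply]
    exact AddSubgroup.subset_closure ⟨_, h x hx, rfl⟩

lemma lift_mem_closure {α : Type u} {G : Type*} [AddCommGroup G] {S : Set α} {H : AddSubgroup G}
    (φ : α → G) (h : ∀ x ∈ S, φ x ∈ H) {c : FreeAbelianGroup α}
    (hc : c ∈ AddSubgroup.closure (FreeAbelianGroup.of '' S)) : FreeAbelianGroup.lift φ c ∈ H := by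
  induction hc using AddSubgroup.closure_induction with
  | zero => rw [map_zero]; exact AddSubgroup.zero_mem _
  | add a b _ _ ha hb => rw [map_add]; exact AddSubgroup.add_mem _ ha hb
  | neg a _ ha => rw [map_neg]; exact AddSubgroup.neg_mem _ ha
  | mem z hz =>
    obtain ⟨x, hx, rfl⟩ := hz
    rw [FreeAbelianGroup.lift_apply_of]
    exact h x hx

lemma bd_mem_closure (A : SS.{u}) {n : ℕ} {S : Set (A.obj (n + 1))} {T : Set (A.obj n)}
    (h : ∀ x ∈ S, ∀ j, A.d j x ∈ T) {c : A.F (n + 1)}
    (hc : c ∈ AddSubgroup.closure (FreeAbelianGroup.of '' S)) :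
    A.bd c ∈ AddSubgroup.closure (FreeAbelianGroup.of '' T) := by
  rw [SS.bd, AddMonoidHom.finsetSum_apply]
  refine sum_mem fun j _ => ?_
  exact AddSubgroup.zsmul_mem _ (map_mem_closure _ (fun x hx => h x hx j) hc) _

end Groth.Agent.HyperLib.SemiSimp
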