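import Mathlib.AlgebraicTopology.SimplexCategory.Basic
import Mathlib.CategoryTheory.Category.Preorder
import Mathlib.CategoryTheory.EqToHom
import Mathlib.Data.Finset.Sort
import Mathlib.Data.Fintype.Powerset

/-!
Diagrams on the nonempty subsets of finite ordinals: gluing along faces and extension by a top
object.
-/

set_option autoImplicit false

universe v u

open CategoryTheory Opposite Simplicial

namespace Groth.Agent.HyperLib.Sub

/-- The nonempty subsets of `[m]`. -/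
abbrev NE (m : ℕ) : Type := {S : Finset (Fin (m + 1)) // S.Nonempty}

/-- The proper nonempty subsets of `[m]`. -/
abbrev PS (m : ℕ) : Type := {S : NE m // S.1 ≠ Finset.univ}

/-- The largest subset. -/
abbrev top (m : ℕ) : NE m := ⟨Finset.univ, Finset.univ_nonempty⟩

lemma le_top' {m : ℕ} (S : NE m) : S ≤ top m := Finset.subset_univ S.1

/-- The image of a subset. -/
def imS {k m : ℕ} (θ : ⦋k⦌ ⟶ ⦋m⦌) (S : NE k) : NE m := ⟨S.1.image θ.toOrderHom, S.2.image _⟩

lemma imS_mono {k m : ℕ} (θ : ⦋k⦌ ⟶ ⦋m⦌) : Monotone (imS θ) :=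
  fun _ _ h => Finset.image_subset_image h

/-- The image functor. -/
def im {k m : ℕ} (θ : ⦋k⦌ ⟶ ⦋m⦌) : (NE k)ᵒᵖ ⥤ (NE m)ᵒᵖ := (imS_mono θ).functor.op

lemma imS_id {m : ℕ} (S : NE m) : imS (𝟙 ⦋m⦌) S = S := Subtype.ext Finset.image_id

lemma imS_comp {k l m : ℕ} (θ : ⦋k⦌ ⟶ ⦋l⦌) (θ' : ⦋l⦌ ⟶ ⦋m⦌) (S : NE k) :
    imS (θ ≫ θ') S = imS θ' (imS θ S) := Subtype.ext (by
  simp only [imS, Finset.image_image]
  rfl)

lemma imS_δ_ne {n : ℕ} (j : Fin (n + 2)) (S : NE n) : (imS (SimplexCategory.δ j) S).1 ≠ Finset.univ := by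
  intro h
  have hj : j ∈ (imS (SimplexCategory.δ j) S).1 := h ▸ Finset.mem_univ j
  obtain ⟨a, -, ha⟩ := Finset.mem_image.1 hj
  exact Fin.succAbove_ne j a ha

/-- The image in the proper subsets. -/
def imP {n : ℕ} (j : Fin (n + 2)) (S : NE n) : PS (n + 1) := ⟨imS (SimplexCategory.δ j) S, imS_δ_ne j S⟩

lemma imP_mono {n : ℕ} (j : Fin (n + 2)) : Monotone (imP j) := fun _ _ h => imS_mono _ h

/-- The image functor of a face. -/
def imPF {n : ℕ} (j : Fin (n + 2)) : (NE n)ᵒᵖ ⥤ (PS (n + 1))ᵒᵖ := (imP_mono j).functor.op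

/-- Proper subsets as subsets. -/
def incl (m : ℕ) : (PS m)ᵒᵖ ⥤ (NE m)ᵒᵖ :=
  (show Monotone (fun S : PS m => S.1) from fun _ _ h => h).functor.op

lemma imPF_incl {n : ℕ} (j : Fin (n + 2)) : imPF j ⋙ incl (n + 1) = im (SimplexCategory.δ j) := rfl

instance (m : ℕ) (a b : (NE m)ᵒᵖ) : Subsingleton (a ⟶ b) :=
  ⟨fun f g => Quiver.Hom.unop_inj (Subsingleton.elim _ _)⟩

instance (m : ℕ) (a b : (PS m)ᵒᵖ) : Subsingleton (a ⟶ b) :=
  ⟨fun f g => Quiver.Hom.unop_inj (Subsingleton.elim _ _)⟩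

/-- The arrow of an inclusion. -/
abbrev arr {α : Type*} [Preorder α] {S T : α} (h : T ≤ S) : (op S : αᵒᵖ) ⟶ op T := (homOfLE h).op

variable {D : Type u} [Category.{v} D]

/-- In a thin category a functor sends conjugate morphisms to conjugate morphisms. -/
lemma map_conj {α : Type*} [Category α] [∀ a b : α, Subsingleton (a ⟶ b)] (F : α ⥤ D) {a b a' b' : α}
    (ea : a = a') (eb : b' = b) (f : a ⟶ b) (g : a' ⟶ b') (e₁ : F.obj a = F.obj a') (e₂ : F.obj b' = F.obj b) :
    F.map f = eqToHom e₁ ≫ F.map g ≫ eqToHom e₂ := by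
  subst ea
  subst eb
  rw [eqToHom_refl, eqToHom_refl, Category.id_comp, Category.comp_id, Subsingleton.elim f g]

lemma im_id_comp {m : ℕ} (F : (NE m)ᵒᵖ ⥤ D) : im (𝟙 ⦋m⦌) ⋙ F = F :=
  CategoryTheory.Functor.ext (fun S => congrArg (fun T => F.obj (op T)) (imS_id S.unop)) (fun S T f =>
    map_conj F (congrArg op (imS_id S.unop)) (congrArg op (imS_id T.unop)).symm _ f _ _)

lemma im_comp {k l m : ℕ} (θ : ⦋k⦌ ⟶ ⦋l⦌) (θ' : ⦋l⦌ ⟶ ⦋m⦌) (F : (NE m)ᵒᵖ ⥤ D) :
    im (θ ≫ θ') ⋙ F = im θ ⋙ (im θ' ⋙ F) :=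
  CategoryTheory.Functor.ext (fun S => congrArg (fun T => F.obj (op T)) (imS_comp θ θ' S.unop)) (fun S T f =>
    map_conj F (congrArg op (imS_comp θ θ' S.unop)) (congrArg op (imS_comp θ θ' T.unop)).symm _ _ _ _)

/-- A morphism composed with a transport is a morphism. -/
lemma map_eqToHom {α : Type*} [Category α] [∀ a b : α, Subsingleton (a ⟶ b)] (F : α ⥤ D) {a b c : α}
    (f : a ⟶ b) (e : b = c) (e' : F.obj b = F.obj c) (g : a ⟶ c) : F.map f ≫ eqToHom e' = F.map g := by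
  subst e
  rw [eqToHom_refl, Category.comp_id, Subsingleton.elim f g]

lemma mem_of_le {m : ℕ} {S T : PS m} (h : T ≤ S) {i : Fin (m + 1)} (hi : i ∉ S.1.1) : i ∉ T.1.1 :=
  fun hi' => hi (h hi')

lemma exists_not_mem {m : ℕ} (S : PS m) : ∃ i, i ∉ S.1.1 := by
  by_contra h
  exact S.2 (Finset.eq_univ_iff_forall.2 fun i => not_not.1 fun hi => h ⟨i, hi⟩)

lemma exists_pre {n : ℕ} (S : PS (n + 1)) (j : Fin (n + 2)) (hj : j ∉ S.1.1) :
    ∃ A : NE n, imP j A = S := by
  classical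
  refine ⟨⟨Finset.univ.filter (fun a => j.succAbove a ∈ S.1.1), ?_⟩, ?_⟩
  · obtain ⟨x, hx⟩ := S.1.2
    obtain ⟨a, rfl⟩ := Fin.exists_succAbove_eq (ne_of_mem_of_not_mem hx hj)
    exact ⟨a, by simp [hx]⟩
  · refine Subtype.ext (Subtype.ext (Finset.ext fun x => ?_))
    constructor
    · intro hx
      obtain ⟨a, ha, rfl⟩ := Finset.mem_image.1 hx
      exact (Finset.mem_filter.1 ha).2
    · intro hx
      obtain ⟨a, rfl⟩ := Fin.exists_succAbove_eq (ne_of_mem_of_not_mem hx hj)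
      exact Finset.mem_image.2 ⟨a, Finset.mem_filter.2 ⟨Finset.mem_univ _, hx⟩, rfl⟩

lemma imS_δ_le_iff {n : ℕ} (j : Fin (n + 2)) (A B : NE n) : imP j A ≤ imP j B ↔ A ≤ B :=
  Finset.image_subset_image_iff Fin.succAbove_right_injective

lemma imP_injective {n : ℕ} (j : Fin (n + 2)) : Function.Injective (imP j) := fun A B h =>
  le_antisymm ((imS_δ_le_iff j A B).1 h.le) ((imS_δ_le_iff j B A).1 h.ge)

/-- The monotone enumeration of a subset. -/
lemma exists_enum {m : ℕ} (S : NE m) : ∃ (k : ℕ) (θ : ⦋k⦌ ⟶ ⦋m⦌),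
    imS θ (top k) = S ∧ Function.Injective θ.toOrderHom := by
  classical
  obtain ⟨k, hk⟩ : ∃ k, S.1.card = k + 1 := ⟨S.1.card - 1, by have := S.2.card_pos; omega⟩
  refine ⟨k, SimplexCategory.Hom.mk (S.1.orderEmbOfFin hk).toOrderHom, Subtype.ext ?_,
    (S.1.orderEmbOfFin hk).injective⟩
  exact Finset.image_orderEmbOfFin_univ S.1 hk

/-- Functors on proper subsets agreeing on all faces are equal. -/
lemma functor_ext {n : ℕ} (G G' : (PS (n + 1))ᵒᵖ ⥤ D) (h : ∀ j, imPF j ⋙ G = imPF j ⋙ G') : G = G' := by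
  refine CategoryTheory.Functor.ext (fun S => ?_) (fun S T f => ?_)
  · obtain ⟨j, hj⟩ := exists_not_mem S.unop
    obtain ⟨A, hA⟩ := exists_pre S.unop j hj
    obtain rfl : op (imP j A) = S := congrArg op hA
    exact CategoryTheory.Functor.congr_obj (h j) (op A)
  · obtain ⟨j, hj⟩ := exists_not_mem S.unop
    obtain ⟨A, hA⟩ := exists_pre S.unop j hj
    obtain ⟨B, hB⟩ := exists_pre T.unop j (mem_of_le (leOfHom f.unop) hj)
    obtain rfl : op (imP j A) = S := congrArg op hA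
    obtain rfl : op (imP j B) = T := congrArg op hB
    rw [show f = (imPF j).map (arr ((imS_δ_le_iff j B A).1 (leOfHom f.unop))) from Subsingleton.elim _ _]
    exact CategoryTheory.Functor.congr_hom (h j) _

section Glue

variable {n : ℕ} (F : Fin (n + 2) → ((NE n)ᵒᵖ ⥤ D))

/-- Agreement on common faces. -/
def Agree : Prop :=
  ∀ (k : ℕ) (i j : Fin (n + 2)) (θ θ' : ⦋k⦌ ⟶ ⦋n⦌),
    θ ≫ SimplexCategory.δ i = θ' ≫ SimplexCategory.δ j → im θ ⋙ F i = im θ' ⋙ F j

variable {F}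

lemma exists_common {i j : Fin (n + 2)} {A B : NE n} (h : imP i A = imP j B) :
    ∃ (k : ℕ) (θ θ' : ⦋k⦌ ⟶ ⦋n⦌), imS θ (top k) = A ∧ imS θ' (top k) = B ∧
      θ ≫ SimplexCategory.δ i = θ' ≫ SimplexCategory.δ j := by
  obtain ⟨k, θ, hθ, hinj⟩ := exists_enum A
  obtain ⟨θ', hθ'⟩ := SimplexCategory.eq_comp_δ_of_not_surjective' (θ ≫ SimplexCategory.δ i) j (fun x hx => by
    have hmem : j ∈ (imP j B).1.1 := by
      rw [← h, ← hθ]
      exact Finset.mem_image.2 ⟨θ.toOrderHom x, Finset.mem_image_of_mem _ (Finset.mem_univ x), hx⟩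
    obtain ⟨a, -, ha⟩ := Finset.mem_image.1 hmem
    exact Fin.succAbove_ne j a ha)
  refine ⟨k, θ, θ', hθ, imP_injective j (Subtype.ext ?_), hθ'⟩
  change imS (SimplexCategory.δ j) (imS θ' (top k)) = _
  rw [← imS_comp, ← hθ', imS_comp, hθ]
  exact congrArg Subtype.val h

theorem Agree.obj_eq (hF : Agree F) {i j : Fin (n + 2)} {A B : NE n} (h : imP i A = imP j B) :
    (F i).obj (op A) = (F j).obj (op B) := by
  obtain ⟨k, θ, θ', rfl, rfl, e⟩ := exists_common h
  exact CategoryTheory.Functor.congr_obj (hF k i j θ θ' e) (op (top k))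

lemma exists_preimage {k m : ℕ} (θ : ⦋k⦌ ⟶ ⦋m⦌) {B : NE m} (hB : B ≤ imS θ (top k)) :
    ∃ a : NE k, imS θ a = B := by
  classical
  refine ⟨⟨Finset.univ.filter (fun x => θ.toOrderHom x ∈ B.1), ?_⟩, Subtype.ext (Finset.ext fun y => ?_)⟩
  · obtain ⟨y, hy⟩ := B.2
    obtain ⟨x, -, rfl⟩ := Finset.mem_image.1 (hB hy)
    exact ⟨x, Finset.mem_filter.2 ⟨Finset.mem_univ _, hy⟩⟩
  · constructor
    · intro hy
      obtain ⟨x, hx, rfl⟩ := Finset.mem_image.1 hy
      exact (Finset.mem_filter.1 hx).2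
    · intro hy
      obtain ⟨x, -, rfl⟩ := Finset.mem_image.1 (hB hy)
      exact Finset.mem_image.2 ⟨x, Finset.mem_filter.2 ⟨Finset.mem_univ _, hy⟩, rfl⟩

theorem Agree.map_eq (hF : Agree F) {i j : Fin (n + 2)} {A A' B B' : NE n} (h : imP i A = imP j B)
    (h' : imP i A' = imP j B') (hA : A' ≤ A) (hB : B' ≤ B) :
    (F i).map (arr hA) = eqToHom (hF.obj_eq h) ≫ (F j).map (arr hB) ≫ eqToHom (hF.obj_eq h').symm := by
  obtain ⟨k, θ, θ', rfl, rfl, e⟩ := exists_common h
  obtain ⟨a, rfl⟩ := exists_preimage θ hA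
  obtain rfl : B' = imS θ' a := imP_injective j (h'.symm.trans (Subtype.ext (by
    change imS (SimplexCategory.δ i) (imS θ a) = imS (SimplexCategory.δ j) (imS θ' a)
    rw [← imS_comp, ← imS_comp, e])))
  exact CategoryTheory.Functor.congr_hom (hF k i j θ θ' e) (arr (le_top' a))

/-- Agreeing diagrams glue. -/
theorem exists_glue (hF : Agree F) : ∃ G : (PS (n + 1))ᵒᵖ ⥤ D, ∀ j, imPF j ⋙ G = F j := by
  choose J hJ using fun S : PS (n + 1) => exists_not_mem S
  choose P hP using fun S : PS (n + 1) => exists_pre S (J S) (hJ S)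
  choose Q hQ using fun (S T : PS (n + 1)) (h : T ≤ S) => exists_pre T (J S) (mem_of_le h (hJ S))
  have hle : ∀ S T (h : T ≤ S), Q S T h ≤ P S := fun S T h =>
    (imS_δ_le_iff (J S) _ _).1 (by rw [hQ, hP]; exact h)
  let m : ∀ S T : PS (n + 1), T ≤ S → ((F (J S)).obj (op (P S)) ⟶ (F (J T)).obj (op (P T))) :=
    fun S T h => (F (J S)).map (arr (hle S T h)) ≫ eqToHom (hF.obj_eq ((hQ S T h).trans (hP T).symm))
  have hm : ∀ (S T : PS (n + 1)) (h : T ≤ S) (i : Fin (n + 2)) (A B : NE n) (hA : imP i A = S) (hB : imP i B = T)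
      (hAB : B ≤ A), m S T h = eqToHom (hF.obj_eq ((hP S).trans hA.symm)) ≫ (F i).map (arr hAB) ≫
        eqToHom (hF.obj_eq (hB.trans (hP T).symm)) := by
    intro S T h i A B hA hB hAB
    simp only [m]
    rw [hF.map_eq ((hP S).trans hA.symm) ((hQ S T h).trans hB.symm) (hle S T h) hAB]
    simp
  let G : (PS (n + 1))ᵒᵖ ⥤ D :=
    { obj := fun S => (F (J S.unop)).obj (op (P S.unop))
      map := fun {S T} f => m S.unop T.unop (leOfHom f.unop)
      map_id := fun S => by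
        rw [hm S.unop S.unop _ (J S.unop) (P S.unop) (P S.unop) (hP _) (hP _) le_rfl]
        rw [show arr (le_refl (P S.unop)) = 𝟙 _ from Subsingleton.elim _ _]
        simp
      map_comp := fun {S T U} f g => by
        have h₁ := leOfHom f.unop
        have h₂ := leOfHom g.unop
        obtain ⟨A, hA⟩ := exists_pre S.unop (J S.unop) (hJ _)
        obtain ⟨B, hB⟩ := exists_pre T.unop (J S.unop) (mem_of_le h₁ (hJ _))
        obtain ⟨E, hE⟩ := exists_pre U.unop (J S.unop) (mem_of_le (h₂.trans h₁) (hJ _))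
        have hBA : B ≤ A := (imS_δ_le_iff (J S.unop) _ _).1 (by rw [hA, hB]; exact h₁)
        have hEB : E ≤ B := (imS_δ_le_iff (J S.unop) _ _).1 (by rw [hE, hB]; exact h₂)
        rw [hm S.unop U.unop _ (J S.unop) A E hA hE (hEB.trans hBA),
          hm S.unop T.unop _ (J S.unop) A B hA hB hBA, hm T.unop U.unop _ (J S.unop) B E hB hE hEB,
          show arr (hEB.trans hBA) = arr hBA ≫ arr hEB from Subsingleton.elim _ _, Functor.map_comp]
        simp }
  refine ⟨G, fun j => CategoryTheory.Functor.ext (fun A => hF.obj_eq (hP (imP j A.unop))) (fun A B f => ?_)⟩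
  exact hm (imP j A.unop) (imP j B.unop) _ j A.unop B.unop rfl rfl (leOfHom f.unop)

end Glue

section Extend

variable {m : ℕ} (G : (PS m)ᵒᵖ ⥤ D) (b : D) (c : (Functor.const (PS m)ᵒᵖ).obj b ⟶ G)

lemma eq_top_of_le {S T : NE m} (h : T ≤ S) (hT : T.1 = Finset.univ) : S.1 = Finset.univ :=
  Finset.univ_subset_iff.1 (hT ▸ h)

open Classical in
/-- The objects of the extension. -/
noncomputable def extObj (S : NE m) : D := if h : S.1 = Finset.univ then b else G.obj (op ⟨S, h⟩)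

lemma extObj_pos {S : NE m} (h : S.1 = Finset.univ) : extObj G b S = b := dif_pos h

lemma extObj_neg {S : NE m} (h : S.1 ≠ Finset.univ) : extObj G b S = G.obj (op ⟨S, h⟩) := dif_neg h

open Classical in
/-- The maps of the extension. -/
noncomputable def extMap (S T : NE m) (h : T ≤ S) : extObj G b S ⟶ extObj G b T :=
  if hT : T.1 = Finset.univ then
    eqToHom ((extObj_pos G b (eq_top_of_le h hT)).trans (extObj_pos G b hT).symm)
  else if hS : S.1 = Finset.univ then
    eqToHom (extObj_pos G b hS) ≫ c.app (op ⟨T, hT⟩) ≫ eqToHom (extObj_neg G b hT).symm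
  else eqToHom (extObj_neg G b hS) ≫ G.map (arr (S := (⟨S, hS⟩ : PS m)) (T := ⟨T, hT⟩) h) ≫ eqToHom (extObj_neg G b hT).symm

/-- Extension of a diagram on proper subsets by a cone. -/
noncomputable def extend : (NE m)ᵒᵖ ⥤ D where
  obj S := extObj G b S.unop
  map {S T} f := extMap G b c S.unop T.unop (leOfHom f.unop)
  map_id S := by
    unfold extMap
    by_cases hS : S.unop.1 = Finset.univ
    · rw [dif_pos hS]; rfl
    · rw [dif_neg hS, dif_neg hS, show arr (le_refl (⟨S.unop, hS⟩ : PS m)) = 𝟙 _ from Subsingleton.elim _ _]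
      simp
  map_comp {S T U} f g := by
    unfold extMap
    by_cases hU : U.unop.1 = Finset.univ
    · have hT := eq_top_of_le (leOfHom g.unop) hU
      rw [dif_pos hU, dif_pos hU, dif_pos hT, eqToHom_trans]
    · by_cases hT : T.unop.1 = Finset.univ
      · have hS := eq_top_of_le (leOfHom f.unop) hT
        rw [dif_neg hU, dif_neg hU, dif_pos hT, dif_pos hT, dif_pos hS, eqToHom_trans_assoc]
      · by_cases hS : S.unop.1 = Finset.univ
        · rw [dif_neg hU, dif_pos hS, dif_neg hT, dif_pos hS, dif_neg hU, dif_neg hT]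
          have hn := c.naturality (arr (S := (⟨T.unop, hT⟩ : PS m)) (T := ⟨U.unop, hU⟩) (leOfHom g.unop))
          simp only [Functor.const_obj_map] at hn
          simp only [Category.assoc, eqToHom_trans_assoc, eqToHom_refl, Category.id_comp]
          erw [← reassoc_of% hn]
          exact congrArg (_ ≫ ·) (Category.id_comp _).symm
        · rw [dif_neg hU, dif_neg hS, dif_neg hT, dif_neg hS, dif_neg hU, dif_neg hT,
            show arr (S := (⟨S.unop, hS⟩ : PS m)) (T := ⟨U.unop, hU⟩) (leOfHom (f ≫ g).unop) =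
              arr (S := (⟨S.unop, hS⟩ : PS m)) (T := ⟨T.unop, hT⟩) (leOfHom f.unop) ≫
                arr (S := (⟨T.unop, hT⟩ : PS m)) (T := ⟨U.unop, hU⟩) (leOfHom g.unop)
              from Subsingleton.elim _ _, Functor.map_comp]
          simp

lemma extend_top : (extend G b c).obj (op (top m)) = b := extObj_pos G b rfl

lemma incl_extend : incl m ⋙ extend G b c = G :=
  CategoryTheory.Functor.ext (fun S => extObj_neg G b S.unop.2) (fun S T f => by
    change extMap G b c S.unop.1 T.unop.1 _ = _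
    unfold extMap
    rw [dif_neg T.unop.2, dif_neg S.unop.2]
    rfl)

lemma extend_map_top (T : PS m) :
    (extend G b c).map (arr (le_top' T.1)) =
      eqToHom (extend_top G b c) ≫ c.app (op T) ≫
        eqToHom (CategoryTheory.Functor.congr_obj (incl_extend G b c) (op T)).symm := by
  change extMap G b c (top m) T.1 _ = _
  unfold extMap
  rw [dif_neg T.2, dif_pos rfl]
  rfl

end Extend

end Groth.Agent.HyperLib.Sub
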